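import Mathlib
import Cfsg.Agent.CtRecD.SchDefs

set_option autoImplicit false
set_option linter.unusedSectionVars false
set_option linter.unusedVariables false

/-!
# S2094 (Schur multiplier of `Ω_{2m+1}(q)`, `q` odd): the Steinberg relations of type `B_m` (helper9)

Index set `IdxB m = Unit ⊕ Idx m` (`Idx m = Fin m ⊕ Fin m` with the involution `Sum.swap`, as in `CtRecD`): the
coordinate `inl ()` is the anisotropic vector `e₀`, `inr (inl i)` has weight `e_i`, `inr (inr i)` has weight `-e_i`;
the quadratic form is `quadFormOdd m K = x₀² + ∑ x_i y_i`.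

* long roots `ε_a - ε_b` (`Rt a b`): `bX a b t = 1 + t (E_{ab} - E_{b̄ā})` (the matrices `oX a b t` of type `D_m`, extended by `1`);
* short roots `ε_a`: `bY a t = 1 + t (2 E_{a0} - E_{0ā}) - t² E_{aā}`.

`OB m K Γ`: elements `x a b t`, `y a t` of a group `Γ` with the relations of these matrices; it extends `OD m K Γ`, so all lemmas
on `OD`-systems apply to the long roots (`S.toOD`).  The system of type `B_m` is the folding of the system of type `D_{m+1}`:
`y a t = x a b t * x a b̄ t` for the additional index `b`.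
-/

namespace Cfsg.Agent.CtRecB

open Matrix Cfsg.Agent.CtRecD

/-- the index set of the quadratic space of dimension `2m + 1`. -/
abbrev IdxB (m : ℕ) : Type := Unit ⊕ Idx m

/-- the long root elements `1 + t (E_{ab} - E_{b̄ā})`. -/
def bX {m : ℕ} {K : Type*} [Field K] (a b : Idx m) (t : K) : Matrix (IdxB m) (IdxB m) K :=
  Matrix.fromBlocks 1 0 0 (oX a b t)

/-- the short root elements `1 + t (2 E_{a0} - E_{0ā}) - t² E_{aā}`. -/
def bY {m : ℕ} {K : Type*} [Field K] (a : Idx m) (t : K) : Matrix (IdxB m) (IdxB m) K :=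
  Matrix.fromBlocks 1 (Matrix.of fun _ j => if j = a.swap then -t else 0)
    (Matrix.of fun i _ => if i = a then 2 * t else 0) (1 - Matrix.single a a.swap (t * t))

/-- Elements `x a b t` (`Rt a b`: the root `ε_a - ε_b`) and `y a t` (the root `ε_a`) of a group `Γ` with the Steinberg relations of
type `B_m`, in the parametrisation by the matrices `bX`, `bY`. -/
structure OB (m : ℕ) (K : Type*) [Field K] (Γ : Type*) [Group Γ] extends OD m K Γ where
  /-- the short root elements `y a t` -/
  y : Idx m → K → Γ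
  yadd : ∀ (a : Idx m) (t u : K), y a t * y a u = y a (t + u)
  yy : ∀ a b, Rt a b → ∀ t u : K,
    y a t * y b u * (y a t)⁻¹ * (y b u)⁻¹ = x a b.swap (-(2 * t * u))
  xy : ∀ a b, Rt a b → ∀ t u : K,
    x a b t * y b u * (x a b t)⁻¹ * (y b u)⁻¹ = y a (t * u) * x a b.swap (t * u * u)
  xy_comm : ∀ a b c, Rt a b → c ≠ b → c ≠ a.swap → ∀ t u : K, x a b t * y c u = y c u * x a b t

namespace OB

variable {m : ℕ} {K : Type*} [Field K] {Γ : Type*} [Group Γ] (S : OB m K Γ)

/-- the elements `w_a(u) = y_a(u) y_ā(u⁻¹) y_a(u)` of the short roots. -/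
def ws (a : Idx m) (u : K) : Γ := S.y a u * S.y a.swap u⁻¹ * S.y a u

/-- the elements `h_a(u) = w_a(u) w_a(-1)` of the short roots; their matrix is `diag(u² at a, u⁻² at ā)`. -/
def hs (a : Idx m) (u : K) : Γ := S.ws a u * S.ws a (-1)

/-- the generators of a system of type `B_m`. -/
def gensB : Set Γ :=
  {g | (∃ (a b : Idx m) (t : K), Rt a b ∧ g = S.x a b t) ∨ ∃ (a : Idx m) (t : K), g = S.y a t}

/-- the permutation of the indices of the reflection in the short root `ε_a`. -/
def sB (a : Idx m) : Equiv.Perm (Idx m) := Equiv.swap a a.swap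

/-- the coefficients of the monomial matrix `w_a(u)`: `e_a ↦ -u⁻² e_ā`, `e_ā ↦ -u² e_a`, `e₀ ↦ -e₀`. -/
def cB (a : Idx m) (u : K) (i : Idx m) : K :=
  if i = a then -(u⁻¹ * u⁻¹) else if i = a.swap then -(u * u) else 1

/-- the diagonal coefficients of `h_a(t)`. -/
def hDs (a : Idx m) (t : K) (i : Idx m) : K :=
  if i = a then t * t else if i = a.swap then t⁻¹ * t⁻¹ else 1

end OB

end Cfsg.Agent.CtRecB
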