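import Mathlib
import Cfsg.Agent.CtRecB.Defs

set_option autoImplicit false
set_option linter.unusedSectionVars false
set_option linter.unusedVariables false

/-!
# S2094: shared definitions for groups with the Steinberg relations of type `B_m` (helper9)

`MonB` (monomial action on all root elements), `WtB`, `HtB`, `UtB`, `IsMat` (a homomorphism to the matrices sending the root
elements to `bX`, `bY`).  Positive roots: `ε_a - ε_b` with `ord a < ord b`, and `ε_a` with `a = inl i`; the simple roots are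
`(inl i, inl (i+1))` and the short root `ε_{inl (m-1)}`.
-/

namespace Cfsg.Agent.CtRecB

open Matrix Cfsg.Agent.CtRecD

namespace OB

variable {m : ℕ} {K : Type*} [Field K] {Γ : Type*} [Group Γ] (S : OB m K Γ)

/-- `g` acts monomially on the root elements, like a matrix `e_i ↦ a i • e_{σ i}`, `e₀ ↦ ε • e₀`. -/
def MonB (g : Γ) (σ : Equiv.Perm (Idx m)) (a : Idx m → K) (ε : K) : Prop :=
  (∀ i, a i ≠ 0) ∧ (∀ i : Idx m, a i.swap = (a i)⁻¹) ∧ (ε = 1 ∨ ε = -1) ∧
    (∀ i : Idx m, σ i.swap = (σ i).swap) ∧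
    (∀ i j, Rt i j → ∀ c : K, MulAut.conj g (S.x i j c) = S.x (σ i) (σ j) (a i * (a j)⁻¹ * c)) ∧
    ∀ (i : Idx m) (c : K), MulAut.conj g (S.y i c) = S.y (σ i) (ε * a i * c)

/-- the subgroup generated by the elements `w_kl(u)` and `w_a(u)`. -/
def WtB : Subgroup Γ :=
  Subgroup.closure {g | (∃ (k l : Idx m) (u : K), Rt k l ∧ u ≠ 0 ∧ g = S.w k l u) ∨
    ∃ (a : Idx m) (u : K), u ≠ 0 ∧ g = S.ws a u}

/-- the subgroup generated by the elements `h_kl(u)` and `h_a(u)`. -/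
def HtB : Subgroup Γ :=
  Subgroup.closure {g | (∃ (k l : Idx m) (u : K), Rt k l ∧ u ≠ 0 ∧ g = S.h k l u) ∨
    ∃ (a : Idx m) (u : K), u ≠ 0 ∧ g = S.hs a u}

/-- the subgroup generated by the positive root elements. -/
def UtB : Subgroup Γ :=
  Subgroup.closure {g | (∃ (a b : Idx m) (t : K), Rt a b ∧ ord a < ord b ∧ g = S.x a b t) ∨
    ∃ (i : Fin m) (t : K), g = S.y (Sum.inl i) t}

/-- a homomorphism to the matrices which maps the root elements to the root matrices. -/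
structure IsMat (φ : Γ →* Matrix (IdxB m) (IdxB m) K) : Prop where
  x : ∀ a b, Rt a b → ∀ t : K, φ (S.x a b t) = bX a b t
  y : ∀ (a : Idx m) (t : K), φ (S.y a t) = bY a t

theorem w_mem_WtB {k l : Idx m} (hkl : Rt k l) {u : K} (hu : u ≠ 0) : S.w k l u ∈ S.WtB :=
  Subgroup.subset_closure (Or.inl ⟨k, l, u, hkl, hu, rfl⟩)

theorem ws_mem_WtB (a : Idx m) {u : K} (hu : u ≠ 0) : S.ws a u ∈ S.WtB :=
  Subgroup.subset_closure (Or.inr ⟨a, u, hu, rfl⟩)

theorem h_mem_HtB {k l : Idx m} (hkl : Rt k l) {u : K} (hu : u ≠ 0) : S.h k l u ∈ S.HtB :=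
  Subgroup.subset_closure (Or.inl ⟨k, l, u, hkl, hu, rfl⟩)

theorem hs_mem_HtB (a : Idx m) {u : K} (hu : u ≠ 0) : S.hs a u ∈ S.HtB :=
  Subgroup.subset_closure (Or.inr ⟨a, u, hu, rfl⟩)

theorem x_mem_UtB {a b : Idx m} (hab : Rt a b) (hlt : ord a < ord b) (t : K) : S.x a b t ∈ S.UtB :=
  Subgroup.subset_closure (Or.inl ⟨a, b, t, hab, hlt, rfl⟩)

theorem y_mem_UtB (i : Fin m) (t : K) : S.y (Sum.inl i) t ∈ S.UtB :=
  Subgroup.subset_closure (Or.inr ⟨i, t, rfl⟩)

theorem MonB.toMon {g : Γ} {σ : Equiv.Perm (Idx m)} {a : Idx m → K} {ε : K} (h : S.MonB g σ a ε) :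
    S.toOD.Mon g σ a := ⟨h.1, h.2.2.2.1, h.2.2.2.2.1⟩

end OB

end Cfsg.Agent.CtRecB
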