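import Mathlib
import Cfsg.Agent.CtRecB.Defs2
import Cfsg.Agent.CtRecD.OdA

set_option autoImplicit false
set_option linter.unusedSectionVars false
set_option linter.unusedVariables false

/-!
# S2094, piece P3: groups with the Steinberg relations of type `B_m`: basic consequences (helper5)

Port of `CtRecD/OdA.lean` for the short root elements `y a t`.
-/

namespace Cfsg.Agent.CtRecB

open Cfsg.Agent.CtRecD

variable {m : ℕ} {K : Type*} [Field K] {Γ : Type*} [Group Γ] (S : OB m K Γ)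

namespace OB

theorem y_zero (a : Idx m) : S.y a 0 = 1 := by
  have h := S.yadd a 0 0
  rw [add_zero] at h
  exact mul_eq_left.mp h

theorem y_inv (a : Idx m) (t : K) : (S.y a t)⁻¹ = S.y a (-t) := by
  apply inv_eq_of_mul_eq_one_right
  rw [S.yadd, add_neg_cancel, S.y_zero]

theorem y_mul_neg (a : Idx m) (t : K) : S.y a t * S.y a (-t) = 1 := by
  rw [S.yadd, add_neg_cancel, S.y_zero]

theorem y_neg_mul (a : Idx m) (t : K) : S.y a (-t) * S.y a t = 1 := by
  rw [S.yadd, neg_add_cancel, S.y_zero]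

/-- the long root relations, restated for `S.x`. -/
theorem x_inv' {a b : Idx m} (hab : Rt a b) (t : K) : (S.x a b t)⁻¹ = S.x a b (-t) :=
  S.toOD.x_inv hab t

theorem x_zero' {a b : Idx m} (hab : Rt a b) : S.x a b 0 = 1 :=
  S.toOD.x_zero hab

/-- `y_a(t) y_b(u) y_a(t)⁻¹ = x_{a b̄}(-2tu) y_b(u)`. -/
theorem cj_yy {a b : Idx m} (hab : Rt a b) (t u : K) :
    MulAut.conj (S.y a t) (S.y b u) = S.x a b.swap (-(2 * t * u)) * S.y b u := by
  rw [MulAut.conj_apply, ← S.yy a b hab t u, inv_mul_cancel_right]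

/-- `x_ab(t) y_b(u) x_ab(t)⁻¹ = y_a(tu) x_{a b̄}(tu²) y_b(u)`. -/
theorem cj_xy {a b : Idx m} (hab : Rt a b) (t u : K) :
    MulAut.conj (S.x a b t) (S.y b u) = S.y a (t * u) * S.x a b.swap (t * u * u) * S.y b u := by
  rw [MulAut.conj_apply, ← S.xy a b hab t u, inv_mul_cancel_right]

/-- `y_b(u) x_ab(t) y_b(u)⁻¹ = x_{a b̄}(-tu²) y_a(-tu) x_ab(t)`. -/
theorem cj_yx {a b : Idx m} (hab : Rt a b) (t u : K) :
    MulAut.conj (S.y b u) (S.x a b t) =
      S.x a b.swap (-(t * u * u)) * S.y a (-(t * u)) * S.x a b t := by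
  rw [MulAut.conj_apply, ← S.x_inv' hab.swap_right, ← S.y_inv, ← mul_inv_rev, ← S.xy a b hab t u]
  group

/-- `x_ab(t)` commutes with `y_c(u)` for `c ≠ b`, `c ≠ ā`. -/
theorem cj_xy_comm {a b c : Idx m} (hab : Rt a b) (hcb : c ≠ b) (hca : c ≠ a.swap) (t u : K) :
    MulAut.conj (S.x a b t) (S.y c u) = S.y c u := by
  rw [MulAut.conj_apply, S.xy_comm a b c hab hcb hca, mul_inv_cancel_right]

theorem cj_yx_comm {a b c : Idx m} (hab : Rt a b) (hcb : c ≠ b) (hca : c ≠ a.swap) (t u : K) :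
    MulAut.conj (S.y c u) (S.x a b t) = S.x a b t := by
  rw [MulAut.conj_apply, ← S.xy_comm a b c hab hcb hca, mul_inv_cancel_right]

/-- `y_a` commutes with `x_ab`. -/
theorem ya_xab_comm {a b : Idx m} (hab : Rt a b) (t u : K) :
    S.y a t * S.x a b u = S.x a b u * S.y a t :=
  (S.xy_comm a b a hab hab.1 (ne_swap a) u t).symm

/-- `y_b̄` commutes with `x_ab` (`x_ab = x_{b̄ ā}`). -/
theorem yb_xab_comm {a b : Idx m} (hab : Rt a b) (t u : K) :
    S.y b.swap t * S.x a b u = S.x a b u * S.y b.swap t :=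
  (S.xy_comm a b b.swap hab (ne_swap b).symm (fun e => hab.1 (swap_inj.mp e).symm) u t).symm

/-- `y_a` and `y_ā`-free: `y_a(t)` and `y_a(u)` commute. -/
theorem y_comm_self (a : Idx m) (t u : K) : S.y a t * S.y a u = S.y a u * S.y a t := by
  rw [S.yadd, S.yadd, add_comm]

theorem ws_inv (a : Idx m) (u : K) : (S.ws a u)⁻¹ = S.ws a (-u) := by
  unfold ws
  rw [mul_inv_rev, mul_inv_rev, S.y_inv, S.y_inv, inv_neg, mul_assoc]

theorem hs_one (a : Idx m) : S.hs a 1 = 1 := by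
  unfold hs
  rw [← S.ws_inv, mul_inv_cancel]

theorem ws_eq_hs_mul (a : Idx m) (u : K) : S.ws a u = S.hs a u * S.ws a 1 := by
  unfold hs
  have : S.ws a (-1) = (S.ws a 1)⁻¹ := (S.ws_inv a 1).symm
  rw [this, inv_mul_cancel_right]

theorem hs_eq_ws_mul (a : Idx m) (u : K) : S.hs a u = S.ws a u * (S.ws a 1)⁻¹ := by
  unfold hs
  rw [S.ws_inv a 1]

/-- `y_ā(s) = y_a(-s⁻¹) w_a(s⁻¹) y_a(-s⁻¹)`. -/
theorem y_neg_eq (a : Idx m) {s : K} (hs : s ≠ 0) :
    S.y a.swap s = S.y a (-s⁻¹) * S.ws a s⁻¹ * S.y a (-s⁻¹) := by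
  unfold ws
  rw [inv_inv]
  have e1 : S.y a (-s⁻¹) * (S.y a s⁻¹ * S.y a.swap s * S.y a s⁻¹) * S.y a (-s⁻¹) =
      (S.y a (-s⁻¹) * S.y a s⁻¹) * S.y a.swap s * (S.y a s⁻¹ * S.y a (-s⁻¹)) := by
    simp only [mul_assoc]
  rw [e1, S.y_neg_mul, S.y_mul_neg, one_mul, mul_one]

/-- the same with the roles of `a`, `ā` exchanged: `y_a(s) = y_ā(-s⁻¹) w_ā(s⁻¹) y_ā(-s⁻¹)`. -/
theorem y_neg_eq' (a : Idx m) {s : K} (hs : s ≠ 0) :
    S.y a s = S.y a.swap (-s⁻¹) * S.ws a.swap s⁻¹ * S.y a.swap (-s⁻¹) := by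
  have h := S.y_neg_eq a.swap hs
  rwa [Sum.swap_swap] at h

/-- the generators lie in the closure of the generators. -/
theorem x_mem_gensB {a b : Idx m} (hab : Rt a b) (t : K) : S.x a b t ∈ S.gensB :=
  Or.inl ⟨a, b, t, hab, rfl⟩

theorem y_mem_gensB (a : Idx m) (t : K) : S.y a t ∈ S.gensB :=
  Or.inr ⟨a, t, rfl⟩

theorem ws_mem_closure (a : Idx m) (u : K) : S.ws a u ∈ Subgroup.closure S.gensB := by
  unfold ws
  exact mul_mem (mul_mem (Subgroup.subset_closure (S.y_mem_gensB _ _))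
    (Subgroup.subset_closure (S.y_mem_gensB _ _))) (Subgroup.subset_closure (S.y_mem_gensB _ _))

/-- two homomorphisms which agree on the root elements agree on the closure of the generators. -/
theorem hom_eq_of_gensB {M : Type*} [Monoid M] (hgen : Subgroup.closure S.gensB = ⊤) (f g : Γ →* M)
    (hx : ∀ a b, Rt a b → ∀ t : K, f (S.x a b t) = g (S.x a b t))
    (hy : ∀ (a : Idx m) (t : K), f (S.y a t) = g (S.y a t)) : f = g := by
  apply MonoidHom.eq_of_eqOn_dense hgen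
  rintro z (⟨a, b, t, hab, rfl⟩ | ⟨a, t, rfl⟩)
  · exact hx a b hab t
  · exact hy a t

/-- an element commuting with all root elements is central (if the root elements generate). -/
theorem central_of_commute_gensB (hgen : Subgroup.closure S.gensB = ⊤) {c : Γ}
    (hx : ∀ a b, Rt a b → ∀ t : K, c * S.x a b t = S.x a b t * c)
    (hy : ∀ (a : Idx m) (t : K), c * S.y a t = S.y a t * c) (g : Γ) : g * c = c * g := by
  have hg : g ∈ Subgroup.closure S.gensB := by rw [hgen]; trivial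
  induction hg using Subgroup.closure_induction with
  | mem z hz =>
    rcases hz with ⟨a, b, t, hab, rfl⟩ | ⟨a, t, rfl⟩
    · exact (hx a b hab t).symm
    · exact (hy a t).symm
  | one => rw [one_mul, mul_one]
  | mul a b _ _ iha ihb => rw [mul_assoc, ihb, ← mul_assoc, iha, mul_assoc]
  | inv a _ iha =>
    have : a⁻¹ * c = a⁻¹ * (c * a) * a⁻¹ := by rw [mul_assoc, mul_assoc, mul_inv_cancel, mul_one]
    rw [this, ← iha, ← mul_assoc, inv_mul_cancel, one_mul]

end OB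

end Cfsg.Agent.CtRecB
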