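import Mathlib
import Cfsg.Agent.CtRecB.Defs2
import Cfsg.Agent.CtRecD.OdB

set_option autoImplicit false
set_option linter.unusedSectionVars false
set_option linter.unusedVariables false

/-!
# S2094, piece P4b + P4c: the short Weyl elements `w_a(u) = y_a(u) y_ā(u⁻¹) y_a(u)` act monomially (helper6)

* `OB.ws_conj_x`: `w_a(u) x_ij(c) w_a(u)⁻¹ = x_{σi σj}(c_i c_j⁻¹ c)`, `σ = sB a` (the transposition `a ↔ ā`), `c = cB a u`;
* `OB.ws_conj_y`: `w_a(u) y_i(c) w_a(u)⁻¹ = y_{σi}(-c_i c)`.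

The core is the rank-two computation `p4_core` in the `B_2` on `ε_p - ε_q`, `ε_q`: for `s v = 1`,
`y_q̄(v) y_q(s) x_pq(t) y_q(s)⁻¹ y_q̄(v)⁻¹ = x_pq̄(-t s²)`.
-/

namespace Cfsg.Agent.CtRecB

open Matrix Cfsg.Agent.CtRecD

variable {m : ℕ} {K : Type*} [Field K] {Γ : Type*} [Group Γ] (S : OB m K Γ)

/-- a rearrangement in a group. -/
theorem p4_grp6 {G : Type*} [Group G] {X1 X2 Y1 B Y2 X3 : G} (hYB : Y1 * B = B * Y1) (hY : Y1 * Y2 = 1)
    (h12 : X1 * X2 * B = B * (X1 * X2)) (hX : X1 * X2 * X3 = 1) :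
    X1 * (X2 * Y1) * (B * Y2 * X3) = B := by
  calc X1 * (X2 * Y1) * (B * Y2 * X3) = X1 * X2 * (Y1 * B) * Y2 * X3 := by group
    _ = X1 * X2 * (B * Y1) * Y2 * X3 := by rw [hYB]
    _ = (X1 * X2 * B) * (Y1 * Y2) * X3 := by group
    _ = B * (X1 * X2) * X3 := by rw [hY, h12, mul_one]
    _ = B * (X1 * X2 * X3) := by group
    _ = B := by rw [hX, mul_one]

namespace OB

/-! ### basic consequences -/

theorem p4_y_zero (a : Idx m) : S.y a 0 = 1 := by
  have h := S.yadd a 0 0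
  rw [add_zero] at h
  exact mul_eq_left.mp h

theorem p4_y_inv (a : Idx m) (t : K) : (S.y a t)⁻¹ = S.y a (-t) := by
  apply inv_eq_of_mul_eq_one_right
  rw [S.yadd, add_neg_cancel, S.p4_y_zero]

/-- `y_e(s)` commutes with `x_pq(t)` for `e ≠ q, p̄`. -/
theorem p4_cj_y_x_fix {p q e : Idx m} (hpq : Rt p q) (h1 : e ≠ q) (h2 : e ≠ p.swap) (s t : K) :
    MulAut.conj (S.y e s) (S.x p q t) = S.x p q t := by
  rw [MulAut.conj_apply, ← S.xy_comm p q e hpq h1 h2, mul_inv_cancel_right]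

/-- `y_q(s) x_pq(t) y_q(s)⁻¹ = x_pq(t) y_p(-ts) x_pq̄(-ts²)`. -/
theorem p4_cj_y_x {p q : Idx m} (hpq : Rt p q) (s t : K) :
    MulAut.conj (S.y q s) (S.x p q t) =
      S.x p q t * S.y p (-t * s) * S.x p q.swap (-t * s * s) := by
  have h := S.xy p q hpq (-t) s
  rw [← S.toOD.x_inv hpq, inv_inv] at h
  rw [MulAut.conj_apply, mul_assoc (S.x p q t), ← h]
  group

/-- `y_p(t) y_q(v) y_p(t)⁻¹ = x_pq̄(-2tv) y_q(v)`. -/
theorem p4_cj_y_y {p q : Idx m} (hpq : Rt p q) (t v : K) :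
    MulAut.conj (S.y p t) (S.y q v) = S.x p q.swap (-(2 * t * v)) * S.y q v := by
  rw [MulAut.conj_apply, ← S.yy p q hpq t v, inv_mul_cancel_right]

/-- the rank-two computation. -/
theorem p4_core {p q : Idx m} (hpq : Rt p q) {s v : K} (hsv : s * v = 1) (t : K) :
    MulAut.conj (S.y q.swap v) (MulAut.conj (S.y q s) (S.x p q t)) = S.x p q.swap (-t * s * s) := by
  have hpq' : Rt p q.swap := hpq.swap_right
  have hqp : Rt q.swap p := hpq.symm.swap_left
  have e1 : MulAut.conj (S.y q.swap v) (S.x p q t) = S.x p q t :=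
    S.p4_cj_y_x_fix hpq (ne_swap q).symm (fun e => hpq.1 (swap_inj.mp e).symm) v t
  have e2 : MulAut.conj (S.y q.swap v) (S.y p (-t * s)) = S.x p q (-(2 * t)) * S.y p (-t * s) := by
    rw [S.p4_cj_y_y hqp, S.xbar q.swap p.swap hqp.swap_right, Sum.swap_swap, Sum.swap_swap]
    congr 2
    linear_combination (-(2 : K) * t) * hsv
  have e3 : MulAut.conj (S.y q.swap v) (S.x p q.swap (-t * s * s)) =
      S.x p q.swap (-t * s * s) * S.y p (t * s) * S.x p q t := by
    rw [S.p4_cj_y_x hpq', Sum.swap_swap]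
    congr 2
    · congr 1
      linear_combination (t * s) * hsv
    · linear_combination (t * (s * v + 1)) * hsv
  rw [S.p4_cj_y_x hpq, map_mul, map_mul, e1, e2, e3]
  refine p4_grp6 ?_ ?_ ?_ ?_
  · exact (S.xy_comm p q.swap p hpq' hpq.2 (ne_swap p) _ _).symm
  · rw [S.yadd]
    have : -t * s + t * s = 0 := by ring
    rw [this, S.p4_y_zero]
  · rw [S.add p q hpq, S.comm_row p q hpq]
  · rw [S.add p q hpq, S.add p q hpq]
    have : t + -(2 * t) + t = 0 := by ring
    rw [this, S.toOD.x_zero hpq]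

/-! ### the action on the long root elements -/

theorem p4_conj_ws (a : Idx m) (u : K) (g : Γ) :
    MulAut.conj (S.ws a u) g =
      MulAut.conj (S.y a u) (MulAut.conj (S.y a.swap u⁻¹) (MulAut.conj (S.y a u) g)) := by
  unfold ws
  rw [map_mul, map_mul, MulAut.mul_apply, MulAut.mul_apply]

/-- `w_a(u) x_pa(t) w_a(u)⁻¹ = x_pā(-t u²)`. -/
theorem p4_ws_x {p a : Idx m} (hpa : Rt p a) {u : K} (hu : u ≠ 0) (t : K) :
    MulAut.conj (S.ws a u) (S.x p a t) = S.x p a.swap (-t * u * u) := by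
  rw [S.p4_conj_ws, S.p4_core hpa (mul_inv_cancel₀ hu) t]
  exact S.p4_cj_y_x_fix hpa.swap_right (ne_swap a) (fun e => hpa.2 (swap_eq_iff.mp e.symm)) _ _

/-- `w_a(u) x_pā(t) w_a(u)⁻¹ = x_pa(-t u⁻²)`. -/
theorem p4_ws_x_bar {p a : Idx m} (hpa : Rt p a) {u : K} (hu : u ≠ 0) (t : K) :
    MulAut.conj (S.ws a u) (S.x p a.swap t) = S.x p a (-t * u⁻¹ * u⁻¹) := by
  have h := S.p4_core hpa.swap_right (inv_mul_cancel₀ hu) t
  rw [Sum.swap_swap] at h
  rw [S.p4_conj_ws,
    S.p4_cj_y_x_fix hpa.swap_right (ne_swap a) (fun e => hpa.2 (swap_eq_iff.mp e.symm)) u t, h]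

section sB

variable {a i : Idx m}

theorem p4_sB_a : sB a a = a.swap := by
  unfold sB
  rw [Equiv.swap_apply_left]

theorem p4_sB_abar : sB a a.swap = a := by
  unfold sB
  rw [Equiv.swap_apply_right]

theorem p4_sB_oth (h1 : i ≠ a) (h2 : i ≠ a.swap) : sB a i = i := by
  unfold sB
  rw [Equiv.swap_apply_of_ne_of_ne h1 h2]

theorem p4_cB_a (u : K) : cB a u a = -(u⁻¹ * u⁻¹) := by
  unfold cB
  rw [if_pos rfl]

theorem p4_cB_abar (u : K) : cB a u a.swap = -(u * u) := by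
  unfold cB
  rw [if_neg (ne_swap a).symm, if_pos rfl]

theorem p4_cB_oth (h1 : i ≠ a) (h2 : i ≠ a.swap) (u : K) : cB a u i = 1 := by
  unfold cB
  rw [if_neg h1, if_neg h2]

end sB

/-- **P4b: the short Weyl elements act monomially on the long root elements.** -/
theorem ws_conj_x (hm : 3 ≤ m) (a : Idx m) {u : K} (hu : u ≠ 0) {i j : Idx m} (hij : Rt i j) (c : K) :
    MulAut.conj (S.ws a u) (S.x i j c) = S.x (sB a i) (sB a j) (cB a u i * (cB a u j)⁻¹ * c) := by
  by_cases hja : j = a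
  · subst hja
    have hi1 : i ≠ j := hij.1
    have hi2 : i ≠ j.swap := hij.2
    rw [S.p4_ws_x hij hu, p4_sB_oth hi1 hi2, p4_sB_a, p4_cB_oth hi1 hi2, p4_cB_a]
    congr 1
    field_simp
  by_cases hja' : j = a.swap
  · subst hja'
    have hi1 : i ≠ a := fun e => hij.2 (by rw [e, Sum.swap_swap])
    have hi2 : i ≠ a.swap := hij.1
    have hia : Rt i a := ⟨hi1, hi2⟩
    rw [S.p4_ws_x_bar hia hu, p4_sB_oth hi1 hi2, p4_sB_abar, p4_cB_oth hi1 hi2, p4_cB_abar]
    congr 1
    field_simp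
  by_cases hia : i = a
  · subst hia
    have hj : Rt j.swap i := by
      have := hij.bar.swap_right
      rwa [Sum.swap_swap] at this
    have hj' : Rt j.swap i.swap := hij.bar
    rw [S.xbar i j hij, S.p4_ws_x_bar hj hu, p4_sB_a, p4_sB_oth hja hja', p4_cB_a, p4_cB_oth hja hja',
      S.xbar i.swap j hij.swap_left, Sum.swap_swap]
    congr 1
    field_simp
  by_cases hia' : i = a.swap
  · subst hia'
    have hj : Rt j.swap a := by
      have := hij.bar
      rwa [Sum.swap_swap] at this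
    have e : S.x a.swap j c = S.x j.swap a (-c) := by
      rw [S.xbar a.swap j hij, Sum.swap_swap]
    have hij2 : Rt a j := by
      have := hij.swap_left
      rwa [Sum.swap_swap] at this
    rw [e, S.p4_ws_x hj hu, p4_sB_abar, p4_sB_oth hja hja', p4_cB_abar, p4_cB_oth hja hja',
      S.xbar a j hij2]
    congr 1
    field_simp
  · have f1 : ∀ (e : Idx m), (e = a ∨ e = a.swap) → ∀ s t : K,
        MulAut.conj (S.y e s) (S.x i j t) = S.x i j t := by
      intro e he s t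
      refine S.p4_cj_y_x_fix hij ?_ ?_ s t
      · rcases he with rfl | rfl
        · exact fun h => hja h.symm
        · exact fun h => hja' h.symm
      · rcases he with rfl | rfl
        · exact fun h => hia' (swap_eq_iff.mp h.symm)
        · exact fun h => hia (swap_inj.mp h).symm
    rw [S.p4_conj_ws, f1 a (Or.inl rfl), f1 a.swap (Or.inr rfl), f1 a (Or.inl rfl),
      p4_sB_oth hia hia', p4_sB_oth hja hja', p4_cB_oth hia hia', p4_cB_oth hja hja', inv_one, one_mul,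
      one_mul]

/-! ### the action on the short root elements -/

/-- `w_a(u) y_i(c) w_a(u)⁻¹ = y_i(-c)` for `i ≠ a, ā`. -/
theorem p4_ws_y_oth {a i : Idx m} (hai : Rt a i) {u : K} (hu : u ≠ 0) (c : K) :
    MulAut.conj (S.ws a u) (S.y i c) = S.y i (-c) := by
  have hia' : Rt i a.swap := hai.symm.swap_right
  have hia : Rt i a := hai.symm
  -- rewriting rules between the two names of the long root elements
  have b1 : ∀ t : K, S.x a i.swap t = S.x i a.swap (-t) := by
    intro t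
    rw [S.xbar a i.swap hai.swap_right, Sum.swap_swap]
  have b2 : ∀ t : K, S.x a.swap i.swap t = S.x i a (-t) := by
    intro t
    rw [S.xbar a.swap i.swap hai.swap_left.swap_right, Sum.swap_swap, Sum.swap_swap]
  have h2 : MulAut.conj (S.y a.swap u⁻¹) (MulAut.conj (S.y a u) (S.y i c)) =
      S.x i a.swap (2 * u * c) * S.y i (-c) := by
    rw [S.p4_cj_y_y hai, map_mul, b1, S.p4_cj_y_x hia', S.p4_cj_y_y hai.swap_left, b2, Sum.swap_swap]
    have e1 : S.x i a (-(- -(2 * u * c)) * u⁻¹ * u⁻¹) * S.x i a (- -(2 * u⁻¹ * c)) = 1 := by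
      rw [S.add i a hia]
      have : -(- -(2 * u * c)) * u⁻¹ * u⁻¹ + - -(2 * u⁻¹ * c) = 0 := by
        field_simp
        ring
      rw [this, S.toOD.x_zero hia]
    have e2 : S.y i (-(- -(2 * u * c)) * u⁻¹) * S.y i c = S.y i (-c) := by
      rw [S.yadd]
      congr 1
      field_simp
      ring
    have e3 : - -(2 * u * c) = 2 * u * c := by ring
    calc S.x i a.swap (- -(2 * u * c)) * S.y i (-(- -(2 * u * c)) * u⁻¹) *
          S.x i a (-(- -(2 * u * c)) * u⁻¹ * u⁻¹) * (S.x i a (- -(2 * u⁻¹ * c)) * S.y i c)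
        = S.x i a.swap (- -(2 * u * c)) * S.y i (-(- -(2 * u * c)) * u⁻¹) *
          (S.x i a (-(- -(2 * u * c)) * u⁻¹ * u⁻¹) * S.x i a (- -(2 * u⁻¹ * c))) * S.y i c := by group
      _ = S.x i a.swap (- -(2 * u * c)) * (S.y i (-(- -(2 * u * c)) * u⁻¹) * S.y i c) := by
          rw [e1, mul_one, mul_assoc]
      _ = S.x i a.swap (2 * u * c) * S.y i (-c) := by rw [e2, e3]
  rw [S.p4_conj_ws, h2, map_mul,
    S.p4_cj_y_x_fix hia' (ne_swap a) (fun e => hai.2 e) u _, S.p4_cj_y_y hai, b1, ← mul_assoc,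
    S.add i a.swap hia']
  have : 2 * u * c + - -(2 * u * -c) = 0 := by ring
  rw [this, S.toOD.x_zero hia', one_mul]

/-- `y_e(c) = [x_eb(c), y_b(1)] x_eb̄(c)⁻¹`: transport of the action from the long root elements. -/
theorem p4_y_of_comm {g : Γ} {e e' b : Idx m} (heb : Rt e b) (he'b : Rt e' b) {k : K}
    (hx : ∀ c : K, MulAut.conj g (S.x e b c) = S.x e' b (k * c))
    (hx' : ∀ c : K, MulAut.conj g (S.x e b.swap c) = S.x e' b.swap (k * c))
    (hy : MulAut.conj g (S.y b 1) = S.y b (-1)) (c : K) :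
    MulAut.conj g (S.y e c) = S.y e' (-(k * c)) := by
  have h1 := S.xy e b heb c 1
  rw [mul_one, mul_one] at h1
  have h2 : S.y e c =
      S.x e b c * S.y b 1 * (S.x e b c)⁻¹ * (S.y b 1)⁻¹ * (S.x e b.swap c)⁻¹ := by
    rw [h1, mul_inv_cancel_right]
  have h3 := S.xy e' b he'b (k * c) (-1)
  have e3 : k * c * -1 * -1 = k * c := by ring
  rw [e3] at h3
  rw [h2, map_mul, map_mul, map_mul, map_mul, map_inv, map_inv, map_inv, hx, hx', hy, h3,
    mul_inv_cancel_right]
  congr 1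
  ring

/-- **P4c: the short Weyl elements act monomially on the short root elements.** -/
theorem ws_conj_y (hm : 3 ≤ m) (a : Idx m) {u : K} (hu : u ≠ 0) (i : Idx m) (c : K) :
    MulAut.conj (S.ws a u) (S.y i c) = S.y (sB a i) (-(cB a u i) * c) := by
  by_cases hi : i = a ∨ i = a.swap
  · obtain ⟨b, hb1, -, hb3, -⟩ := OD.exists_oth hm a a
    have hab : Rt a b := ⟨hb1.symm, fun e => hb3 (swap_eq_iff.mp e.symm)⟩
    have hab' : Rt a.swap b := hab.swap_left
    have hib : Rt i b := by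
      rcases hi with rfl | rfl
      · exact hab
      · exact hab'
    have hsb : Rt (sB a i) b := by
      rcases hi with rfl | rfl
      · rw [p4_sB_a]; exact hab'
      · rw [p4_sB_abar]; exact hab
    have hb2 : b ≠ a.swap := hb3
    have hb4 : b.swap ≠ a := fun e => hb3 (swap_eq_iff.mp e)
    have hb5 : b.swap ≠ a.swap := fun e => hb1 (swap_inj.mp e)
    have hx : ∀ c : K, MulAut.conj (S.ws a u) (S.x i b c) = S.x (sB a i) b (cB a u i * c) := by
      intro c
      rw [S.ws_conj_x hm a hu hib, p4_sB_oth hb1 hb2, p4_cB_oth hb1 hb2, inv_one, mul_one]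
    have hx' : ∀ c : K,
        MulAut.conj (S.ws a u) (S.x i b.swap c) = S.x (sB a i) b.swap (cB a u i * c) := by
      intro c
      rw [S.ws_conj_x hm a hu hib.swap_right, p4_sB_oth hb4 hb5, p4_cB_oth hb4 hb5, inv_one, mul_one]
    have hy : MulAut.conj (S.ws a u) (S.y b 1) = S.y b (-1) := S.p4_ws_y_oth hab hu 1
    rw [S.p4_y_of_comm hib hsb hx hx' hy, neg_mul]
  · push Not at hi
    have hai : Rt a i := ⟨hi.1.symm, fun e => hi.2 (swap_eq_iff.mp e.symm)⟩
    rw [S.p4_ws_y_oth hai hu, p4_sB_oth hi.1 hi.2, p4_cB_oth hi.1 hi.2, neg_mul, one_mul]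

end OB

end Cfsg.Agent.CtRecB
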