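import Mathlib
import Cfsg.Agent.CtRecB.ObA
import Cfsg.Agent.CtRecD.OdC

set_option autoImplicit false
set_option linter.unusedSectionVars false
set_option linter.unusedVariables false

/-!
# S2094, piece P5: elements acting monomially on the root elements of a system of type `B_m` (helper5)

Port of `CtRecD/OdC.lean`.  The statements of piece P4 (the action of the elements `w_kl(u)`, `w_a(u)` on the root elements)
enter through the structure `OB.P4Hyp`.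
-/

namespace Cfsg.Agent.CtRecB

open Cfsg.Agent.CtRecD

variable {m : ℕ} {K : Type*} [Field K] {Γ : Type*} [Group Γ] (S : OB m K Γ)

namespace OB

/-! ### the permutation `sB a` and the coefficients `cB a u` -/

theorem sB_a (a : Idx m) : sB a a = a.swap := by
  unfold sB
  exact Equiv.swap_apply_left _ _

theorem sB_abar (a : Idx m) : sB a a.swap = a := by
  unfold sB
  exact Equiv.swap_apply_right _ _

theorem sB_oth {a i : Idx m} (h1 : i ≠ a) (h2 : i ≠ a.swap) : sB a i = i := by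
  unfold sB
  exact Equiv.swap_apply_of_ne_of_ne h1 h2

theorem sB_swap (a i : Idx m) : sB a i.swap = (sB a i).swap := by
  by_cases h1 : i = a
  · subst h1
    rw [sB_abar, sB_a, Sum.swap_swap]
  by_cases h2 : i = a.swap
  · subst h2
    rw [Sum.swap_swap, sB_a, sB_abar]
  have h3 : i.swap ≠ a := fun e => h2 (by rw [← e, Sum.swap_swap])
  have h4 : i.swap ≠ a.swap := fun e => h1 (swap_inj.mp e)
  rw [sB_oth h1 h2, sB_oth h3 h4]

theorem sB_sB (a i : Idx m) : sB a (sB a i) = i := by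
  unfold sB
  exact Equiv.swap_apply_self _ _ _

theorem cB_a (a : Idx m) (u : K) : cB a u a = -(u⁻¹ * u⁻¹) := by
  unfold cB
  rw [if_pos rfl]

theorem cB_abar (a : Idx m) (u : K) : cB a u a.swap = -(u * u) := by
  unfold cB
  rw [if_neg (ne_swap a).symm, if_pos rfl]

theorem cB_oth {a i : Idx m} (h1 : i ≠ a) (h2 : i ≠ a.swap) (u : K) : cB a u i = 1 := by
  unfold cB
  rw [if_neg h1, if_neg h2]

theorem cB_ne_zero (a : Idx m) {u : K} (hu : u ≠ 0) (i : Idx m) : cB a u i ≠ 0 := by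
  unfold cB
  split_ifs
  · exact neg_ne_zero.mpr (mul_ne_zero (inv_ne_zero hu) (inv_ne_zero hu))
  · exact neg_ne_zero.mpr (mul_ne_zero hu hu)
  · exact one_ne_zero

theorem cB_swap (a : Idx m) {u : K} (hu : u ≠ 0) (i : Idx m) : cB a u i.swap = (cB a u i)⁻¹ := by
  by_cases h1 : i = a
  · subst h1
    rw [cB_abar, cB_a, inv_neg, mul_inv, inv_inv]
  by_cases h2 : i = a.swap
  · subst h2
    rw [Sum.swap_swap, cB_abar, cB_a, inv_neg, mul_inv]
  have h3 : i.swap ≠ a := fun e => h2 (by rw [← e, Sum.swap_swap])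
  have h4 : i.swap ≠ a.swap := fun e => h1 (swap_inj.mp e)
  rw [cB_oth h1 h2, cB_oth h3 h4, inv_one]

theorem hDs_a (a : Idx m) (t : K) : hDs a t a = t * t := by
  unfold hDs
  rw [if_pos rfl]

theorem hDs_abar (a : Idx m) (t : K) : hDs a t a.swap = t⁻¹ * t⁻¹ := by
  unfold hDs
  rw [if_neg (ne_swap a).symm, if_pos rfl]

theorem hDs_oth {a i : Idx m} (h1 : i ≠ a) (h2 : i ≠ a.swap) (t : K) : hDs a t i = 1 := by
  unfold hDs
  rw [if_neg h1, if_neg h2]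

/-! ### the calculus of `MonB` -/

theorem monB_one : S.MonB 1 1 (fun _ => 1) 1 := by
  refine ⟨fun _ => one_ne_zero, fun _ => inv_one.symm, Or.inl rfl, fun _ => rfl, fun i j hij c => ?_,
    fun i c => ?_⟩
  · rw [map_one, MulAut.one_apply, Equiv.Perm.one_apply, Equiv.Perm.one_apply, inv_one, mul_one, one_mul]
  · rw [map_one, MulAut.one_apply, Equiv.Perm.one_apply, mul_one, one_mul]

variable {S}

theorem MonB.ne_zero {g : Γ} {σ : Equiv.Perm (Idx m)} {a : Idx m → K} {ε : K} (h : S.MonB g σ a ε)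
    (i : Idx m) : a i ≠ 0 := h.1 i

theorem MonB.a_swap {g : Γ} {σ : Equiv.Perm (Idx m)} {a : Idx m → K} {ε : K} (h : S.MonB g σ a ε)
    (i : Idx m) : a i.swap = (a i)⁻¹ := h.2.1 i

theorem MonB.eps {g : Γ} {σ : Equiv.Perm (Idx m)} {a : Idx m → K} {ε : K} (h : S.MonB g σ a ε) :
    ε = 1 ∨ ε = -1 := h.2.2.1

theorem MonB.eps_sq {g : Γ} {σ : Equiv.Perm (Idx m)} {a : Idx m → K} {ε : K} (h : S.MonB g σ a ε) :
    ε * ε = 1 := by
  rcases h.eps with e | e <;> rw [e]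
  · rw [mul_one]
  · rw [neg_mul_neg, mul_one]

theorem MonB.eps_ne_zero {g : Γ} {σ : Equiv.Perm (Idx m)} {a : Idx m → K} {ε : K}
    (h : S.MonB g σ a ε) : ε ≠ 0 := by
  intro e
  have := h.eps_sq
  rw [e, mul_zero] at this
  exact zero_ne_one this

theorem MonB.eps_inv {g : Γ} {σ : Equiv.Perm (Idx m)} {a : Idx m → K} {ε : K} (h : S.MonB g σ a ε) :
    ε⁻¹ = ε := inv_eq_of_mul_eq_one_right h.eps_sq

theorem MonB.sigma_swap {g : Γ} {σ : Equiv.Perm (Idx m)} {a : Idx m → K} {ε : K} (h : S.MonB g σ a ε)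
    (i : Idx m) : σ i.swap = (σ i).swap := h.2.2.2.1 i

theorem MonB.conj_x {g : Γ} {σ : Equiv.Perm (Idx m)} {a : Idx m → K} {ε : K} (h : S.MonB g σ a ε)
    {i j : Idx m} (hij : Rt i j) (c : K) :
    MulAut.conj g (S.x i j c) = S.x (σ i) (σ j) (a i * (a j)⁻¹ * c) := h.2.2.2.2.1 i j hij c

theorem MonB.conj_y {g : Γ} {σ : Equiv.Perm (Idx m)} {a : Idx m → K} {ε : K} (h : S.MonB g σ a ε)
    (i : Idx m) (c : K) : MulAut.conj g (S.y i c) = S.y (σ i) (ε * a i * c) := h.2.2.2.2.2 i c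

theorem MonB.rt {g : Γ} {σ : Equiv.Perm (Idx m)} {a : Idx m → K} {ε : K} (h : S.MonB g σ a ε)
    {i j : Idx m} (hij : Rt i j) : Rt (σ i) (σ j) := by
  refine ⟨fun e => hij.1 (σ.injective e), fun e => hij.2 ?_⟩
  rw [← h.sigma_swap] at e
  exact σ.injective e

theorem MonB.mul {g g' : Γ} {σ σ' : Equiv.Perm (Idx m)} {a a' : Idx m → K} {ε ε' : K}
    (h : S.MonB g σ a ε) (h' : S.MonB g' σ' a' ε') :
    S.MonB (g * g') (σ * σ') (fun i => a (σ' i) * a' i) (ε * ε') := by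
  refine ⟨fun i => mul_ne_zero (h.1 _) (h'.1 _), fun i => ?_, ?_, fun i => ?_, fun i j hij c => ?_,
    fun i c => ?_⟩
  · show a (σ' i.swap) * a' i.swap = (a (σ' i) * a' i)⁻¹
    rw [h'.sigma_swap, h.a_swap, h'.a_swap, mul_inv]
  · rcases h.eps with e | e <;> rcases h'.eps with e' | e' <;> rw [e, e']
    · exact Or.inl (mul_one 1)
    · exact Or.inr (one_mul _)
    · exact Or.inr (mul_one _)
    · exact Or.inl (by rw [neg_mul_neg, mul_one])
  · rw [Equiv.Perm.mul_apply, Equiv.Perm.mul_apply, h'.sigma_swap, h.sigma_swap]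
  · rw [map_mul, MulAut.mul_apply, h'.conj_x hij, h.conj_x (h'.rt hij),
      Equiv.Perm.mul_apply, Equiv.Perm.mul_apply]
    congr 1
    rw [mul_inv]
    ring
  · rw [map_mul, MulAut.mul_apply, h'.conj_y, h.conj_y, Equiv.Perm.mul_apply]
    congr 1
    ring

theorem MonB.inv {g : Γ} {σ : Equiv.Perm (Idx m)} {a : Idx m → K} {ε : K} (h : S.MonB g σ a ε) :
    S.MonB g⁻¹ σ⁻¹ (fun i => (a (σ⁻¹ i))⁻¹) ε := by
  have hσ : ∀ i, σ (σ⁻¹ i) = i := fun i => by rw [Equiv.Perm.inv_def, Equiv.apply_symm_apply]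
  have hbar : ∀ i : Idx m, σ⁻¹ i.swap = (σ⁻¹ i).swap := by
    intro i
    apply σ.injective
    rw [hσ, h.sigma_swap, hσ]
  refine ⟨fun i => inv_ne_zero (h.1 _), fun i => ?_, h.eps, hbar, fun i j hij c => ?_, fun i c => ?_⟩
  · show (a (σ⁻¹ i.swap))⁻¹ = ((a (σ⁻¹ i))⁻¹)⁻¹
    rw [hbar, h.a_swap]
  · have hij' : Rt (σ⁻¹ i) (σ⁻¹ j) := by
      refine ⟨fun e => hij.1 (σ⁻¹.injective e), fun e => hij.2 ?_⟩
      rw [← hbar] at e
      exact σ⁻¹.injective e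
    have e := h.conj_x hij' ((a (σ⁻¹ i))⁻¹ * ((a (σ⁻¹ j))⁻¹)⁻¹ * c)
    rw [hσ i, hσ j] at e
    have e2 : a (σ⁻¹ i) * (a (σ⁻¹ j))⁻¹ * ((a (σ⁻¹ i))⁻¹ * ((a (σ⁻¹ j))⁻¹)⁻¹ * c) = c := by
      have h1 := h.1 (σ⁻¹ i)
      have h2 := h.1 (σ⁻¹ j)
      field_simp
    rw [e2] at e
    rw [← e, map_inv, MulAut.inv_apply, MulEquiv.symm_apply_apply]
  · have e := h.conj_y (σ⁻¹ i) (ε * (a (σ⁻¹ i))⁻¹ * c)
    rw [hσ i] at e
    have e2 : ε * a (σ⁻¹ i) * (ε * (a (σ⁻¹ i))⁻¹ * c) = c := by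
      have h1 := h.1 (σ⁻¹ i)
      have h2 := h.eps_sq
      calc ε * a (σ⁻¹ i) * (ε * (a (σ⁻¹ i))⁻¹ * c)
          = (ε * ε) * (a (σ⁻¹ i) * (a (σ⁻¹ i))⁻¹) * c := by ring
        _ = c := by rw [h2, mul_inv_cancel₀ h1, one_mul, one_mul]
    rw [e2] at e
    rw [← e, map_inv, MulAut.inv_apply, MulEquiv.symm_apply_apply]

theorem MonB.congr {g : Γ} {σ σ' : Equiv.Perm (Idx m)} {a a' : Idx m → K} {ε ε' : K}
    (h : S.MonB g σ a ε) (hσ : σ = σ') (ha : ∀ i, a i = a' i) (hε : ε = ε') : S.MonB g σ' a' ε' := by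
  have : a = a' := funext ha
  rw [← this, ← hσ, ← hε]
  exact h

/-- `g x_ij(c) = x_{σi σj}(a_i a_j⁻¹ c) g`. -/
theorem MonB.mul_x {g : Γ} {σ : Equiv.Perm (Idx m)} {a : Idx m → K} {ε : K} (h : S.MonB g σ a ε)
    {i j : Idx m} (hij : Rt i j) (c : K) :
    g * S.x i j c = S.x (σ i) (σ j) (a i * (a j)⁻¹ * c) * g := by
  rw [← h.conj_x hij c, MulAut.conj_apply, inv_mul_cancel_right]

/-- `g y_i(c) = y_{σi}(ε a_i c) g`. -/
theorem MonB.mul_y {g : Γ} {σ : Equiv.Perm (Idx m)} {a : Idx m → K} {ε : K} (h : S.MonB g σ a ε)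
    (i : Idx m) (c : K) : g * S.y i c = S.y (σ i) (ε * a i * c) * g := by
  rw [← h.conj_y i c, MulAut.conj_apply, inv_mul_cancel_right]

/-- the action of a monomial element on the `w_kl(u)`. -/
theorem MonB.conj_w {g : Γ} {σ : Equiv.Perm (Idx m)} {a : Idx m → K} {ε : K} (h : S.MonB g σ a ε)
    {k l : Idx m} (hkl : Rt k l) {u : K} (hu : u ≠ 0) :
    MulAut.conj g (S.w k l u) = S.w (σ k) (σ l) (a k * (a l)⁻¹ * u) :=
  (OB.MonB.toMon S h).conj_w S.toOD hkl hu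

/-- the action of a monomial element on the `w_a(u)`. -/
theorem MonB.conj_ws {g : Γ} {σ : Equiv.Perm (Idx m)} {a : Idx m → K} {ε : K} (h : S.MonB g σ a ε)
    (k : Idx m) {u : K} (hu : u ≠ 0) :
    MulAut.conj g (S.ws k u) = S.ws (σ k) (ε * a k * u) := by
  unfold ws
  rw [map_mul, map_mul, h.conj_y, h.conj_y, h.sigma_swap, h.a_swap]
  congr 3
  rw [mul_inv, mul_inv, h.eps_inv]

/-- the action of a monomial element on the `h_a(u)`. -/
theorem MonB.conj_hs {g : Γ} {σ : Equiv.Perm (Idx m)} {a : Idx m → K} {ε : K} (h : S.MonB g σ a ε)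
    (k : Idx m) {u : K} (hu : u ≠ 0) :
    MulAut.conj g (S.hs k u) = S.ws (σ k) (ε * a k * u) * S.ws (σ k) (-(ε * a k)) := by
  unfold hs
  rw [map_mul, h.conj_ws k hu, h.conj_ws k (neg_ne_zero.mpr one_ne_zero), mul_neg, mul_one]

variable (S)

/-! ### the elements `w_kl(u)`, `w_a(u)` are monomial (given piece P4) -/

/-- the statements of piece P4: the action of `w_kl(u)` on the short root elements and of `w_a(u)` on all root elements. -/
structure P4Hyp : Prop where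
  w_conj_y : ∀ {k l : Idx m}, Rt k l → ∀ {u : K}, u ≠ 0 → ∀ (i : Idx m) (c : K),
    MulAut.conj (S.w k l u) (S.y i c) = S.y (sD k l i) (cD k l u i * c)
  ws_conj_x : ∀ (a : Idx m) {u : K}, u ≠ 0 → ∀ {i j : Idx m}, Rt i j → ∀ c : K,
    MulAut.conj (S.ws a u) (S.x i j c) = S.x (sB a i) (sB a j) (cB a u i * (cB a u j)⁻¹ * c)
  ws_conj_y : ∀ (a : Idx m) {u : K}, u ≠ 0 → ∀ (i : Idx m) (c : K),
    MulAut.conj (S.ws a u) (S.y i c) = S.y (sB a i) (-(cB a u i) * c)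

theorem monB_w_of (hm : 3 ≤ m) (H : S.P4Hyp) {k l : Idx m} (hkl : Rt k l) {u : K} (hu : u ≠ 0) :
    S.MonB (S.w k l u) (sD k l) (cD k l u) 1 := by
  refine ⟨cD_ne_zero k l hu, cD_swap hkl hu, Or.inl rfl, fun i => sD_swap i,
    fun i j hij c => S.toOD.w_conj hkl hu hm hij c, fun i c => ?_⟩
  rw [H.w_conj_y hkl hu, one_mul]

theorem monB_ws_of (H : S.P4Hyp) (a : Idx m) {u : K} (hu : u ≠ 0) :
    S.MonB (S.ws a u) (sB a) (cB a u) (-1) := by
  refine ⟨cB_ne_zero a hu, cB_swap a hu, Or.inr rfl, sB_swap a,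
    fun i j hij c => H.ws_conj_x a hu hij c, fun i c => ?_⟩
  rw [H.ws_conj_y a hu, neg_one_mul]

theorem exists_monB_of_mem_WtB_of (hm : 3 ≤ m) (H : S.P4Hyp) {g : Γ} (hg : g ∈ S.WtB) :
    ∃ (σ : Equiv.Perm (Idx m)) (a : Idx m → K) (ε : K), S.MonB g σ a ε := by
  unfold WtB at hg
  induction hg using Subgroup.closure_induction with
  | mem g hg =>
    rcases hg with ⟨k, l, u, hkl, hu, rfl⟩ | ⟨a, u, hu, rfl⟩
    · exact ⟨_, _, _, S.monB_w_of hm H hkl hu⟩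
    · exact ⟨_, _, _, S.monB_ws_of H a hu⟩
  | one => exact ⟨_, _, _, S.monB_one⟩
  | mul a b _ _ iha ihb =>
    obtain ⟨σ, c, ε, h⟩ := iha
    obtain ⟨σ', c', ε', h'⟩ := ihb
    exact ⟨_, _, _, h.mul h'⟩
  | inv a _ ih =>
    obtain ⟨σ, c, ε, h⟩ := ih
    exact ⟨_, _, _, h.inv⟩

/-- `w_ā(s) = w_a(s⁻¹)` (given piece P4). -/
theorem ws_swap_of (H : S.P4Hyp) (a : Idx m) {s : K} (hs : s ≠ 0) :
    S.ws a.swap s = S.ws a s⁻¹ := by
  have hu : s⁻¹ ≠ 0 := inv_ne_zero hs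
  have e := (S.monB_ws_of H a hu).conj_ws a hu
  rw [MulAut.conj_apply, mul_inv_cancel_right, sB_a, cB_a] at e
  rw [e]
  congr 1
  field_simp

end OB

end Cfsg.Agent.CtRecB
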