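import Mathlib
import Cfsg.Agent.CtRecB.ObB
import Cfsg.Agent.CtRecB.ObC

set_option autoImplicit false
set_option linter.unusedSectionVars false
set_option linter.unusedVariables false

/-!
# S2094, piece P4a: the long Weyl elements `w_kl(u)` act monomially on the short root elements (helper6)

`OB.w_conj_y`: `w_kl(u) y_i(c) w_kl(u)⁻¹ = y_{σ i}(c_i c)` with `σ = sD k l`, `c = cD k l u`; and the package
`OB.p4Hyp : S.P4Hyp` of the three statements of piece P4.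

The core is the rank-two computation `p4a_core`: for `t s = -1`,
`x_qp(s) x_pq(t) y_q(c) x_pq(t)⁻¹ x_qp(s)⁻¹ = y_p(t c)`.
-/

namespace Cfsg.Agent.CtRecB

open Matrix Cfsg.Agent.CtRecD

variable {m : ℕ} {K : Type*} [Field K] {Γ : Type*} [Group Γ] (S : OB m K Γ)

/-- a rearrangement in a group. -/
theorem p4a_grp {G : Type*} [Group G] {A B1 Y B2 D B3 : G} (hYB : Y * B2 = B2 * Y)
    (hYD : Y * D = B3 * D * Y) (hB : B1 * B2 * B3 = 1) (hAD : A * D = 1) :
    (A * B1 * Y) * B2 * D = Y := by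
  calc (A * B1 * Y) * B2 * D = A * B1 * (Y * B2) * D := by group
    _ = A * B1 * B2 * (Y * D) := by rw [hYB]; group
    _ = A * (B1 * B2 * B3) * D * Y := by rw [hYD]; group
    _ = Y := by rw [hB, mul_one, hAD, one_mul]

namespace OB

/-- the rank-two computation. -/
theorem p4a_core {p q : Idx m} (hpq : Rt p q) {t s : K} (hts : t * s = -1) (c : K) :
    MulAut.conj (S.x q p s) (MulAut.conj (S.x p q t) (S.y q c)) = S.y p (t * c) := by
  have hqp : Rt q p := hpq.symm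
  have hqp' : Rt q p.swap := hqp.swap_right
  have hpq' : Rt p q.swap := hpq.swap_right
  -- `x_pq̄ = x_qp̄` up to sign
  have b1 : ∀ r : K, S.x p q.swap r = S.x q p.swap (-r) := by
    intro r
    rw [S.xbar p q.swap hpq', Sum.swap_swap]
  have e1 : MulAut.conj (S.x q p s) (S.y p (t * c)) =
      S.y q (-c) * S.x q p.swap (-(t * c * c)) * S.y p (t * c) := by
    rw [S.cj_xy hqp]
    congr 2
    · congr 1
      linear_combination c * hts
    · congr 1
      linear_combination (t * c * c) * hts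
  have e2 : MulAut.conj (S.x q p s) (S.x q p.swap (-(t * c * c))) = S.x q p.swap (-(t * c * c)) :=
    S.toOD.cj_row hqp _ _
  have e3 : MulAut.conj (S.x q p s) (S.y q c) = S.y q c :=
    S.cj_xy_comm hqp hqp.1 (ne_swap q) _ _
  rw [S.cj_xy hpq, b1, map_mul, map_mul, e1, e2, e3]
  refine p4a_grp (B3 := S.x q p.swap (2 * (t * c * c))) ?_ ?_ ?_ ?_
  · exact (S.xy_comm q p.swap p hqp' (ne_swap p) (fun e => hpq.2 e) _ _).symm
  · have h := S.yy p q hpq (t * c) c
    rw [b1] at h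
    have e : - -(2 * (t * c) * c) = 2 * (t * c * c) := by ring
    rw [e] at h
    rw [← h]
    group
  · rw [S.add q p.swap hqp', S.add q p.swap hqp']
    have : -(t * c * c) + -(t * c * c) + 2 * (t * c * c) = 0 := by ring
    rw [this, S.toOD.x_zero hqp']
  · exact S.y_neg_mul q c

/-- `w_kl(u) y_l(c) w_kl(u)⁻¹ = y_k(u c)`. -/
theorem p4a_w_y_l {k l : Idx m} (hkl : Rt k l) {u : K} (hu : u ≠ 0) (c : K) :
    MulAut.conj (S.w k l u) (S.y l c) = S.y k (u * c) := by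
  have hts : u * -u⁻¹ = -1 := by
    rw [mul_neg, mul_inv_cancel₀ hu]
  rw [S.toOD.conj_w, S.p4a_core hkl hts]
  exact S.cj_xy_comm hkl hkl.1 (ne_swap k) _ _

/-- `w_kl(u) y_k(c) w_kl(u)⁻¹ = y_l(-u⁻¹ c)`. -/
theorem p4a_w_y_k {k l : Idx m} (hkl : Rt k l) {u : K} (hu : u ≠ 0) (c : K) :
    MulAut.conj (S.w k l u) (S.y k c) = S.y l (-u⁻¹ * c) := by
  have hts : -u⁻¹ * u = -1 := by
    rw [neg_mul, inv_mul_cancel₀ hu]
  rw [S.toOD.conj_w, S.cj_xy_comm hkl hkl.1 (ne_swap k) u c, S.p4a_core hkl.symm hts]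

theorem p4a_cases (k l i : Idx m) : i = k ∨ i = l ∨ i = k.swap ∨ i = l.swap ∨ Oth k l i := by
  by_cases h1 : i = k
  · exact Or.inl h1
  by_cases h2 : i = l
  · exact Or.inr (Or.inl h2)
  by_cases h3 : i = k.swap
  · exact Or.inr (Or.inr (Or.inl h3))
  by_cases h4 : i = l.swap
  · exact Or.inr (Or.inr (Or.inr (Or.inl h4)))
  exact Or.inr (Or.inr (Or.inr (Or.inr ⟨h1, h2, h3, h4⟩)))

/-- **P4a: the long Weyl elements act monomially on the short root elements.** -/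
theorem w_conj_y (hm : 3 ≤ m) {k l : Idx m} (hkl : Rt k l) {u : K} (hu : u ≠ 0) (i : Idx m) (c : K) :
    MulAut.conj (S.w k l u) (S.y i c) = S.y (sD k l i) (cD k l u i * c) := by
  have hnu : -u ≠ 0 := neg_ne_zero.mpr hu
  rcases p4a_cases k l i with rfl | rfl | rfl | rfl | hi
  · rw [S.p4a_w_y_k hkl hu, sD_k hkl, cD_k hkl]
  · rw [S.p4a_w_y_l hkl hu, sD_l hkl, cD_l]
  · rw [S.toOD.w_bar hkl, S.p4a_w_y_l hkl.bar hnu, sD_kbar hkl, cD_kbar hkl]
  · rw [S.toOD.w_bar hkl, S.p4a_w_y_k hkl.bar hnu, sD_lbar hkl, cD_lbar hkl, inv_neg, neg_neg]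
  · have f1 : ∀ s : K, MulAut.conj (S.x k l s) (S.y i c) = S.y i c :=
      fun s => S.cj_xy_comm hkl hi.2.1 hi.2.2.1 _ _
    have f2 : ∀ s : K, MulAut.conj (S.x l k s) (S.y i c) = S.y i c :=
      fun s => S.cj_xy_comm hkl.symm hi.1 hi.2.2.2 _ _
    rw [S.toOD.conj_w, f1, f2, f1, sD_oth hi, cD_oth hi, one_mul]

/-- **the three statements of piece P4.** -/
theorem p4Hyp (hm : 3 ≤ m) : S.P4Hyp :=
  ⟨fun hkl _ hu i c => S.w_conj_y hm hkl hu i c, fun a _ hu _ _ hij c => S.ws_conj_x hm a hu hij c,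
    fun a _ hu i c => S.ws_conj_y hm a hu i c⟩

/-- `w_kl(u)` is monomial. -/
theorem monB_w (hm : 3 ≤ m) {k l : Idx m} (hkl : Rt k l) {u : K} (hu : u ≠ 0) :
    S.MonB (S.w k l u) (sD k l) (cD k l u) 1 := S.monB_w_of hm (S.p4Hyp hm) hkl hu

/-- `w_a(u)` is monomial. -/
theorem monB_ws (hm : 3 ≤ m) (a : Idx m) {u : K} (hu : u ≠ 0) :
    S.MonB (S.ws a u) (sB a) (cB a u) (-1) := S.monB_ws_of (S.p4Hyp hm) a hu

end OB

end Cfsg.Agent.CtRecB
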