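import Mathlib
import Cfsg.Agent.CtRecB.Defs
import Cfsg.Agent.CtRecD.SchCext3
import Cfsg.Agent.CtRecD.SchMain
import Cfsg.Agent.CtRecD.SchT

set_option autoImplicit false
set_option linter.unusedSectionVars false
set_option linter.unusedVariables false

/-!
# S2094, work package P14: central extensions of a group with the Steinberg relations of type `B_m` — the short roots (helper7)

Input: a central extension `C : CExt E G` of a group `G` with a system `Sg : OB m K G`, a lift `SE : OD m K E` of the long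
root elements (`hx`), and the action of the torus elements `h_kl(s)` on the short root elements of `G` (`hHy`).
Output: `SE` extends to a system of type `B_m` in `E` lifting `Sg`, if `2 ≠ 0` and (`4 ≤ m` or some `s ≠ 0` has `s² ≠ 1`).
All arguments are torus arguments (`lc_of_torus`): a central, additive discrepancy which is invariant under a torus element
scaling by `r ≠ 1` vanishes.
-/

namespace Cfsg.Agent.CtRecB

open Cfsg.Agent.CtRecD Cfsg.Agent.Helper7.Sc Cfsg.Agent.Helper7.Sl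

variable {m : ℕ} {K : Type*} [Field K] {G E : Type*} [Group G] [Group E]
  (Sg : OB m K G) (C : CExt E G) (SE : OD m K E)

/-- `g` acts on the root elements of `Sg` by the character `χ`, and the conjugation by its lifts acts in the same
way on the lifted long root elements. -/
structure TorB (g : G) (χ : Idx m → K) : Prop where
  ne : ∀ i, χ i ≠ 0
  swap : ∀ i : Idx m, χ i.swap = (χ i)⁻¹
  gx : ∀ i j, Rt i j → ∀ c : K, g * Sg.x i j c * g⁻¹ = Sg.x i j (χ i * (χ j)⁻¹ * c)
  gy : ∀ (i : Idx m) (c : K), g * Sg.y i c * g⁻¹ = Sg.y i (χ i * c)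
  ex : ∀ i j, Rt i j → ∀ c : K, C.kap g (SE.x i j c) = SE.x i j (χ i * (χ j)⁻¹ * c)

theorem TorB.mul {g g' : G} {χ χ' : Idx m → K} (h : TorB Sg C SE g χ) (h' : TorB Sg C SE g' χ') :
    TorB Sg C SE (g * g') (fun i => χ i * χ' i) := by
  refine ⟨fun i => mul_ne_zero (h.ne i) (h'.ne i), fun i => ?_, fun i j hij c => ?_, fun i c => ?_,
    fun i j hij c => ?_⟩
  · show χ i.swap * χ' i.swap = (χ i * χ' i)⁻¹
    rw [h.swap, h'.swap, mul_inv]
  · have e : g * g' * Sg.x i j c * (g * g')⁻¹ = g * (g' * Sg.x i j c * g'⁻¹) * g⁻¹ := by group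
    rw [e, h'.gx i j hij, h.gx i j hij]
    congr 1
    show χ i * (χ j)⁻¹ * (χ' i * (χ' j)⁻¹ * c) = χ i * χ' i * (χ j * χ' j)⁻¹ * c
    rw [mul_inv]
    ring
  · have e : g * g' * Sg.y i c * (g * g')⁻¹ = g * (g' * Sg.y i c * g'⁻¹) * g⁻¹ := by group
    rw [e, h'.gy, h.gy]
    congr 1
    show χ i * (χ' i * c) = χ i * χ' i * c
    ring
  · rw [C.kap_mul, h'.ex i j hij, h.ex i j hij]
    congr 1
    show χ i * (χ j)⁻¹ * (χ' i * (χ' j)⁻¹ * c) = χ i * χ' i * (χ j * χ' j)⁻¹ * c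
    rw [mul_inv]
    ring

section base

variable (hm : 3 ≤ m) (hx : ∀ a b, Rt a b → ∀ t : K, C.ψ (SE.x a b t) = Sg.x a b t)
  (hHy : ∀ k l : Idx m, Rt k l → ∀ s : K, s ≠ 0 → ∀ (c : Idx m) (u : K),
    Sg.h k l s * Sg.y c u * (Sg.h k l s)⁻¹ = Sg.y c (hD k l s c * u))

include hm hx hHy in
/-- the torus elements `h_kl(s)`. -/
theorem torB_h {k l : Idx m} (hkl : Rt k l) {s : K} (hs : s ≠ 0) :
    TorB Sg C SE (Sg.h k l s) (hD k l s) := by
  refine ⟨hD_ne_zero k l hs, s5_hD_swap hkl s, fun i j hij c => ?_, fun i c => hHy k l hkl s hs i c,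
    fun i j hij c => ?_⟩
  · have h := (Sg.toOD.mon_h hm hkl hs).2.2 i j hij c
    rw [MulAut.conj_apply] at h
    exact h
  · have hψ : C.ψ (SE.h k l s) = Sg.h k l s := OD.map_h SE Sg.toOD C.ψ hx hkl s
    rw [C.kap_eq hψ]
    have h := (SE.mon_h hm hkl hs).2.2 i j hij c
    rw [MulAut.conj_apply] at h
    exact h

end base

/-! ### general lemmas on central extensions -/

/-- commuting lifts: all lifts commute. -/
theorem p14_lc_of_lifts {d d' : G} {e e' : E} (he : C.ψ e = d) (he' : C.ψ e' = d')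
    (h : e * e' = e' * e) : C.LC d d' := by
  rw [C.LC_iff, C.cm_eq he he', h]
  group

/-- lifts of `d` commute with lifts of a product, if they commute with the lifts of the factors. -/
theorem p14_lc_mul {d d₁ d₂ : G} (h1 : C.LC d d₁) (h2 : C.LC d d₂) : C.LC d (d₁ * d₂) :=
  ((C.LCen d).mul_mem (C.mem_LCen.mpr h1.symm) (C.mem_LCen.mpr h2.symm)).symm

/-- two additive families of lifts of the same elements coincide, if some conjugation scales both by `r ≠ 1`. -/
theorem p14_eq_of_torus (A B : K → E) (hA : ∀ t u, A t * A u = A (t + u))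
    (hB : ∀ t u, B t * B u = B (t + u)) (hψ : ∀ t, C.ψ (A t) = C.ψ (B t)) (g : G) (r : K)
    (hr : r - 1 ≠ 0) (hgA : ∀ t, C.kap g (A t) = A (r * t)) (hgB : ∀ t, C.kap g (B t) = B (r * t))
    (t : K) : A t = B t := by
  have hA0 : A 0 = 1 := by
    have h := hA 0 0
    rw [add_zero] at h
    exact mul_eq_left.mp h
  have hB0 : B 0 = 1 := by
    have h := hB 0 0
    rw [add_zero] at h
    exact mul_eq_left.mp h
  have hBneg : ∀ a, (B a)⁻¹ = B (-a) := by
    intro a
    apply inv_eq_of_mul_eq_one_right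
    rw [hB, add_neg_cancel, hB0]
  have hAneg : ∀ a, (A a)⁻¹ = A (-a) := by
    intro a
    apply inv_eq_of_mul_eq_one_right
    rw [hA, add_neg_cancel, hA0]
  -- the central discrepancy
  have hz : ∀ a, C.ψ (A a * (B a)⁻¹) = 1 := fun a => by rw [map_mul, map_inv, hψ, mul_inv_cancel]
  have hcen : ∀ a (x : E), A a * (B a)⁻¹ * x = x * (A a * (B a)⁻¹) := fun a x => C.ker_comm (hz a) x
  have hadd : ∀ a b, A (a + b) * (B (a + b))⁻¹ = (A a * (B a)⁻¹) * (A b * (B b)⁻¹) := by
    intro a b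
    rw [← hA a b, ← hB a b, mul_inv_rev]
    calc A a * A b * ((B b)⁻¹ * (B a)⁻¹) = A a * (A b * (B b)⁻¹) * (B a)⁻¹ := by group
      _ = (A b * (B b)⁻¹) * A a * (B a)⁻¹ := by rw [← hcen b (A a)]
      _ = (A b * (B b)⁻¹) * (A a * (B a)⁻¹) := by group
      _ = (A a * (B a)⁻¹) * (A b * (B b)⁻¹) := by rw [hcen b]
  have hinv : ∀ a, A (r * a) * (B (r * a))⁻¹ = A a * (B a)⁻¹ := by
    intro a
    have h1 := C.kap_ker (hz a) g
    rw [map_mul, map_inv, hgA, hgB] at h1
    exact h1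
  have hkill : ∀ a, A ((r - 1) * a) * (B ((r - 1) * a))⁻¹ = 1 := by
    intro a
    have h1 := hadd a ((r - 1) * a)
    have e : a + (r - 1) * a = r * a := by ring
    rw [e, hinv] at h1
    exact (mul_eq_left.mp h1.symm)
  have h := hkill (t / (r - 1))
  rw [mul_div_cancel₀ _ hr] at h
  exact mul_inv_eq_one.mp h

section main

variable (hm : 3 ≤ m) (h2 : (2 : K) ≠ 0)
  (hx : ∀ a b, Rt a b → ∀ t : K, C.ψ (SE.x a b t) = Sg.x a b t)
  (hT : ∀ k l : Idx m, Rt k l → ∀ s : K, s ≠ 0 → TorB Sg C SE (Sg.h k l s) (hD k l s))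
  (hreg : 4 ≤ m ∨ ∃ s : K, s ≠ 0 ∧ s * s ≠ 1)

include h2 in
theorem p14_neg_one_sub : (-1 : K) - 1 ≠ 0 := by
  intro e
  apply h2
  linear_combination (-1 : K) * e

/-- the torus argument for a long and a short root element. -/
theorem p14_lc_xy_of {g : G} {χ : Idx m → K} (h : TorB Sg C SE g χ) {a b c : Idx m} (hab : Rt a b)
    (hcb : c ≠ b) (hca : c ≠ a.swap) (hc : χ c = 1) (hr : χ a * (χ b)⁻¹ - 1 ≠ 0) (t u : K) :
    C.LC (Sg.x a b t) (Sg.y c u) :=
  lc_of_torus C (fun t => Sg.x a b t) (fun u => Sg.y c u) (Sg.add a b hab)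
    (fun t u => Sg.xy_comm a b c hab hcb hca t u) g (χ a * (χ b)⁻¹) hr (fun t => h.gx a b hab t)
    (fun u => by rw [h.gy, hc, one_mul]) t u

include hm h2 hT hreg in
/-- **lifts of a long root element and of a short root element which commute, commute.** -/
theorem p14_lc_xy {a b c : Idx m} (hab : Rt a b) (hcb : c ≠ b) (hca : c ≠ a.swap) (t u : K) :
    C.LC (Sg.x a b t) (Sg.y c u) := by
  have hm1 : (-1 : K) ≠ 0 := neg_ne_zero.mpr one_ne_zero
  have hr := p14_neg_one_sub (K := K) h2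
  obtain ⟨d, d1, d2, d3, d4⟩ := OD.exists_oth hm a b
  by_cases hc1 : c = a
  · -- `h_bd(-1)`
    subst hc1
    have hbd : Rt b d := ⟨fun e => d2 e.symm, fun e => d4 (swap_eq_iff.mp e.symm)⟩
    refine p14_lc_xy_of Sg C SE (hT b d hbd (-1) hm1) hab hcb hca ?_ ?_ t u
    · apply c3_hD_out
      push Not
      exact ⟨hab.1, fun e => d1 e.symm, hab.2, fun e => d3 (swap_eq_iff.mp e.symm)⟩
    · rw [c3_hD_out b d (i := c) (by
        push Not
        exact ⟨hab.1, fun e => d1 e.symm, hab.2, fun e => d3 (swap_eq_iff.mp e.symm)⟩),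
        c3_hD_in b d (i := b) (Or.inl rfl)]
      rw [inv_neg, inv_one, one_mul]
      exact hr
  · have had : Rt a d := ⟨fun e => d1 e.symm, fun e => d3 (swap_eq_iff.mp e.symm)⟩
    by_cases hc2 : c = b.swap
    · -- `h_ad(-1)`
      subst hc2
      refine p14_lc_xy_of Sg C SE (hT a d had (-1) hm1) hab hcb hca ?_ ?_ t u
      · apply c3_hD_out
        push Not
        exact ⟨fun e => hab.2 e.symm, fun e => d4 e.symm, fun e => hab.1 (swap_inj.mp e).symm,
          fun e => d2 (swap_inj.mp e).symm⟩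
      · rw [c3_hD_in a d (i := a) (Or.inl rfl), c3_hD_out a d (i := b) (by
          push Not
          exact ⟨hab.1.symm, fun e => d2 e.symm, fun e => hab.2 (by rw [e, Sum.swap_swap]),
            fun e => d4 (swap_eq_iff.mp e.symm)⟩)]
        rw [inv_one, mul_one]
        exact hr
    · rcases hreg with h4 | ⟨s, hs0, hs1⟩
      · -- a fourth coordinate `e`, `h_ae(-1)`
        obtain ⟨e, he⟩ := exists_not_mem_list [a, a.swap, b, b.swap, c, c.swap]
          (by simp only [List.length_cons, List.length_nil]; omega)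
        simp only [List.mem_cons, List.not_mem_nil, or_false, not_or] at he
        obtain ⟨e1, e2, e3, e4, e5, e6⟩ := he
        have hae : Rt a e := ⟨fun h => e1 h.symm, fun h => e2 (by rw [h, Sum.swap_swap])⟩
        refine p14_lc_xy_of Sg C SE (hT a e hae (-1) hm1) hab hcb hca ?_ ?_ t u
        · apply c3_hD_out
          push Not
          exact ⟨hc1, fun h => e5 h.symm, hca, fun h => e6 (by rw [h, Sum.swap_swap])⟩
        · rw [c3_hD_in a e (i := a) (Or.inl rfl), c3_hD_out a e (i := b) (by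
            push Not
            exact ⟨hab.1.symm, fun h => e3 h.symm, fun h => hab.2 (by rw [h, Sum.swap_swap]),
              fun h => e4 (by rw [h, Sum.swap_swap])⟩)]
          rw [inv_one, mul_one]
          exact hr
      · -- `h_ab(s)`, `s² ≠ 1`
        refine p14_lc_xy_of Sg C SE (hT a b hab s hs0) hab hcb hca ?_ ?_ t u
        · exact s3_hD_oth ⟨hc1, hcb, hca, hc2⟩ s
        · rw [s3_hD_k, s3_hD_l hab, inv_inv]
          exact sub_ne_zero.mpr hs1

/-! ### the lifts of the short root elements -/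

/-- the commutator of lifts of `x_ab(t)` and `y_b(1)`: a lift of `y_a(t) x_{a b̄}(t)`. -/
noncomputable def Pb (a b : Idx m) (t : K) : E := C.cm (Sg.x a b t) (Sg.y b 1)

/-- the lift of `y_a(t)` through the index `b`. -/
noncomputable def Yb (a b : Idx m) (t : K) : E := Pb Sg C a b t * (SE.x a b.swap t)⁻¹

theorem ψ_Pb {a b : Idx m} (hab : Rt a b) (t : K) :
    C.ψ (Pb Sg C a b t) = Sg.y a t * Sg.x a b.swap t := by
  unfold Pb
  rw [C.ψ_cm, Sg.xy a b hab t 1, mul_one, mul_one]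

include hx in
theorem ψ_Yb {a b : Idx m} (hab : Rt a b) (t : K) : C.ψ (Yb Sg C SE a b t) = Sg.y a t := by
  unfold Yb
  rw [map_mul, map_inv, ψ_Pb Sg C hab, hx a b.swap hab.swap_right, mul_inv_cancel_right]

include hx in
/-- lifts of `x_ab(t)` and `x_{a b̄}(u)` commute. -/
theorem p14_lc_row {a b : Idx m} (hab : Rt a b) (t u : K) : C.LC (Sg.x a b t) (Sg.x a b.swap u) :=
  p14_lc_of_lifts C (hx a b hab t) (hx a b.swap hab.swap_right u) (SE.comm_row a b hab t u)

include hm h2 hx hT hreg in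
theorem Pb_add {a b : Idx m} (hab : Rt a b) (t u : K) :
    Pb Sg C a b (t + u) = Pb Sg C a b u * Pb Sg C a b t := by
  unfold Pb
  rw [← Sg.add a b hab t u, cm_mul_left]
  congr 1
  have h1 : C.LC (Sg.x a b t) (Sg.y a u) :=
    p14_lc_xy Sg C SE hm h2 hT hreg hab hab.1 (ne_swap a) t u
  have h2' : C.LC (Sg.x a b t) (Sg.x a b.swap u) := p14_lc_row Sg C SE hx hab t u
  exact (p14_lc_mul C h1 h2').kap_eq C (ψ_Pb Sg C hab u)

include hm h2 hx hT hreg in
theorem Pb_add' {a b : Idx m} (hab : Rt a b) (t u : K) :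
    Pb Sg C a b t * Pb Sg C a b u = Pb Sg C a b (t + u) := by
  rw [add_comm, Pb_add Sg C SE hm h2 hx hT hreg hab u t]

include hm h2 hx hT hreg in
/-- `x̃_{a b̄}(t)` commutes with the lift `Pb a b u`. -/
theorem p14_x_Pb_comm {a b : Idx m} (hab : Rt a b) (t u : K) :
    SE.x a b.swap t * Pb Sg C a b u = Pb Sg C a b u * SE.x a b.swap t := by
  have hab' : Rt a b.swap := hab.swap_right
  have h1 : C.LC (Sg.x a b.swap t) (Sg.y a u) :=
    p14_lc_xy Sg C SE hm h2 hT hreg hab' hab'.1 (ne_swap a) t u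
  have h2' : C.LC (Sg.x a b.swap t) (Sg.x a b.swap u) :=
    p14_lc_of_lifts C (hx a b.swap hab' t) (hx a b.swap hab' u) (by
      rw [SE.add a b.swap hab', SE.add a b.swap hab', add_comm])
  exact (p14_lc_mul C h1 h2') _ _ (hx a b.swap hab' t) (ψ_Pb Sg C hab u)

include hm h2 hx hT hreg in
/-- **the lifts of the short root elements are additive.** -/
theorem Yb_add {a b : Idx m} (hab : Rt a b) (t u : K) :
    Yb Sg C SE a b t * Yb Sg C SE a b u = Yb Sg C SE a b (t + u) := by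
  have hab' : Rt a b.swap := hab.swap_right
  unfold Yb
  have hc := p14_x_Pb_comm Sg C SE hm h2 hx hT hreg hab t u
  have hc' : (SE.x a b.swap t)⁻¹ * Pb Sg C a b u = Pb Sg C a b u * (SE.x a b.swap t)⁻¹ := by
    calc (SE.x a b.swap t)⁻¹ * Pb Sg C a b u
        = (SE.x a b.swap t)⁻¹ * (Pb Sg C a b u * SE.x a b.swap t) * (SE.x a b.swap t)⁻¹ := by group
      _ = (SE.x a b.swap t)⁻¹ * (SE.x a b.swap t * Pb Sg C a b u) * (SE.x a b.swap t)⁻¹ := by rw [hc]
      _ = Pb Sg C a b u * (SE.x a b.swap t)⁻¹ := by group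
  calc Pb Sg C a b t * (SE.x a b.swap t)⁻¹ * (Pb Sg C a b u * (SE.x a b.swap u)⁻¹)
      = Pb Sg C a b t * ((SE.x a b.swap t)⁻¹ * Pb Sg C a b u) * (SE.x a b.swap u)⁻¹ := by group
    _ = Pb Sg C a b t * (Pb Sg C a b u * (SE.x a b.swap t)⁻¹) * (SE.x a b.swap u)⁻¹ := by rw [hc']
    _ = (Pb Sg C a b t * Pb Sg C a b u) * (SE.x a b.swap u * SE.x a b.swap t)⁻¹ := by group
    _ = Pb Sg C a b (t + u) * (SE.x a b.swap (t + u))⁻¹ := by
      rw [Pb_add' Sg C SE hm h2 hx hT hreg hab, SE.add a b.swap hab', add_comm u t]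

/-- a torus element fixing `y_b(1)` scales the lift of `y_a(t)` through `b`. -/
theorem kap_Yb {g : G} {χ : Idx m → K} (h : TorB Sg C SE g χ) {a b : Idx m} (hab : Rt a b)
    (hb : χ b = 1) (t : K) : C.kap g (Yb Sg C SE a b t) = Yb Sg C SE a b (χ a * t) := by
  unfold Yb Pb
  rw [map_mul, map_inv, C.kap_cm, h.gx a b hab, h.gy, h.ex a b.swap hab.swap_right, h.swap, hb,
    inv_one, mul_one, mul_one, inv_one, mul_one]

include hm h2 hx hT hreg in
theorem Yb_zero {a b : Idx m} (hab : Rt a b) : Yb Sg C SE a b 0 = 1 := by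
  have h := Yb_add Sg C SE hm h2 hx hT hreg hab 0 0
  rw [add_zero] at h
  exact mul_eq_left.mp h

include hm h2 hx hT hreg in
/-- **the lift of `y_a(t)` does not depend on the auxiliary index.** -/
theorem Yb_indep {a b b' : Idx m} (hab : Rt a b) (hab' : Rt a b') (t : K) :
    Yb Sg C SE a b t = Yb Sg C SE a b' t := by
  have hm1 : (-1 : K) ≠ 0 := neg_ne_zero.mpr one_ne_zero
  have hr := p14_neg_one_sub (K := K) h2
  by_cases hb1 : b' = b
  · rw [hb1]
  obtain ⟨d, d1, d2, d3, d4⟩ := OD.exists_oth hm a b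
  have had : Rt a d := ⟨fun e => d1 e.symm, fun e => d3 (swap_eq_iff.mp e.symm)⟩
  have hbout : ¬ (b = a ∨ b = d ∨ b = a.swap ∨ b = d.swap) := by
    push Not
    exact ⟨hab.1.symm, fun e => d2 e.symm, fun e => hab.2 (by rw [e, Sum.swap_swap]),
      fun e => d4 (swap_eq_iff.mp e.symm)⟩
  by_cases hb2 : b' = b.swap
  · -- `h_ad(-1)`
    subst hb2
    have hT' := hT a d had (-1) hm1
    have hb'out : ¬ (b.swap = a ∨ b.swap = d ∨ b.swap = a.swap ∨ b.swap = d.swap) := by
      push Not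
      exact ⟨fun e => hab.2 e.symm, fun e => d4 e.symm, fun e => hab.1 (swap_inj.mp e).symm,
        fun e => d2 (swap_inj.mp e).symm⟩
    refine p14_eq_of_torus C _ _ (Yb_add Sg C SE hm h2 hx hT hreg hab)
      (Yb_add Sg C SE hm h2 hx hT hreg hab') (fun t => ?_) (Sg.h a d (-1)) (-1) hr (fun t => ?_)
      (fun t => ?_) t
    · rw [ψ_Yb Sg C SE hx hab, ψ_Yb Sg C SE hx hab']
    · rw [kap_Yb Sg C SE hT' hab (c3_hD_out a d hbout), c3_hD_in a d (i := a) (Or.inl rfl)]
    · rw [kap_Yb Sg C SE hT' hab' (c3_hD_out a d hb'out), c3_hD_in a d (i := a) (Or.inl rfl)]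
  · have hb3 : b' ≠ a := hab'.1.symm
    have hb4 : b' ≠ a.swap := fun e => hab'.2 (by rw [e, Sum.swap_swap])
    rcases hreg with h4 | ⟨s, hs0, hs1⟩
    · -- a fourth coordinate `e`, `h_ae(-1)`
      obtain ⟨e, he⟩ := exists_not_mem_list [a, a.swap, b, b.swap, b', b'.swap]
        (by simp only [List.length_cons, List.length_nil]; omega)
      simp only [List.mem_cons, List.not_mem_nil, or_false, not_or] at he
      obtain ⟨e1, e2, e3, e4, e5, e6⟩ := he
      have hae : Rt a e := ⟨fun h => e1 h.symm, fun h => e2 (by rw [h, Sum.swap_swap])⟩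
      have hT' := hT a e hae (-1) hm1
      have o1 : ¬ (b = a ∨ b = e ∨ b = a.swap ∨ b = e.swap) := by
        push Not
        exact ⟨hab.1.symm, fun h => e3 h.symm, fun h => hab.2 (by rw [h, Sum.swap_swap]),
          fun h => e4 (by rw [h, Sum.swap_swap])⟩
      have o2 : ¬ (b' = a ∨ b' = e ∨ b' = a.swap ∨ b' = e.swap) := by
        push Not
        exact ⟨hb3, fun h => e5 h.symm, hb4, fun h => e6 (by rw [h, Sum.swap_swap])⟩
      refine p14_eq_of_torus C _ _ (Yb_add Sg C SE hm h2 hx hT (Or.inl h4) hab)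
        (Yb_add Sg C SE hm h2 hx hT (Or.inl h4) hab') (fun t => ?_) (Sg.h a e (-1)) (-1) hr (fun t => ?_)
        (fun t => ?_) t
      · rw [ψ_Yb Sg C SE hx hab, ψ_Yb Sg C SE hx hab']
      · rw [kap_Yb Sg C SE hT' hab (c3_hD_out a e o1), c3_hD_in a e (i := a) (Or.inl rfl)]
      · rw [kap_Yb Sg C SE hT' hab' (c3_hD_out a e o2), c3_hD_in a e (i := a) (Or.inl rfl)]
    · -- `h_ab(s) h_{a b̄}(s)`, `s² ≠ 1`
      have habs : Rt a b.swap := hab.swap_right
      have hT' := (hT a b hab s hs0).mul Sg C SE (hT a b.swap habs s hs0)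
      have hreg' : 4 ≤ m ∨ ∃ s : K, s ≠ 0 ∧ s * s ≠ 1 := Or.inr ⟨s, hs0, hs1⟩
      have ob' : Oth a b b' := ⟨hb3, hb1, hb4, hb2⟩
      have ob'' : Oth a b.swap b' := ⟨hb3, hb2, hb4, by rw [Sum.swap_swap]; exact hb1⟩
      have cb : hD a b s b * hD a b.swap s b = 1 := by
        have e : hD a b.swap s b = s := by
          have := s3_hD_lbar habs s
          rwa [Sum.swap_swap] at this
        rw [s3_hD_l hab, e, inv_mul_cancel₀ hs0]
      have cb' : hD a b s b' * hD a b.swap s b' = 1 := by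
        rw [s3_hD_oth ob' s, s3_hD_oth ob'' s, one_mul]
      have ca : hD a b s a * hD a b.swap s a = s * s := by
        rw [s3_hD_k, s3_hD_k]
      refine p14_eq_of_torus C _ _ (Yb_add Sg C SE hm h2 hx hT hreg' hab)
        (Yb_add Sg C SE hm h2 hx hT hreg' hab') (fun t => ?_) (Sg.h a b s * Sg.h a b.swap s) (s * s)
        (sub_ne_zero.mpr hs1) (fun t => ?_) (fun t => ?_) t
      · rw [ψ_Yb Sg C SE hx hab, ψ_Yb Sg C SE hx hab']
      · rw [kap_Yb Sg C SE hT' hab cb, ca]
      · rw [kap_Yb Sg C SE hT' hab' cb', ca]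

theorem p14_cm_one_right (d : G) : C.cm d 1 = 1 := by
  rw [← C.cm_inv, C.cm_central_left (Subgroup.one_mem _) d, inv_one]

theorem p14_y_zero (a : Idx m) : Sg.y a 0 = 1 := by
  have h := Sg.yadd a 0 0
  rw [add_zero] at h
  exact mul_eq_left.mp h

include hm h2 hx hT hreg in
/-- **the relation `xy` for the lifts.** -/
theorem p14_xy {a b b' : Idx m} (hab : Rt a b) (hab' : Rt a b') (t u : K) :
    C.cm (Sg.x a b t) (Sg.y b u) = Yb Sg C SE a b' (t * u) * SE.x a b.swap (t * u * u) := by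
  have habs : Rt a b.swap := hab.swap_right
  by_cases hu : u = 0
  · rw [hu, p14_y_zero, p14_cm_one_right, mul_zero, mul_zero, Yb_zero Sg C SE hm h2 hx hT hreg hab',
      SE.x_zero habs, mul_one]
  obtain ⟨d, d1, d2, d3, d4⟩ := OD.exists_oth hm a b
  have had : Rt a d := ⟨fun e => d1 e.symm, fun e => d3 (swap_eq_iff.mp e.symm)⟩
  have hba : Rt b a := hab.symm
  have hT' := hT b a hba u hu
  have cb : hD b a u b = u := s3_hD_k u
  have ca : hD b a u a = u⁻¹ := s3_hD_l hba u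
  have cd : hD b a u d = 1 := s3_hD_oth ⟨d2, d1, d4, d3⟩ u
  have e1 : Sg.x a b t = Sg.h b a u * Sg.x a b (u * u * t) * (Sg.h b a u)⁻¹ := by
    rw [hT'.gx a b hab, ca, cb]
    congr 1
    field_simp
  have e2 : Sg.y b u = Sg.h b a u * Sg.y b 1 * (Sg.h b a u)⁻¹ := by
    rw [hT'.gy, cb, mul_one]
  have e3 : C.cm (Sg.x a b t) (Sg.y b u) = C.kap (Sg.h b a u) (Pb Sg C a b (u * u * t)) := by
    unfold Pb
    rw [C.kap_cm, ← e1, ← e2]
  have e4 : Pb Sg C a b (u * u * t) = Yb Sg C SE a b (u * u * t) * SE.x a b.swap (u * u * t) := by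
    unfold Yb
    rw [inv_mul_cancel_right]
  rw [e3, e4, map_mul, Yb_indep Sg C SE hm h2 hx hT hreg hab had, kap_Yb Sg C SE hT' had cd,
    hT'.ex a b.swap habs, hT'.swap, ca, cb, Yb_indep Sg C SE hm h2 hx hT hreg had hab']
  congr 2
  · field_simp
  · field_simp

include hm h2 hx hT hreg in
/-- **the relation `yy` for the lifts.** -/
theorem p14_yy {a b : Idx m} (hab : Rt a b) (t u : K) :
    C.cm (Sg.y a t) (Sg.y b u) = SE.x a b.swap (-(2 * t * u)) := by
  have hm1 : (-1 : K) ≠ 0 := neg_ne_zero.mpr one_ne_zero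
  have hr := p14_neg_one_sub (K := K) h2
  have habs : Rt a b.swap := hab.swap_right
  obtain ⟨d, d1, d2, d3, d4⟩ := OD.exists_oth hm a b
  have had : Rt a d := ⟨fun e => d1 e.symm, fun e => d3 (swap_eq_iff.mp e.symm)⟩
  have hT' := hT a d had (-1) hm1
  have ca : hD a d (-1 : K) a = -1 := c3_hD_in a d (Or.inl rfl)
  have cb : hD a d (-1 : K) b = 1 := by
    apply c3_hD_out
    push Not
    exact ⟨hab.1.symm, fun e => d2 e.symm, fun e => hab.2 (by rw [e, Sum.swap_swap]),
      fun e => d4 (swap_eq_iff.mp e.symm)⟩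
  have hψA : ∀ t : K, C.ψ (C.cm (Sg.y a t) (Sg.y b u)) = Sg.x a b.swap (-(2 * t * u)) := by
    intro t
    rw [C.ψ_cm, Sg.yy a b hab]
  have hAadd : ∀ t t' : K, C.cm (Sg.y a t) (Sg.y b u) * C.cm (Sg.y a t') (Sg.y b u) =
      C.cm (Sg.y a (t + t')) (Sg.y b u) := by
    intro t t'
    have h1 : C.cm (Sg.y a (t' + t)) (Sg.y b u) =
        C.cm (Sg.y a t) (Sg.y b u) * C.cm (Sg.y a t') (Sg.y b u) := by
      rw [← Sg.yadd a t' t, cm_mul_left]
      congr 1
      have hlc : C.LC (Sg.y a t') (Sg.x a b.swap (-(2 * t * u))) :=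
        (p14_lc_xy Sg C SE hm h2 hT hreg habs habs.1 (ne_swap a) _ t').symm
      exact hlc.kap_eq C (hψA t)
    rw [← h1, add_comm]
  refine p14_eq_of_torus C (fun t => C.cm (Sg.y a t) (Sg.y b u))
    (fun t => SE.x a b.swap (-(2 * t * u))) hAadd ?_ ?_ (Sg.h a d (-1)) (-1) hr ?_ ?_ t
  · intro t t'
    show SE.x a b.swap (-(2 * t * u)) * SE.x a b.swap (-(2 * t' * u)) =
      SE.x a b.swap (-(2 * (t + t') * u))
    rw [SE.add a b.swap habs]
    congr 1
    ring
  · intro t
    show C.ψ (C.cm (Sg.y a t) (Sg.y b u)) = C.ψ (SE.x a b.swap (-(2 * t * u)))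
    rw [hψA, hx a b.swap habs]
  · intro t
    show C.kap (Sg.h a d (-1)) (C.cm (Sg.y a t) (Sg.y b u)) = C.cm (Sg.y a (-1 * t)) (Sg.y b u)
    rw [C.kap_cm, hT'.gy, hT'.gy, ca, cb, one_mul]
  · intro t
    show C.kap (Sg.h a d (-1)) (SE.x a b.swap (-(2 * t * u))) = SE.x a b.swap (-(2 * (-1 * t) * u))
    rw [hT'.ex a b.swap habs, hT'.swap, ca, cb, inv_one, inv_one]
    congr 1
    ring

/-- a chosen auxiliary index. -/
noncomputable def p14_bet (hm : 3 ≤ m) (a : Idx m) : Idx m := Classical.choose (OD.exists_oth hm a a)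

theorem p14_bet_rt (a : Idx m) : Rt a (p14_bet hm a) := by
  obtain ⟨h1, _, h3, _⟩ := Classical.choose_spec (OD.exists_oth hm a a)
  exact ⟨fun e => h1 e.symm, fun e => h3 (swap_eq_iff.mp e.symm)⟩

include hm h2 hx hT hreg in
/-- **the central extension carries the Steinberg relations of type `B_m`**, given the lift `SE` of the long root
elements and the torus. -/
theorem exists_OB_lift_of :
    ∃ SB : OB m K E, SB.toOD = SE ∧ ∀ (a : Idx m) (t : K), C.ψ (SB.y a t) = Sg.y a t := by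
  have hb := p14_bet_rt hm
  have hψ : ∀ (a : Idx m) (t : K), C.ψ (Yb Sg C SE a (p14_bet hm a) t) = Sg.y a t :=
    fun a t => ψ_Yb Sg C SE hx (hb a) t
  refine ⟨{ toOD := SE
            y := (fun a t => Yb Sg C SE a (p14_bet hm a) t)
            yadd := ?_
            yy := ?_
            xy := ?_
            xy_comm := ?_ }, rfl, hψ⟩
  · intro a t u
    exact Yb_add Sg C SE hm h2 hx hT hreg (hb a) t u
  · intro a b hab t u
    rw [← C.cm_eq (hψ a t) (hψ b u)]
    exact p14_yy Sg C SE hm h2 hx hT hreg hab t u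
  · intro a b hab t u
    rw [← C.cm_eq (hx a b hab t) (hψ b u)]
    exact p14_xy Sg C SE hm h2 hx hT hreg hab (hb a) t u
  · intro a b c hab hcb hca t u
    exact p14_lc_xy Sg C SE hm h2 hT hreg hab hcb hca t u _ _ (hx a b hab t) (hψ c u)

end main

end Cfsg.Agent.CtRecB
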