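import Mathlib
import Cfsg.Agent.CtRecB.ObCextA
import Cfsg.Agent.CtRecD.SchCext4b
import Cfsg.Agent.Helper7.ScB

set_option autoImplicit false
set_option linter.unusedSectionVars false
set_option linter.unusedVariables false

/-!
# S2094, work package P14: central extensions of a group with the Steinberg relations of type `B_m` (helper7)

`exists_OD_lift_any`: the long roots, any rank `≥ 3`, `2 ≠ 0` (rank 3: `SchCext3`, rank 4: `SchCext4b`, rank `≥ 5`: `SchCext`).
`exists_OB_lift_of_torus`: the extension carries the Steinberg relations of type `B_m`, given the action of the torus elements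
`h_kl(s)` on the short root elements of `G` (work package P10, `monB_h`).
-/

namespace Cfsg.Agent.CtRecB

open Matrix Cfsg.Agent.CtRecD Cfsg.Agent.Helper7.Sc Cfsg.Agent.Helper7.Sl

variable {m : ℕ} {K : Type*} [Field K] {G E : Type*} [Group G] [Group E]

theorem p14_three_le_card [Fintype K] (h2 : (2 : K) ≠ 0) : 3 ≤ Fintype.card K := by
  have h1 : 1 < Fintype.card K := Fintype.one_lt_card
  have h3 : ¬ Fintype.card K % 2 = 0 := fun h => h2 (two_eq_zero_iff_card_even.mpr h)
  omega

/-- the rank four case of `SchCext4b`, without the generation hypothesis. -/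
theorem p14_lift_four [Fintype K] (hK : 3 ≤ Fintype.card K) (Sd : OD 4 K G) (C : CExt E G) :
    ∃ SE : OD 4 K E, ∀ a b, Rt a b → ∀ t : K, C.ψ (SE.x a b t) = Sd.x a b t := by
  obtain ⟨Φ, Φ', hΦ, hΦ'⟩ := exists_two_lifts hK Sd C
  have hΦ'' : ∀ (i j : Fin 4) (hij : i ≠ j) (t : K),
      C.ψ (Φ' (SpecialLinearGroup.transvection hij t)) =
        Sd.x (if i = 3 then Sum.inr 3 else Sum.inl i) (if j = 3 then Sum.inr 3 else Sum.inl j) t := by
    intro i j hij t
    rw [← s8_idxA'_four, ← s8_idxA'_four]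
    exact hΦ' i j hij t
  obtain ⟨SE, h1, h2, h3⟩ := exists_OD_lift_four_pre hK Sd C Φ Φ' hΦ hΦ''
  exact ⟨SE, OD.map_x_of_dpair 3 SE Sd C.ψ h1 h2 h3⟩

/-- **central extensions of a group with the Steinberg relations of type `D_m`, `m ≥ 3`, `2 ≠ 0`.** -/
theorem exists_OD_lift_any [Fintype K] (hm : 3 ≤ m) (h2 : (2 : K) ≠ 0) (Sd : OD m K G)
    (C : CExt E G) : ∃ SE : OD m K E, ∀ a b, Rt a b → ∀ t : K, C.ψ (SE.x a b t) = Sd.x a b t := by
  by_cases h5 : 5 ≤ m
  · exact exists_OD_lift h5 Sd C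
  · by_cases h4 : m = 4
    · subst h4
      exact p14_lift_four (p14_three_le_card h2) Sd C
    · obtain rfl : m = 3 := by omega
      exact exists_OD_lift_three C h2 Sd

/-- **central extensions of a group with the Steinberg relations of type `B_m`**, `m ≥ 3`, `q` odd, `(m, q) ≠ (3, 3)`, given the
action of the torus on the short root elements. -/
theorem exists_OB_lift_of_torus [Fintype K] (hm : 3 ≤ m) (h2 : (2 : K) ≠ 0)
    (hexc : ¬ (m = 3 ∧ Fintype.card K = 3)) (Sg : OB m K G) (C : CExt E G)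
    (hHy : ∀ k l : Idx m, Rt k l → ∀ s : K, s ≠ 0 → ∀ (c : Idx m) (u : K),
      Sg.h k l s * Sg.y c u * (Sg.h k l s)⁻¹ = Sg.y c (hD k l s c * u)) :
    ∃ SB : OB m K E, (∀ a b, Rt a b → ∀ t : K, C.ψ (SB.x a b t) = Sg.x a b t) ∧
      ∀ (a : Idx m) (t : K), C.ψ (SB.y a t) = Sg.y a t := by
  obtain ⟨SE, hx⟩ := exists_OD_lift_any hm h2 Sg.toOD C
  have hreg : 4 ≤ m ∨ ∃ s : K, s ≠ 0 ∧ s * s ≠ 1 := by
    by_cases h4 : 4 ≤ m
    · exact Or.inl h4
    · right
      have hm3 : m = 3 := by omega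
      have h3 := p14_three_le_card (K := K) h2
      have hodd : ¬ Fintype.card K % 2 = 0 := fun h => h2 (two_eq_zero_iff_card_even.mpr h)
      have h5 : 4 < (Finset.univ : Finset K).card := by
        rw [Finset.card_univ]
        have : Fintype.card K ≠ 3 := fun h => hexc ⟨hm3, h⟩
        omega
      obtain ⟨v, hv0, hv⟩ := exists_pow_ne_one (K := K) ⟨Finset.univ, h5⟩ (m := 2) (by norm_num)
        (by norm_num)
      exact ⟨v, hv0, by rwa [pow_two] at hv⟩
  obtain ⟨SB, hSB, hy⟩ := exists_OB_lift_of Sg C SE hm h2 hx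
    (fun k l hkl s hs => torB_h Sg C SE hm hx hHy hkl hs) hreg
  refine ⟨SB, fun a b hab t => ?_, hy⟩
  have e : SB.x a b t = SE.x a b t := by rw [← hSB]
  rw [e, hx a b hab t]

end Cfsg.Agent.CtRecB
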