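import Mathlib
import Cfsg.Agent.CtRecB.ObC
import Cfsg.Agent.CtRecD.SchH
import Cfsg.Agent.CtRecD.RecogD2

set_option autoImplicit false
set_option linter.unusedSectionVars false
set_option linter.unusedVariables false

/-!
# S2094, piece P10: the torus of a system of type `B_m` (helper3)

Port of `CtRecD/SchH.lean`: the elements `h_kl(t)`, `h_a(t)` act monomially with trivial permutation; over a finite
field `h_a(t) = h_ab(t) h_ab̄(t)` (the coroot of `ε_a` is the sum of the coroots of `ε_a - ε_b` and `ε_a + ε_b`), so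
that `H̃_B` is the torus `H̃` of the long-root subsystem of type `D_m`; the matrices of `h_kl(t)`, `h_a(t)`.
Piece P4 enters through `OB.P4Hyp` (of `ObC.lean`).
-/

namespace Cfsg.Agent.CtRecB

open Matrix Cfsg.Agent.CtRecD

variable {m : ℕ} {K : Type*} [Field K] {Γ : Type*} [Group Γ] (S : OB m K Γ)

/-- the embedding `M ↦ 1 ⊕ M` of the matrices. -/
def p10_blk : Matrix (Idx m) (Idx m) K →* Matrix (IdxB m) (IdxB m) K where
  toFun M := Matrix.fromBlocks 1 0 0 M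
  map_one' := Matrix.fromBlocks_one
  map_mul' A B := by
    rw [Matrix.fromBlocks_multiply]
    simp

theorem p10_blk_oX (a b : Idx m) (t : K) : p10_blk (oX a b t) = bX a b t := rfl

theorem p10_blk_diag (d : Idx m → K) :
    p10_blk (Matrix.diagonal d) = Matrix.diagonal (Sum.elim (fun _ => (1 : K)) d) := by
  show Matrix.fromBlocks 1 0 0 (Matrix.diagonal d) = _
  rw [← Matrix.diagonal_one, Matrix.fromBlocks_diagonal]

theorem p10_od {a b : Idx m} (hab : Rt a b) (u : K) :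
    p10_blk (Units.coeHom (Matrix (Idx m) (Idx m) K) ((odGL m K).x a b u)) = bX a b u := by
  rw [odGL_x hab, Units.coeHom_apply, oXG_coe hab, p10_blk_oX]

namespace OB

/-- the matrix of `h_kl(t)`. -/
theorem phi_h_B (hm : 3 ≤ m) (φ : Γ →* Matrix (IdxB m) (IdxB m) K) (hφ : S.IsMat φ) {k l : Idx m}
    (hkl : Rt k l) {t : K} (ht : t ≠ 0) :
    φ (S.h k l t) = Matrix.diagonal (Sum.elim (fun _ => (1 : K)) (hD k l t)) := by
  have h0 := (odGL m K).phi_h (Units.coeHom (Matrix (Idx m) (Idx m) K))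
    (fun a b h t => by rw [odGL_x h, Units.coeHom_apply, oXG_coe h]) hm hkl ht
  rw [← p10_blk_diag, ← h0]
  unfold OD.h OD.w
  simp only [map_mul, hφ.x k l hkl, hφ.x l k hkl.symm, p10_od hkl, p10_od hkl.symm]

section P4

variable (hm : 3 ≤ m) (H : S.P4Hyp)

include hm H in
/-- `h_kl(t)` acts monomially. -/
theorem monB_h_of {k l : Idx m} (hkl : Rt k l) {t : K} (ht : t ≠ 0) :
    S.MonB (S.h k l t) 1 (hD k l t) 1 := by
  have hm1 : (-1 : K) ≠ 0 := neg_ne_zero.mpr one_ne_zero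
  have h1 := (S.monB_w_of hm H hkl ht).mul (S.monB_w_of hm H hkl hm1)
  refine h1.congr (s3_sD_sq hkl) ?_ (one_mul 1)
  intro i
  rcases s3_cases (k := k) (l := l) i with rfl | rfl | rfl | rfl | hi
  · rw [sD_k hkl, cD_l, cD_k hkl, s3_hD_k, inv_neg, inv_one, neg_neg, mul_one]
  · rw [sD_l hkl, cD_k hkl, cD_l, s3_hD_l hkl]
    ring
  · rw [sD_kbar hkl, cD_lbar hkl, cD_kbar hkl, s3_hD_kbar hkl, neg_neg, mul_one]
  · rw [sD_lbar hkl, cD_kbar hkl, cD_lbar hkl, s3_hD_lbar hkl, inv_neg, inv_one]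
    ring
  · rw [sD_oth hi, cD_oth hi, cD_oth hi, s3_hD_oth hi, mul_one]

include H in
/-- `h_a(t)` acts monomially. -/
theorem monB_hs_of (a : Idx m) {t : K} (ht : t ≠ 0) : S.MonB (S.hs a t) 1 (hDs a t) 1 := by
  have hm1 : (-1 : K) ≠ 0 := neg_ne_zero.mpr one_ne_zero
  have h1 := (S.monB_ws_of H a ht).mul (S.monB_ws_of H a hm1)
  have hσ : sB a * sB a = 1 := by
    ext i
    rw [Equiv.Perm.mul_apply, sB_sB, Equiv.Perm.one_apply]
  refine h1.congr hσ ?_ (by rw [neg_mul_neg, one_mul])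
  intro i
  by_cases h1 : i = a
  · rw [h1, sB_a, cB_abar, cB_a, hDs_a, inv_neg, inv_one]
    ring
  · by_cases h2 : i = a.swap
    · rw [h2, sB_abar, cB_a, cB_abar, hDs_abar]
      ring
    · rw [sB_oth h1 h2, cB_oth h1 h2, cB_oth h1 h2, hDs_oth h1 h2, mul_one]

include hm H in
theorem exists_monB_of_mem_HtB_of {g : Γ} (hg : g ∈ S.HtB) : ∃ a : Idx m → K, S.MonB g 1 a 1 := by
  unfold HtB at hg
  induction hg using Subgroup.closure_induction with
  | mem g hg =>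
    rcases hg with ⟨k, l, u, hkl, hu, rfl⟩ | ⟨a, u, hu, rfl⟩
    · exact ⟨_, S.monB_h_of hm H hkl hu⟩
    · exact ⟨_, S.monB_hs_of H a hu⟩
  | one => exact ⟨_, S.monB_one⟩
  | mul a b _ _ iha ihb =>
    obtain ⟨c, h⟩ := iha
    obtain ⟨c', h'⟩ := ihb
    exact ⟨_, (h.mul h').congr (mul_one 1) (fun i => rfl) (mul_one 1)⟩
  | inv a _ ih =>
    obtain ⟨c, h⟩ := ih
    exact ⟨_, h.inv.congr inv_one (fun i => rfl) rfl⟩

include hm H in
/-- `H̃_B` is normalised by `W̃_B`. -/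
theorem HtB_conj_mem_of {g h : Γ} (hg : g ∈ S.WtB) (hh : h ∈ S.HtB) : g * h * g⁻¹ ∈ S.HtB := by
  obtain ⟨σ, a, ε, hM⟩ := S.exists_monB_of_mem_WtB_of hm H hg
  unfold HtB at hh
  induction hh using Subgroup.closure_induction with
  | mem x hx =>
    rcases hx with ⟨k, l, u, hkl, hu, rfl⟩ | ⟨k, u, hu, rfl⟩
    · have e := (OB.MonB.toMon S hM).conj_h S.toOD hkl hu
      rw [MulAut.conj_apply] at e
      rw [e]
      have hc : a k * (a l)⁻¹ ≠ 0 := mul_ne_zero (hM.ne_zero k) (inv_ne_zero (hM.ne_zero l))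
      exact mul_mem (S.h_mem_HtB (hM.rt hkl) (mul_ne_zero hc hu))
        (inv_mem (S.h_mem_HtB (hM.rt hkl) hc))
    · have e := hM.conj_hs k hu
      rw [MulAut.conj_apply] at e
      rw [e]
      have hv : ε * a k ≠ 0 := mul_ne_zero hM.eps_ne_zero (hM.ne_zero k)
      have e2 : S.ws (σ k) (ε * a k * u) * S.ws (σ k) (-(ε * a k)) =
          S.hs (σ k) (ε * a k * u) * (S.hs (σ k) (ε * a k))⁻¹ := by
        rw [← S.ws_inv, S.ws_eq_hs_mul (σ k) (ε * a k * u), S.ws_eq_hs_mul (σ k) (ε * a k)]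
        group
      rw [e2]
      exact mul_mem (S.hs_mem_HtB _ (mul_ne_zero hv hu)) (inv_mem (S.hs_mem_HtB _ hv))
  | one =>
    rw [mul_one, mul_inv_cancel]
    exact one_mem _
  | mul x y _ _ ihx ihy =>
    have : g * (x * y) * g⁻¹ = (g * x * g⁻¹) * (g * y * g⁻¹) := by group
    rw [this]
    exact mul_mem ihx ihy
  | inv x _ ih =>
    have : g * x⁻¹ * g⁻¹ = (g * x * g⁻¹)⁻¹ := by group
    rw [this]
    exact inv_mem ih


section fin

variable [Finite K]

include hm H in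
/-- **`h_a(t) = h_ab(t) h_ab̄(t)`**: the coroot of `ε_a` is the sum of the coroots of `ε_a - ε_b`, `ε_a + ε_b`. -/
theorem hs_eq_of {a b : Idx m} (hab : Rt a b) {t : K} (ht : t ≠ 0) :
    S.hs a t = S.h a b t * S.h a b.swap t := by
  have hC : ∀ k l : Idx m, Rt k l → ∀ t u : K, t ≠ 0 → u ≠ 0 →
      S.h k l t * S.h k l u = S.h k l (t * u) :=
    fun k l hkl t u ht hu => S.toOD.h_mul_of_finite hm hkl ht hu
  have hm1 : (-1 : K) ≠ 0 := neg_ne_zero.mpr one_ne_zero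
  have hu : t⁻¹ ≠ 0 := inv_ne_zero ht
  have hba : Rt b a := hab.symm
  have hbas : Rt b a.swap := hba.swap_right
  have habs : Rt a b.swap := hab.swap_right
  -- conjugation of `w_a(1)` by `g = h_ba(t⁻¹)`
  have e1 := (S.monB_h_of hm H hba hu).conj_ws a (one_ne_zero (α := K))
  rw [Equiv.Perm.one_apply, s3_hD_l hba, inv_inv, one_mul, mul_one, MulAut.conj_apply] at e1
  -- conjugation of `g` by `w_a(1)`
  have e2 := (OB.MonB.toMon S (S.monB_ws_of H a (one_ne_zero (α := K)))).conj_h S.toOD hba hu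
  rw [sB_oth hba.1 hba.2, sB_a, cB_oth hba.1 hba.2, cB_a, MulAut.conj_apply] at e2
  have e3 : (1 : K) * (-((1 : K)⁻¹ * (1 : K)⁻¹))⁻¹ = -1 := by
    rw [inv_one, mul_one, inv_neg, inv_one, one_mul]
  rw [e3, neg_one_mul] at e2
  have e4 : S.h b a.swap (-t⁻¹) * (S.h b a.swap (-1))⁻¹ = S.h b a.swap t⁻¹ := by
    have := hC b a.swap hbas t⁻¹ (-1) hu hm1
    rw [mul_neg_one] at this
    rw [← this, mul_inv_cancel_right]
  rw [e4] at e2
  -- assemble
  have e5 : S.hs a t = S.h b a t⁻¹ * (S.h b a.swap t⁻¹)⁻¹ := by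
    rw [← e2, S.hs_eq_ws_mul, ← e1]
    group
  rw [e5, S.toOD.h_swap hm hC hab hu, S.toOD.h_inv hC hab hu, inv_inv,
    S.toOD.h_inv hC hbas hu, inv_inv]
  congr 1
  have e6 := S.toOD.h_bar hC habs ht
  rw [Sum.swap_swap] at e6
  exact e6

include hm H in
/-- **`H̃_B` is the torus of the long-root subsystem.** -/
theorem HtB_eq_of : S.HtB = S.toOD.Ht := by
  apply le_antisymm
  · unfold HtB
    rw [Subgroup.closure_le]
    rintro g (⟨k, l, u, hkl, hu, rfl⟩ | ⟨a, u, hu, rfl⟩)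
    · exact S.toOD.h_mem_Ht hkl hu
    · obtain ⟨b, hb1, _, hb3, _⟩ := OD.exists_oth hm a a
      have hab : Rt a b := ⟨hb1.symm, fun e => hb3 (by rw [e, Sum.swap_swap])⟩
      rw [SetLike.mem_coe, S.hs_eq_of hm H hab hu]
      exact mul_mem (S.toOD.h_mem_Ht hab hu) (S.toOD.h_mem_Ht hab.swap_right hu)
  · unfold OD.Ht
    rw [Subgroup.closure_le]
    rintro g ⟨k, l, u, hkl, hu, rfl⟩
    exact S.h_mem_HtB hkl hu

include hm H in
/-- the matrix of `h_a(t)`. -/
theorem phi_hs_of (φ : Γ →* Matrix (IdxB m) (IdxB m) K) (hφ : S.IsMat φ) (a : Idx m) {t : K}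
    (ht : t ≠ 0) : φ (S.hs a t) = Matrix.diagonal (Sum.elim (fun _ => (1 : K)) (hDs a t)) := by
  obtain ⟨b, hb1, _, hb3, _⟩ := OD.exists_oth hm a a
  have hab : Rt a b := ⟨hb1.symm, fun e => hb3 (by rw [e, Sum.swap_swap])⟩
  have habs : Rt a b.swap := hab.swap_right
  rw [S.hs_eq_of hm H hab ht, map_mul, S.phi_h_B hm φ hφ hab ht, S.phi_h_B hm φ hφ habs ht,
    Matrix.diagonal_mul_diagonal]
  congr 1
  funext i
  rcases i with ⟨⟩ | i
  · simp
  · show hD a b t i * hD a b.swap t i = hDs a t i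
    rcases s3_cases (k := a) (l := b) i with rfl | rfl | rfl | rfl | hi
    · rw [s3_hD_k, s3_hD_k, hDs_a]
    · have e := s3_hD_lbar habs t
      rw [Sum.swap_swap] at e
      rw [s3_hD_l hab, e, hDs_oth hab.symm.1 hab.symm.2, inv_mul_cancel₀ ht]
    · rw [s3_hD_kbar hab, s3_hD_kbar habs, hDs_abar]
    · rw [s3_hD_lbar hab, s3_hD_l habs, hDs_oth (fun e => hab.2 e.symm)
        (fun e => hab.1 (swap_inj.mp e).symm), mul_inv_cancel₀ ht]
    · have hi' : Oth a b.swap i := ⟨hi.1, hi.2.2.2, hi.2.2.1, by rw [Sum.swap_swap]; exact hi.2.1⟩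
      rw [s3_hD_oth hi, s3_hD_oth hi', hDs_oth hi.1 hi.2.2.1, mul_one]

end fin

end P4

end OB

end Cfsg.Agent.CtRecB
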