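import Mathlib
import Cfsg.Agent.CtRecB.ObCextB
import Cfsg.Agent.CtRecB.ObH
import Cfsg.Agent.CtRecB.ObBa

set_option autoImplicit false
set_option linter.unusedSectionVars false
set_option linter.unusedVariables false

/-!
# S2094, work package P14: central extensions of a group with the Steinberg relations of type `B_m` (helper7)

The final form: the torus hypothesis of `exists_OB_lift_of_torus` discharged by `monB_h_of` (work package P10) and `p4Hyp`
(work package P4).
-/

namespace Cfsg.Agent.CtRecB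

open Cfsg.Agent.CtRecD Cfsg.Agent.Helper7.Sc

variable {m : ℕ} {K : Type*} [Field K] {G E : Type*} [Group G] [Group E]

/-- the torus elements `h_kl(s)` act on the short root elements by the character `hD k l s`. -/
theorem OB.h_conj_y (Sg : OB m K G) (hm : 3 ≤ m) {k l : Idx m} (hkl : Rt k l) {s : K} (hs : s ≠ 0)
    (c : Idx m) (u : K) : Sg.h k l s * Sg.y c u * (Sg.h k l s)⁻¹ = Sg.y c (hD k l s c * u) := by
  have h := (Sg.monB_h_of hm (Sg.p4Hyp hm) hkl hs).2.2.2.2.2 c u
  rw [MulAut.conj_apply, Equiv.Perm.one_apply, one_mul] at h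
  exact h

/-- **P14: a central extension of a group with the Steinberg relations of type `B_m` (`m ≥ 3`, `q` odd, `(m, q) ≠ (3, 3)`)
carries the Steinberg relations of type `B_m`.** -/
theorem exists_OB_lift [Fintype K] (hm : 3 ≤ m) (h2 : (2 : K) ≠ 0)
    (hexc : ¬ (m = 3 ∧ Fintype.card K = 3)) (Sg : OB m K G) (C : CExt E G) :
    ∃ SB : OB m K E, (∀ a b, Rt a b → ∀ t : K, C.ψ (SB.x a b t) = Sg.x a b t) ∧
      ∀ (a : Idx m) (t : K), C.ψ (SB.y a t) = Sg.y a t :=
  exists_OB_lift_of_torus hm h2 hexc Sg C (fun k l hkl s hs c u => Sg.h_conj_y hm hkl hs c u)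

end Cfsg.Agent.CtRecB
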