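import Mathlib
import Cfsg.Agent.CtRecB.Defs2
import Cfsg.Agent.CtRecD.OdD

set_option autoImplicit false
set_option linter.unusedSectionVars false
set_option linter.unusedVariables false

/-!
# S2094, piece P6: the subgroup generated by the positive root elements, type `B` (helper3)

Port of `CtRecD/OdD.lean`.  The row of `a = inl i` consists of the long root elements `x a b t` (canonical names)
and of the short root element `y a t`; the homomorphism to the matrices is injective on `UtB` (`2 ≠ 0`), and the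
matrices of `UtB` are upper unitriangular for the order `ordB`.
-/

namespace Cfsg.Agent.CtRecB

open Matrix Cfsg.Agent.CtRecD

variable {m : ℕ} {K : Type*} [Field K] {Γ : Type*} [Group Γ] (S : OB m K Γ)

/-! ### the matrices -/

theorem p6_bX_eq (a b : Idx m) (t : K) :
    bX a b t = 1 + Matrix.single (Sum.inr a : IdxB m) (Sum.inr b) t -
      Matrix.single (Sum.inr b.swap : IdxB m) (Sum.inr a.swap) t := by
  ext i j
  rcases i with ⟨⟩ | i <;> rcases j with ⟨⟩ | j <;>
    simp [bX, oX, Matrix.single_apply, Matrix.one_apply]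

theorem p6_bY_eq (a : Idx m) (t : K) :
    bY a t = 1 + Matrix.single (Sum.inr a : IdxB m) (Sum.inl ()) (2 * t) -
      Matrix.single (Sum.inl () : IdxB m) (Sum.inr a.swap) t -
      Matrix.single (Sum.inr a : IdxB m) (Sum.inr a.swap) (t * t) := by
  ext i j
  rcases i with ⟨⟩ | i <;> rcases j with ⟨⟩ | j <;>
    simp [bY, Matrix.single_apply, Matrix.one_apply, @eq_comm _ (Sum.swap a), @eq_comm _ a,
      apply_ite (fun z : K => -z)]

theorem p6_single_mul (i : IdxB m) (j : IdxB m) (c : K) (M : Matrix (IdxB m) (IdxB m) K)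
    (r s : IdxB m) : (Matrix.single i j c * M) r s = if r = i then c * M j s else 0 := by
  by_cases h : r = i
  · subst h
    rw [if_pos rfl, Matrix.single_mul_apply_same]
  · rw [if_neg h, Matrix.single_mul_apply_of_ne _ _ _ _ _ h]

theorem p6_bX_mul_apply (a b : Idx m) (t : K) (M : Matrix (IdxB m) (IdxB m) K) (r s : IdxB m) :
    (bX a b t * M) r s = M r s + (if r = Sum.inr a then t * M (Sum.inr b) s else 0) -
      (if r = Sum.inr b.swap then t * M (Sum.inr a.swap) s else 0) := by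
  rw [p6_bX_eq, sub_mul, add_mul, one_mul, Matrix.sub_apply, Matrix.add_apply, p6_single_mul,
    p6_single_mul]

theorem p6_bY_mul_apply (a : Idx m) (t : K) (M : Matrix (IdxB m) (IdxB m) K) (r s : IdxB m) :
    (bY a t * M) r s = M r s + (if r = Sum.inr a then 2 * t * M (Sum.inl ()) s else 0) -
      (if r = Sum.inl () then t * M (Sum.inr a.swap) s else 0) -
      (if r = Sum.inr a then t * t * M (Sum.inr a.swap) s else 0) := by
  rw [p6_bY_eq, sub_mul, sub_mul, add_mul, one_mul, Matrix.sub_apply, Matrix.sub_apply,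
    Matrix.add_apply, p6_single_mul, p6_single_mul, p6_single_mul]

/-- the position of an index in the order `inl 0 < ⋯ < inl (m-1) < e₀ < inr (m-1) < ⋯ < inr 0`. -/
def ordB : IdxB m → ℕ
  | Sum.inl _ => m
  | Sum.inr a => if ord a < m then ord a else ord a + 1

theorem ordB_inl (u : Unit) : ordB (Sum.inl u : IdxB m) = m := rfl

theorem ordB_inr (a : Idx m) : ordB (Sum.inr a : IdxB m) = if ord a < m then ord a else ord a + 1 := rfl

theorem ordB_lt_of_lt {a b : Idx m} (h : ord a < ord b) :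
    ordB (Sum.inr a : IdxB m) < ordB (Sum.inr b : IdxB m) := by
  rw [ordB_inr, ordB_inr]
  split_ifs <;> omega

namespace OB

/-! ### basic consequences of the relations -/

theorem p6_y_zero (a : Idx m) : S.y a 0 = 1 := by
  have h := S.yadd a 0 0
  rw [add_zero] at h
  exact mul_eq_left.mp h

theorem p6_y_inv (a : Idx m) (t : K) : (S.y a t)⁻¹ = S.y a (-t) := by
  apply inv_eq_of_mul_eq_one_right
  rw [S.yadd, add_neg_cancel, S.p6_y_zero]

theorem p6_ya_x {a b : Idx m} (hab : Rt a b) (t u : K) :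
    S.y a t * S.x a b u = S.x a b u * S.y a t :=
  (S.xy_comm a b a hab hab.1 (ne_swap a) u t).symm

theorem p6_cj_yy {c a : Idx m} (hca : Rt c a) (s t : K) :
    MulAut.conj (S.y c s) (S.y a t) = S.x c a.swap (-(2 * s * t)) * S.y a t := by
  rw [MulAut.conj_apply, ← S.yy c a hca s t, inv_mul_cancel_right]

theorem p6_cj_yx {a b : Idx m} (hab : Rt a b) (u t : K) :
    MulAut.conj (S.y b u) (S.x a b t) =
      S.x a b t * (S.y a (-(t * u)) * S.x a b.swap (-(t * u * u))) := by
  have e := S.xy a b hab (-t) u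
  rw [← S.toOD.x_inv hab, inv_inv, neg_mul, neg_mul] at e
  rw [MulAut.conj_apply, ← e]
  group

/-! ### subgroups generated by root elements -/

/-- the subgroup generated by the long root elements with `R a b` and the short root elements with `Q a`. -/
def XB (R : Idx m → Idx m → Prop) (Q : Idx m → Prop) : Subgroup Γ :=
  Subgroup.closure {g | (∃ (a b : Idx m) (t : K), Rt a b ∧ R a b ∧ g = S.x a b t) ∨
    ∃ (a : Idx m) (t : K), Q a ∧ g = S.y a t}

theorem x_mem_XB {R : Idx m → Idx m → Prop} {Q : Idx m → Prop} {a b : Idx m} (hab : Rt a b)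
    (h : R a b) (t : K) : S.x a b t ∈ S.XB R Q :=
  Subgroup.subset_closure (Or.inl ⟨a, b, t, hab, h, rfl⟩)

theorem y_mem_XB {R : Idx m → Idx m → Prop} {Q : Idx m → Prop} {a : Idx m} (h : Q a) (t : K) :
    S.y a t ∈ S.XB R Q :=
  Subgroup.subset_closure (Or.inr ⟨a, t, h, rfl⟩)

theorem XB_mono {R R' : Idx m → Idx m → Prop} {Q Q' : Idx m → Prop}
    (h : ∀ a b, Rt a b → R a b → R' a b) (h' : ∀ a, Q a → Q' a) : S.XB R Q ≤ S.XB R' Q' := by
  apply Subgroup.closure_mono
  rintro g (⟨a, b, t, hab, hR, rfl⟩ | ⟨a, t, hQ, rfl⟩)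
  · exact Or.inl ⟨a, b, t, hab, h a b hab hR, rfl⟩
  · exact Or.inr ⟨a, t, h' a hQ, rfl⟩

/-- induction by multiplication on the left with root elements. -/
theorem XB_induction_left {R : Idx m → Idx m → Prop} {Q : Idx m → Prop} {P : Γ → Prop} (h1 : P 1)
    (hx : ∀ (a b : Idx m) (t : K) (g : Γ), Rt a b → R a b → g ∈ S.XB R Q → P g → P (S.x a b t * g))
    (hy : ∀ (a : Idx m) (t : K) (g : Γ), Q a → g ∈ S.XB R Q → P g → P (S.y a t * g))
    {g : Γ} (hg : g ∈ S.XB R Q) : P g := by
  unfold XB at hg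
  induction hg using Subgroup.closure_induction_left with
  | one => exact h1
  | mul_left a ha b hb ih =>
    rcases ha with ⟨i, j, t, hij, hR, rfl⟩ | ⟨i, t, hQ, rfl⟩
    · exact hx i j t b hij hR hb ih
    · exact hy i t b hQ hb ih
  | inv_mul_cancel a ha b hb ih =>
    rcases ha with ⟨i, j, t, hij, hR, rfl⟩ | ⟨i, t, hQ, rfl⟩
    · rw [S.toOD.x_inv hij]
      exact hx i j (-t) b hij hR hb ih
    · rw [S.p6_y_inv]
      exact hy i (-t) b hQ hb ih

/-- induction by multiplication on the right with root elements. -/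
theorem XB_induction_right {R : Idx m → Idx m → Prop} {Q : Idx m → Prop} {P : Γ → Prop} (h1 : P 1)
    (hx : ∀ (a b : Idx m) (t : K) (g : Γ), Rt a b → R a b → g ∈ S.XB R Q → P g → P (g * S.x a b t))
    (hy : ∀ (a : Idx m) (t : K) (g : Γ), Q a → g ∈ S.XB R Q → P g → P (g * S.y a t))
    {g : Γ} (hg : g ∈ S.XB R Q) : P g := by
  unfold XB at hg
  induction hg using Subgroup.closure_induction_right with
  | one => exact h1
  | mul_right a ha b hb ih =>
    rcases hb with ⟨i, j, t, hij, hR, rfl⟩ | ⟨i, t, hQ, rfl⟩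
    · exact hx i j t a hij hR ha ih
    · exact hy i t a hQ ha ih
  | mul_inv_cancel a ha b hb ih =>
    rcases hb with ⟨i, j, t, hij, hR, rfl⟩ | ⟨i, t, hQ, rfl⟩
    · rw [S.toOD.x_inv hij]
      exact hx i j (-t) a hij hR ha ih
    · rw [S.p6_y_inv]
      exact hy i (-t) a hQ ha ih

/-- the subgroup generated by the positive root elements in the rows from the `k`-th on. -/
def HrB (k : ℕ) : Subgroup Γ := S.XB (OD.PosC k) (fun a => k ≤ ord a ∧ ord a < m)

/-- the subgroup generated by the positive root elements in the row `a` and the columns in `T`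
(the column `inl ()` stands for the short root element `y a t`). -/
def NrB (a : Idx m) (T : Finset (IdxB m)) : Subgroup Γ :=
  S.XB (fun a' b => a' = a ∧ (Sum.inr b : IdxB m) ∈ T ∧ ord a < ord b ∧ ord a + ord b + 1 < 2 * m)
    (fun a' => a' = a ∧ (Sum.inl () : IdxB m) ∈ T)

theorem UtB_eq_XB : S.UtB = S.XB (fun a b => ord a < ord b) (fun a => ord a < m) := by
  apply le_antisymm
  · unfold UtB
    rw [Subgroup.closure_le]
    rintro g (⟨a, b, t, hab, hlt, rfl⟩ | ⟨i, t, rfl⟩)
    · exact S.x_mem_XB hab hlt t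
    · exact S.y_mem_XB (show ord (Sum.inl i : Idx m) < m from i.isLt) t
  · unfold XB
    rw [Subgroup.closure_le]
    rintro g (⟨a, b, t, hab, hlt, rfl⟩ | ⟨a, t, ha, rfl⟩)
    · exact S.x_mem_UtB hab hlt t
    · rcases a with i | i
      · exact S.y_mem_UtB i t
      · exfalso
        simp only [ord] at ha
        have := i.isLt
        omega

theorem UtB_eq_HrB : S.UtB = S.HrB 0 := by
  rw [S.UtB_eq_XB]
  apply le_antisymm
  · unfold XB
    rw [Subgroup.closure_le]
    rintro g (⟨a, b, t, hab, hlt, rfl⟩ | ⟨a, t, ha, rfl⟩)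
    · have h1 := ord_swap a
      have h2 := ord_swap b
      have h3 := ord_lt a
      have h4 := ord_lt b
      by_cases hc : ord a + ord b + 1 < 2 * m
      · exact S.x_mem_XB hab ⟨Nat.zero_le _, hlt, hc⟩ t
      · rw [S.xbar a b hab]
        refine S.x_mem_XB hab.bar ⟨Nat.zero_le _, by omega, ?_⟩ _
        have hne : ord a + ord b + 1 ≠ 2 * m := by
          intro e
          apply hab.2
          apply ord_injective
          rw [h2]
          omega
        omega
    · exact S.y_mem_XB ⟨Nat.zero_le _, ha⟩ t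
  · exact S.XB_mono (fun a b _ h => h.2.1) (fun a h => h.2)

theorem NrB_step_x {a b₀ : Idx m} {T : Finset (IdxB m)} (hb₀ : (Sum.inr b₀ : IdxB m) ∉ T)
    (hab₀ : Rt a b₀) {g : Γ} (hg : g ∈ S.NrB a (insert (Sum.inr b₀) T)) :
    ∃ (t : K) (y : Γ), y ∈ S.NrB a T ∧ g = S.x a b₀ t * y := by
  refine S.XB_induction_left (P := fun g => ∃ (t : K) (y : Γ), y ∈ S.NrB a T ∧
    g = S.x a b₀ t * y) ?_ ?_ ?_ hg
  · exact ⟨0, 1, one_mem _, by rw [S.toOD.x_zero hab₀, one_mul]⟩
  · rintro a' b s g hab ⟨rfl, hbT, h1, h2⟩ hg ⟨t, y, hy, rfl⟩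
    rw [Finset.mem_insert] at hbT
    rcases hbT with hb | hbT
    · have hb' : b = b₀ := Sum.inr.inj hb
      subst hb'
      exact ⟨s + t, y, hy, by rw [← mul_assoc, S.add _ _ hab]⟩
    · refine ⟨t, S.x a' b s * y, mul_mem (S.x_mem_XB hab ⟨rfl, hbT, h1, h2⟩ s) hy, ?_⟩
      rw [← mul_assoc, S.toOD.row_comm hab hab₀, mul_assoc]
  · rintro a' s g ⟨rfl, h0⟩ hg ⟨t, y, hy, rfl⟩
    rw [Finset.mem_insert] at h0
    rcases h0 with h0 | h0
    · exact absurd h0 Sum.inl_ne_inr
    · refine ⟨t, S.y a' s * y, mul_mem (S.y_mem_XB ⟨rfl, h0⟩ s) hy, ?_⟩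
      rw [← mul_assoc, S.p6_ya_x hab₀, mul_assoc]

theorem NrB_step_y {a : Idx m} {T : Finset (IdxB m)} (h0 : (Sum.inl () : IdxB m) ∉ T)
    {g : Γ} (hg : g ∈ S.NrB a (insert (Sum.inl ()) T)) :
    ∃ (t : K) (y : Γ), y ∈ S.NrB a T ∧ g = S.y a t * y := by
  refine S.XB_induction_left (P := fun g => ∃ (t : K) (y : Γ), y ∈ S.NrB a T ∧
    g = S.y a t * y) ?_ ?_ ?_ hg
  · exact ⟨0, 1, one_mem _, by rw [S.p6_y_zero, one_mul]⟩
  · rintro a' b s g hab ⟨rfl, hbT, h1, h2⟩ hg ⟨t, y, hy, rfl⟩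
    rw [Finset.mem_insert] at hbT
    rcases hbT with hb | hbT
    · exact absurd hb Sum.inr_ne_inl
    · refine ⟨t, S.x a' b s * y, mul_mem (S.x_mem_XB hab ⟨rfl, hbT, h1, h2⟩ s) hy, ?_⟩
      rw [← mul_assoc, ← S.p6_ya_x hab, mul_assoc]
  · rintro a' s g ⟨rfl, _⟩ hg ⟨t, y, hy, rfl⟩
    exact ⟨s + t, y, hy, by rw [← mul_assoc, S.yadd]⟩


section phi

variable (φ : Γ →* Matrix (IdxB m) (IdxB m) K) (hφ : S.IsMat φ)

include hφ in
theorem NrB_shape {a : Idx m} {T : Finset (IdxB m)} {y : Γ} (hy : y ∈ S.NrB a T) :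
    (∀ r s : IdxB m, r ≠ Sum.inr a → s ≠ Sum.inr a.swap →
        φ y r s = (1 : Matrix (IdxB m) (IdxB m) K) r s) ∧
      (∀ s : IdxB m, s ∉ T → s ≠ Sum.inr a → s ≠ Sum.inr a.swap → φ y (Sum.inr a) s = 0) ∧
      φ y (Sum.inr a) (Sum.inr a) = 1 := by
  have hna : (Sum.inr a.swap : IdxB m) ≠ Sum.inr a := fun e => ne_swap a (Sum.inr.inj e).symm
  refine S.XB_induction_left (P := fun y =>
    (∀ r s : IdxB m, r ≠ Sum.inr a → s ≠ Sum.inr a.swap →
        φ y r s = (1 : Matrix (IdxB m) (IdxB m) K) r s) ∧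
      (∀ s : IdxB m, s ∉ T → s ≠ Sum.inr a → s ≠ Sum.inr a.swap → φ y (Sum.inr a) s = 0) ∧
      φ y (Sum.inr a) (Sum.inr a) = 1) ?_ ?_ ?_ hy
  · rw [map_one]
    exact ⟨fun _ _ _ _ => rfl, fun s _ hs _ => Matrix.one_apply_ne hs.symm, Matrix.one_apply_eq _⟩
  · rintro a' b t g hab ⟨rfl, hbT, h1, h2⟩ hg ⟨i1, i2, i3⟩
    rw [map_mul, hφ.x a' b hab]
    have hba : (Sum.inr b : IdxB m) ≠ Sum.inr a' := fun e => hab.1 (Sum.inr.inj e).symm
    have hab' : (Sum.inr a' : IdxB m) ≠ Sum.inr b.swap := fun e => hab.2 (Sum.inr.inj e)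
    refine ⟨?_, ?_, ?_⟩
    · intro r s hr hs
      rw [p6_bX_mul_apply, if_neg hr, add_zero, i1 r s hr hs, i1 _ s hna hs,
        Matrix.one_apply_ne (fun e => hs e.symm), mul_zero, ite_self, sub_zero]
    · intro s hsT hsa hsa'
      have hsb : (Sum.inr b : IdxB m) ≠ s := fun e => hsT (e ▸ hbT)
      rw [p6_bX_mul_apply, if_pos rfl, if_neg hab', sub_zero, i2 s hsT hsa hsa', i1 _ s hba hsa',
        Matrix.one_apply_ne hsb, mul_zero, zero_add]
    · rw [p6_bX_mul_apply, if_pos rfl, if_neg hab', sub_zero, i3, i1 _ _ hba hna.symm,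
        Matrix.one_apply_ne hba, mul_zero, add_zero]
  · rintro a' t g ⟨rfl, h0T⟩ hg ⟨i1, i2, i3⟩
    rw [map_mul, hφ.y a']
    have h0a : (Sum.inl () : IdxB m) ≠ Sum.inr a' := Sum.inl_ne_inr
    refine ⟨?_, ?_, ?_⟩
    · intro r s hr hs
      rw [p6_bY_mul_apply, if_neg hr, if_neg hr, add_zero, sub_zero, i1 r s hr hs, i1 _ s hna hs,
        Matrix.one_apply_ne (fun e => hs e.symm), mul_zero, ite_self, sub_zero]
    · intro s hsT hsa hsa'
      have hs0 : (Sum.inl () : IdxB m) ≠ s := fun e => hsT (e ▸ h0T)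
      rw [p6_bY_mul_apply, if_pos rfl, if_neg h0a.symm, if_pos rfl, sub_zero, i2 s hsT hsa hsa',
        i1 _ s h0a hsa', i1 _ s hna hsa', Matrix.one_apply_ne hs0,
        Matrix.one_apply_ne (fun e => hsa' e.symm), mul_zero, mul_zero, zero_add, sub_zero]
    · rw [p6_bY_mul_apply, if_pos rfl, if_neg h0a.symm, if_pos rfl, sub_zero, i3,
        i1 _ _ h0a hna.symm, i1 _ _ hna hna.symm, Matrix.one_apply_ne h0a, Matrix.one_apply_ne hna,
        mul_zero, mul_zero, add_zero, sub_zero]

include hφ in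
theorem NrB_inj (h2 : (2 : K) ≠ 0) {a : Idx m} : ∀ (T : Finset (IdxB m)) (y : Γ), y ∈ S.NrB a T →
    (∀ s, φ y (Sum.inr a) s = (1 : Matrix (IdxB m) (IdxB m) K) (Sum.inr a) s) → y = 1 := by
  have hna : (Sum.inr a.swap : IdxB m) ≠ Sum.inr a := fun e => ne_swap a (Sum.inr.inj e).symm
  have h0a : (Sum.inl () : IdxB m) ≠ Sum.inr a := Sum.inl_ne_inr
  have h0a' : (Sum.inl () : IdxB m) ≠ Sum.inr a.swap := Sum.inl_ne_inr
  intro T
  induction T using Finset.induction_on with
  | empty =>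
    intro y hy _
    refine S.XB_induction_left (P := fun y => y = 1) rfl ?_ ?_ hy
    · rintro a' b s g hab ⟨_, hb, _⟩ _ _
      exact absurd hb (Finset.notMem_empty _)
    · rintro a' s g ⟨_, hb⟩ _ _
      exact absurd hb (Finset.notMem_empty _)
  | insert b₀ T hb₀ ih =>
    intro y hy hrow
    rcases b₀ with ⟨⟩ | b₀
    · obtain ⟨t, y', hy', rfl⟩ := S.NrB_step_y hb₀ hy
      obtain ⟨i1, i2, i3⟩ := S.NrB_shape φ hφ hy'
      have e := hrow (Sum.inl ())
      rw [map_mul, hφ.y a, p6_bY_mul_apply, if_pos rfl, if_neg h0a.symm, if_pos rfl, sub_zero,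
        i2 _ hb₀ h0a h0a', i1 _ _ h0a h0a', i1 _ _ hna h0a', Matrix.one_apply_eq,
        Matrix.one_apply_ne h0a'.symm, Matrix.one_apply_ne h0a.symm, zero_add, mul_one, mul_zero,
        sub_zero] at e
      have ht : t = 0 := by
        rcases mul_eq_zero.mp e with h | h
        · exact absurd h h2
        · exact h
      rw [ht, S.p6_y_zero, one_mul] at hrow ⊢
      exact ih y' hy' hrow
    · by_cases hgood : Rt a b₀
      · obtain ⟨t, y', hy', rfl⟩ := S.NrB_step_x hb₀ hgood hy
        obtain ⟨i1, i2, i3⟩ := S.NrB_shape φ hφ hy'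
        have hba : (Sum.inr b₀ : IdxB m) ≠ Sum.inr a := fun e => hgood.1 (Sum.inr.inj e).symm
        have hba' : (Sum.inr b₀ : IdxB m) ≠ Sum.inr a.swap :=
          fun e => hgood.2 (by rw [Sum.inr.inj e, Sum.swap_swap])
        have hab' : (Sum.inr a : IdxB m) ≠ Sum.inr b₀.swap := fun e => hgood.2 (Sum.inr.inj e)
        have e := hrow (Sum.inr b₀)
        rw [map_mul, hφ.x a b₀ hgood, p6_bX_mul_apply, if_pos rfl, if_neg hab', sub_zero,
          i2 _ hb₀ hba hba', i1 _ _ hba hba', Matrix.one_apply_eq, Matrix.one_apply_ne hba.symm,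
          zero_add, mul_one] at e
        rw [e, S.toOD.x_zero hgood, one_mul] at hrow ⊢
        exact ih y' hy' hrow
      · apply ih y _ hrow
        have : S.NrB a (insert (Sum.inr b₀) T) ≤ S.NrB a T := by
          apply S.XB_mono
          · rintro a' b hab ⟨rfl, hbT, h1, h2'⟩
            rw [Finset.mem_insert] at hbT
            rcases hbT with hb | hbT
            · rw [Sum.inr.inj hb] at hab
              exact absurd hab hgood
            · exact ⟨rfl, hbT, h1, h2'⟩
          · rintro a' ⟨rfl, h0⟩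
            rw [Finset.mem_insert] at h0
            rcases h0 with h0 | h0
            · exact absurd h0 Sum.inl_ne_inr
            · exact ⟨rfl, h0⟩
        exact this hy

end phi


theorem NrB_conj_x {a c d : Idx m} (hcd : Rt c d) (hac : ord a < ord c) (hpos : OD.PosC 0 c d) (s : K)
    {y : Γ} (hy : y ∈ S.NrB a Finset.univ) :
    MulAut.conj (S.x c d s) y ∈ S.NrB a Finset.univ := by
  obtain ⟨_, hcd1, hcd2⟩ := hpos
  have o1 := ord_swap a
  have o2 := ord_swap c
  have o3 := ord_swap d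
  refine S.XB_induction_left (P := fun y => MulAut.conj (S.x c d s) y ∈ S.NrB a Finset.univ)
    ?_ ?_ ?_ hy
  · rw [map_one]
    exact one_mem _
  · rintro a' b t g hab ⟨rfl, _, h1, h2⟩ hg ih
    rw [map_mul]
    refine mul_mem ?_ ih
    have o4 := ord_swap b
    have hself : S.x a' b t ∈ S.NrB a' Finset.univ :=
      S.x_mem_XB hab ⟨rfl, Finset.mem_univ _, h1, h2⟩ t
    by_cases hbc : b = c
    · subst hbc
      have had : Rt a' d := by
        refine ⟨fun e => ?_, fun e => ?_⟩
        · rw [e] at hac; omega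
        · rw [e] at hac; omega
      rw [S.toOD.cj_two hab hcd had]
      refine mul_mem (S.x_mem_XB had ⟨rfl, Finset.mem_univ _, by omega, by omega⟩ _) hself
    · by_cases hdb : d = b.swap
      · subst hdb
        have hbc' : Rt b c.swap := by
          have := hcd.bar
          rwa [Sum.swap_swap] at this
        have hac' : Rt a' c.swap := by
          refine ⟨fun e => ?_, fun e => ?_⟩
          · rw [e] at hac; omega
          · rw [e, Sum.swap_swap] at hac; omega
        rw [S.xbar c b.swap hcd, Sum.swap_swap, S.toOD.cj_two hab hbc' hac']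
        refine mul_mem (S.x_mem_XB hac' ⟨rfl, Finset.mem_univ _, by omega, by omega⟩ _) hself
      · rw [S.toOD.cj_comm hcd hab (fun e => by rw [e] at hcd1; omega) (fun e => hbc e.symm)
          (fun e => by rw [e] at hac; omega) (fun e => hdb (by rw [e, Sum.swap_swap]))]
        exact hself
  · rintro a' t g ⟨rfl, _⟩ hg ih
    rw [map_mul]
    refine mul_mem ?_ ih
    have e : MulAut.conj (S.x c d s) (S.y a' t) = S.y a' t := by
      rw [MulAut.conj_apply, S.xy_comm c d a' hcd (fun e => by rw [e] at hac; omega)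
        (fun e => by rw [e] at hac; omega) s t, mul_inv_cancel_right]
    rw [e]
    exact S.y_mem_XB ⟨rfl, Finset.mem_univ _⟩ t

theorem NrB_conj_y {a c : Idx m} (hac : ord a < ord c) (hc : ord c < m) (s : K)
    {y : Γ} (hy : y ∈ S.NrB a Finset.univ) :
    MulAut.conj (S.y c s) y ∈ S.NrB a Finset.univ := by
  have o1 := ord_swap a
  have o2 := ord_swap c
  have hca : Rt c a := by
    refine ⟨fun e => ?_, fun e => ?_⟩
    · rw [e] at hac; omega
    · rw [e] at hac hc; omega
  have hacs : Rt a c.swap := by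
    refine ⟨fun e => ?_, fun e => ?_⟩
    · rw [e] at hac; omega
    · rw [e, Sum.swap_swap] at hac; omega
  have hmem : ∀ u : K, S.x a c.swap u ∈ S.NrB a Finset.univ :=
    fun u => S.x_mem_XB hacs ⟨rfl, Finset.mem_univ _, by omega, by omega⟩ u
  refine S.XB_induction_left (P := fun y => MulAut.conj (S.y c s) y ∈ S.NrB a Finset.univ)
    ?_ ?_ ?_ hy
  · rw [map_one]
    exact one_mem _
  · rintro a' b t g hab ⟨rfl, _, h1, h2⟩ hg ih
    rw [map_mul]
    refine mul_mem ?_ ih
    have hself : S.x a' b t ∈ S.NrB a' Finset.univ :=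
      S.x_mem_XB hab ⟨rfl, Finset.mem_univ _, h1, h2⟩ t
    by_cases hbc : b = c
    · subst hbc
      rw [S.p6_cj_yx hab]
      exact mul_mem hself (mul_mem (S.y_mem_XB ⟨rfl, Finset.mem_univ _⟩ _) (hmem _))
    · have e : MulAut.conj (S.y c s) (S.x a' b t) = S.x a' b t := by
        rw [MulAut.conj_apply, ← S.xy_comm a' b c hab (fun e => hbc e.symm)
          (fun e => by rw [e] at hac hc; omega) t s, mul_inv_cancel_right]
      rw [e]
      exact hself
  · rintro a' t g ⟨rfl, _⟩ hg ih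
    rw [map_mul]
    refine mul_mem ?_ ih
    rw [S.p6_cj_yy hca]
    refine mul_mem ?_ (S.y_mem_XB ⟨rfl, Finset.mem_univ _⟩ t)
    have hcas : Rt c a'.swap := hca.swap_right
    rw [S.xbar c a'.swap hcas, Sum.swap_swap]
    exact hmem _

theorem HrB_step {k : ℕ} (hk : k < m) {g : Γ} (hg : g ∈ S.HrB k) :
    ∃ (h y : Γ), h ∈ S.HrB (k + 1) ∧ y ∈ S.NrB (Sum.inl ⟨k, hk⟩) Finset.univ ∧ g = h * y := by
  refine S.XB_induction_right (P := fun g => ∃ (h y : Γ), h ∈ S.HrB (k + 1) ∧
    y ∈ S.NrB (Sum.inl ⟨k, hk⟩) Finset.univ ∧ g = h * y) ?_ ?_ ?_ hg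
  · exact ⟨1, 1, one_mem _, one_mem _, (mul_one 1).symm⟩
  · rintro a b t g hab ⟨h0, h1, h2⟩ hg ⟨h, y, hh, hy, rfl⟩
    by_cases ha : ord a = k
    · have : a = Sum.inl ⟨k, hk⟩ := ord_injective (by rw [ha]; rfl)
      subst this
      exact ⟨h, y * S.x _ b t, hh,
        mul_mem hy (S.x_mem_XB hab ⟨rfl, Finset.mem_univ _, h1, h2⟩ t), by rw [mul_assoc]⟩
    · have ha' : k + 1 ≤ ord a := by omega
      refine ⟨h * S.x a b t, MulAut.conj (S.x a b (-t)) y,
        mul_mem hh (S.x_mem_XB hab ⟨ha', h1, h2⟩ t), ?_, ?_⟩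
      · exact S.NrB_conj_x (a := Sum.inl ⟨k, hk⟩) hab (show k < ord a by omega)
          ⟨Nat.zero_le _, h1, h2⟩ _ hy
      · rw [MulAut.conj_apply, ← S.toOD.x_inv hab]
        group
  · rintro a t g ⟨h0, h1⟩ hg ⟨h, y, hh, hy, rfl⟩
    by_cases ha : ord a = k
    · have : a = Sum.inl ⟨k, hk⟩ := ord_injective (by rw [ha]; rfl)
      subst this
      exact ⟨h, y * S.y _ t, hh,
        mul_mem hy (S.y_mem_XB ⟨rfl, Finset.mem_univ _⟩ t), by rw [mul_assoc]⟩
    · have ha' : k + 1 ≤ ord a := by omega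
      refine ⟨h * S.y a t, MulAut.conj (S.y a (-t)) y,
        mul_mem hh (S.y_mem_XB ⟨ha', h1⟩ t), ?_, ?_⟩
      · exact S.NrB_conj_y (a := Sum.inl ⟨k, hk⟩) (show k < ord a by omega) h1 _ hy
      · rw [MulAut.conj_apply, ← S.p6_y_inv]
        group

section phi2

variable (φ : Γ →* Matrix (IdxB m) (IdxB m) K) (hφ : S.IsMat φ)

include hφ in
theorem HrB_shape {k : ℕ} {h : Γ} (hh : h ∈ S.HrB (k + 1)) :
    ∀ (r : Idx m) (s : IdxB m), ord r ≤ k →
      φ h (Sum.inr r) s = (1 : Matrix (IdxB m) (IdxB m) K) (Sum.inr r) s := by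
  refine S.XB_induction_left (P := fun h => ∀ (r : Idx m) (s : IdxB m), ord r ≤ k →
    φ h (Sum.inr r) s = (1 : Matrix (IdxB m) (IdxB m) K) (Sum.inr r) s) ?_ ?_ ?_ hh
  · intro r s _
    rw [map_one]
  · rintro a b t g hab ⟨h0, h1, h2⟩ hg ih r s hr
    have o1 := ord_swap b
    have hra : (Sum.inr r : IdxB m) ≠ Sum.inr a := fun e => by
      rw [Sum.inr.inj e] at hr; omega
    have hrb : (Sum.inr r : IdxB m) ≠ Sum.inr b.swap := fun e => by
      rw [Sum.inr.inj e] at hr; omega
    rw [map_mul, hφ.x a b hab, p6_bX_mul_apply, if_neg hra, if_neg hrb, add_zero, sub_zero,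
      ih r s hr]
  · rintro a t g ⟨h0, h1⟩ hg ih r s hr
    have hra : (Sum.inr r : IdxB m) ≠ Sum.inr a := fun e => by
      rw [Sum.inr.inj e] at hr; omega
    have hr0 : (Sum.inr r : IdxB m) ≠ Sum.inl () := Sum.inr_ne_inl
    rw [map_mul, hφ.y a, p6_bY_mul_apply, if_neg hra, if_neg hr0, if_neg hra, add_zero, sub_zero,
      sub_zero, ih r s hr]

include hφ in
theorem HrB_inj (h2 : (2 : K) ≠ 0) : ∀ (j k : ℕ), k + j = m → ∀ g ∈ S.HrB k, φ g = 1 → g = 1 := by
  intro j
  induction j with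
  | zero =>
    intro k hk g hg _
    refine S.XB_induction_left (P := fun y => y = 1) rfl ?_ ?_ hg
    · rintro a b s g hab ⟨h0, h1, h2'⟩ _ _
      omega
    · rintro a s g ⟨h0, h1⟩ _ _
      omega
  | succ j ih =>
    intro k hk g hg hφg
    have hk' : k < m := by omega
    obtain ⟨h, y, hh, hy, rfl⟩ := S.HrB_step hk' hg
    have h4 := S.HrB_shape φ hφ hh
    rw [map_mul] at hφg
    have hrow : ∀ s, φ y (Sum.inr (Sum.inl ⟨k, hk'⟩)) s =
        (1 : Matrix (IdxB m) (IdxB m) K) (Sum.inr (Sum.inl ⟨k, hk'⟩)) s := by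
      intro s
      have e := congrFun (congrFun hφg (Sum.inr (Sum.inl ⟨k, hk'⟩))) s
      rw [Matrix.mul_apply] at e
      have e2 : ∑ b, φ h (Sum.inr (Sum.inl ⟨k, hk'⟩)) b * φ y b s =
          ∑ b, (1 : Matrix (IdxB m) (IdxB m) K) (Sum.inr (Sum.inl ⟨k, hk'⟩)) b * φ y b s := by
        apply Finset.sum_congr rfl
        intro b _
        rw [h4 (Sum.inl ⟨k, hk'⟩) b (le_refl _)]
      rw [e2, ← Matrix.mul_apply, Matrix.one_mul] at e
      exact e
    have hy2 := S.NrB_inj φ hφ h2 Finset.univ y hy hrow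
    subst hy2
    rw [map_one, mul_one] at hφg
    rw [mul_one]
    exact ih (k + 1) (by omega) h hh hφg

include hφ in
/-- **the homomorphism to the matrices is injective on the positive part.** -/
theorem UtB_inj (h2 : (2 : K) ≠ 0) {g : Γ} (hg : g ∈ S.UtB) (h : φ g = 1) : g = 1 := by
  rw [S.UtB_eq_HrB] at hg
  exact S.HrB_inj φ hφ h2 m 0 (zero_add m) g hg h

include hφ in
/-- the matrices of the positive part are upper unitriangular. -/
theorem UtB_shape {g : Γ} (hg : g ∈ S.UtB) :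
    (∀ i : IdxB m, φ g i i = 1) ∧ ∀ i j : IdxB m, ordB j < ordB i → φ g i j = 0 := by
  rw [S.UtB_eq_XB] at hg
  refine S.XB_induction_left (P := fun g => (∀ i : IdxB m, φ g i i = 1) ∧
    ∀ i j : IdxB m, ordB j < ordB i → φ g i j = 0) ?_ ?_ ?_ hg
  · rw [map_one]
    exact ⟨fun a => Matrix.one_apply_eq a,
      fun a c hca => Matrix.one_apply_ne (fun e => by rw [e] at hca; exact lt_irrefl _ hca)⟩
  · rintro a b t g hab hlt hg ⟨h1, h2⟩
    have o1 := ord_swap a
    have o2 := ord_swap b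
    have o3 := ord_lt a
    have o4 := ord_lt b
    have l1 : ordB (Sum.inr a : IdxB m) < ordB (Sum.inr b : IdxB m) := ordB_lt_of_lt hlt
    have l2 : ordB (Sum.inr b.swap : IdxB m) < ordB (Sum.inr a.swap : IdxB m) :=
      ordB_lt_of_lt (by omega)
    rw [map_mul, hφ.x a b hab]
    refine ⟨fun i => ?_, fun i j hji => ?_⟩
    · rw [p6_bX_mul_apply, h1]
      have e1 : (if i = Sum.inr a then t * φ g (Sum.inr b) i else 0) = 0 := by
        by_cases hi : i = Sum.inr a
        · rw [if_pos hi, h2 _ i (by rw [hi]; exact l1), mul_zero]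
        · rw [if_neg hi]
      have e2 : (if i = Sum.inr b.swap then t * φ g (Sum.inr a.swap) i else 0) = 0 := by
        by_cases hi : i = Sum.inr b.swap
        · rw [if_pos hi, h2 _ i (by rw [hi]; exact l2), mul_zero]
        · rw [if_neg hi]
      rw [e1, e2, add_zero, sub_zero]
    · rw [p6_bX_mul_apply, h2 i j hji]
      have e1 : (if i = Sum.inr a then t * φ g (Sum.inr b) j else 0) = 0 := by
        by_cases hi : i = Sum.inr a
        · rw [if_pos hi, h2 _ j (by rw [hi] at hji; exact lt_trans hji l1), mul_zero]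
        · rw [if_neg hi]
      have e2 : (if i = Sum.inr b.swap then t * φ g (Sum.inr a.swap) j else 0) = 0 := by
        by_cases hi : i = Sum.inr b.swap
        · rw [if_pos hi, h2 _ j (by rw [hi] at hji; exact lt_trans hji l2), mul_zero]
        · rw [if_neg hi]
      rw [e1, e2, add_zero, sub_zero]
  · rintro a t g ha hg ⟨h1, h2⟩
    have o1 := ord_swap a
    have l1 : ordB (Sum.inr a : IdxB m) < ordB (Sum.inl () : IdxB m) := by
      rw [ordB_inr, ordB_inl, if_pos ha]
      exact ha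
    have l2 : ordB (Sum.inl () : IdxB m) < ordB (Sum.inr a.swap : IdxB m) := by
      rw [ordB_inr, ordB_inl, if_neg (by omega)]
      omega
    have l3 := lt_trans l1 l2
    rw [map_mul, hφ.y a]
    refine ⟨fun i => ?_, fun i j hji => ?_⟩
    · rw [p6_bY_mul_apply, h1]
      have e1 : (if i = Sum.inr a then 2 * t * φ g (Sum.inl ()) i else 0) = 0 := by
        by_cases hi : i = Sum.inr a
        · rw [if_pos hi, h2 _ i (by rw [hi]; exact l1), mul_zero]
        · rw [if_neg hi]
      have e2 : (if i = Sum.inl () then t * φ g (Sum.inr a.swap) i else 0) = 0 := by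
        by_cases hi : i = Sum.inl ()
        · rw [if_pos hi, h2 _ i (by rw [hi]; exact l2), mul_zero]
        · rw [if_neg hi]
      have e3 : (if i = Sum.inr a then t * t * φ g (Sum.inr a.swap) i else 0) = 0 := by
        by_cases hi : i = Sum.inr a
        · rw [if_pos hi, h2 _ i (by rw [hi]; exact l3), mul_zero]
        · rw [if_neg hi]
      rw [e1, e2, e3, add_zero, sub_zero, sub_zero]
    · rw [p6_bY_mul_apply, h2 i j hji]
      have e1 : (if i = Sum.inr a then 2 * t * φ g (Sum.inl ()) j else 0) = 0 := by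
        by_cases hi : i = Sum.inr a
        · rw [if_pos hi, h2 _ j (by rw [hi] at hji; exact lt_trans hji l1), mul_zero]
        · rw [if_neg hi]
      have e2 : (if i = Sum.inl () then t * φ g (Sum.inr a.swap) j else 0) = 0 := by
        by_cases hi : i = Sum.inl ()
        · rw [if_pos hi, h2 _ j (by rw [hi] at hji; exact lt_trans hji l2), mul_zero]
        · rw [if_neg hi]
      have e3 : (if i = Sum.inr a then t * t * φ g (Sum.inr a.swap) j else 0) = 0 := by
        by_cases hi : i = Sum.inr a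
        · rw [if_pos hi, h2 _ j (by rw [hi] at hji; exact lt_trans hji l3), mul_zero]
        · rw [if_neg hi]
      rw [e1, e2, e3, add_zero, sub_zero, sub_zero]

end phi2

end OB

end Cfsg.Agent.CtRecB
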