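import Mathlib
import Cfsg.Agent.CtRecB.ObC
import Cfsg.Agent.CtRecD.OdD

set_option autoImplicit false
set_option linter.unusedSectionVars false
set_option linter.unusedVariables false

/-!
# S2094, piece P8: the kernel of the homomorphism to the matrices is central, type `B_m` (helper5)

Port of `CtRecD/OdG.lean`, `OdG2.lean`.  The Bruhat decomposition (P7), the statements on `UtB` (P6) and the statements of
piece P4 are hypotheses of `OB.ker_central_B_of`.
-/

namespace Cfsg.Agent.CtRecB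

open Matrix Cfsg.Agent.CtRecD

variable {m : ℕ} {K : Type*} [Field K]

/-- the block of the long roots: a matrix with diagonal `1` which intertwines the root matrices monomially is `1`. -/
theorem p8_block_D {n : ℕ} (hn : 3 ≤ n) (D : Matrix (Idx n) (Idx n) K) (σ : Equiv.Perm (Idx n))
    (a : Idx n → K)
    (hrel : ∀ i j, Rt i j → D * oX i j 1 = oX (σ i) (σ j) (a i * (a j)⁻¹ * 1) * D)
    (hb1 : ∀ i, D i i = 1) :
    (∀ i, σ i = i) ∧ (∀ i j, Rt i j → a i * (a j)⁻¹ = 1) ∧ D = 1 := by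
  -- the entry `(i, j)` of the relation
  have hent : ∀ i j, Rt i j → (1 : K) = (if i = σ i then a i * (a j)⁻¹ * 1 * D (σ j) j else 0) -
      (if i = (σ j).swap then a i * (a j)⁻¹ * 1 * D (σ i).swap j else 0) := by
    intro i j hij
    have e := congrFun (congrFun (hrel i j hij) i) j
    rw [mul_oX_apply, oX_mul_apply, if_pos rfl, hb1 i, one_mul,
      if_neg (fun e' : j = i.swap => hij.2 (by rw [e', Sum.swap_swap])), sub_zero] at e
    linear_combination e
  have hσ : ∀ i, σ i = i := by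
    intro i
    by_contra hne
    obtain ⟨k, hk1, _, hk3, _⟩ := OD.exists_oth hn i i
    have hik : Rt i k := ⟨hk1.symm, fun e => hk3 (by rw [e, Sum.swap_swap])⟩
    have key : ∀ j, Rt i j → σ j = i.swap := by
      intro j hij
      have e := hent i j hij
      rw [if_neg (fun h => hne h.symm), zero_sub] at e
      by_contra hj
      rw [if_neg (fun h : i = (σ j).swap => hj (by rw [h, Sum.swap_swap])), neg_zero] at e
      exact one_ne_zero e
    have e1 := key k hik
    have e2 := key k.swap hik.swap_right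
    exact ne_swap k (σ.injective (e1.trans e2.symm))
  have hcoef : ∀ i j, Rt i j → a i * (a j)⁻¹ = 1 := by
    intro i j hij
    have e := hent i j hij
    rw [hσ i, hσ j, if_pos rfl, hb1 j, if_neg hij.2, sub_zero, mul_one, mul_one] at e
    exact e.symm
  refine ⟨hσ, hcoef, ?_⟩
  ext r i
  by_cases hri : r = i
  · rw [hri, hb1 i, Matrix.one_apply_eq]
  · rw [Matrix.one_apply_ne hri]
    obtain ⟨j, hj1, hj2, hj3, hj4⟩ := OD.exists_oth hn i r
    have hij : Rt i j := ⟨hj1.symm, fun e => hj3 (by rw [e, Sum.swap_swap])⟩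
    have e := congrFun (congrFun (hrel i j hij) r) j
    rw [mul_oX_apply, oX_mul_apply, if_pos rfl, hσ i, hσ j, if_neg hri,
      if_neg (fun e' : j = i.swap => hj3 e'),
      if_neg (fun e' : r = j.swap => hj4 (by rw [e', Sum.swap_swap])), sub_zero, add_zero,
      sub_zero, mul_one] at e
    linear_combination e

/-- the blocks of the short roots. -/
theorem p8_block_Y (h2 : (2 : K) ≠ 0) (hm : 2 ≤ m) (B : Matrix Unit (Idx m) K) (C : Matrix (Idx m) Unit K)
    (s : Idx m → K)
    (hrel : ∀ i : Idx m, (Matrix.fromBlocks 1 B C 1 : Matrix (IdxB m) (IdxB m) K) * bY i 1 =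
      bY i (s i) * Matrix.fromBlocks 1 B C 1) : (∀ i, s i = 1) ∧ B = 0 ∧ C = 0 := by
  have hC : ∀ r : Idx m, C r () = 0 := by
    intro r
    obtain ⟨i, hri⟩ : ∃ i : Idx m, r ≠ i := by
      have : (⟨0, by omega⟩ : Fin m) ≠ ⟨1, by omega⟩ := by
        intro e
        have := congrArg Fin.val e
        simp at this
      by_cases h : r = Sum.inl ⟨0, by omega⟩
      · exact ⟨Sum.inl ⟨1, by omega⟩, by rw [h]; intro e; exact this (Sum.inl.inj e)⟩
      · exact ⟨_, h⟩
    have e := hrel i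
    unfold bY at e
    rw [Matrix.fromBlocks_multiply, Matrix.fromBlocks_multiply, Matrix.fromBlocks_inj] at e
    obtain ⟨-, -, -, h22⟩ := e
    have e2 := congrFun (congrFun h22 r) i.swap
    simp [Matrix.mul_apply, hri, Ne.symm hri] at e2
    exact e2
  have hC0 : C = 0 := by
    ext r u
    cases u
    exact hC r
  subst hC0
  have hs : ∀ i, s i = 1 := by
    intro i
    have e := hrel i
    unfold bY at e
    rw [Matrix.fromBlocks_multiply, Matrix.fromBlocks_multiply, Matrix.fromBlocks_inj] at e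
    obtain ⟨-, -, h21, -⟩ := e
    have e2 := congrFun (congrFun h21 i) ()
    rw [Matrix.zero_mul, Matrix.mul_zero, Matrix.one_mul, Matrix.mul_one, zero_add, add_zero] at e2
    simp only [Matrix.of_apply, if_pos] at e2
    exact (mul_left_cancel₀ h2 e2).symm
  refine ⟨hs, ?_, rfl⟩
  ext u i
  cases u
  have e := hrel i
  unfold bY at e
  rw [Matrix.fromBlocks_multiply, Matrix.fromBlocks_multiply, Matrix.fromBlocks_inj] at e
  obtain ⟨-, h12, -, -⟩ := e
  have e2 := congrFun (congrFun h12 ()) i.swap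
  rw [hs i] at e2
  rw [Matrix.add_apply, Matrix.add_apply, Matrix.one_mul, Matrix.one_mul, Matrix.mul_one, Matrix.mul_sub,
    Matrix.sub_apply, Matrix.mul_one, Matrix.mul_single_apply_same] at e2
  simp only [Matrix.of_apply, if_pos] at e2
  rw [Matrix.zero_apply]
  linear_combination -e2

/-- a matrix with diagonal `1` which intertwines the root matrices `bX`, `bY` monomially is `1`, and the monomial data are trivial. -/
theorem p8_mat (hm : 3 ≤ m) (h2 : (2 : K) ≠ 0) (M : Matrix (IdxB m) (IdxB m) K) (σ : Equiv.Perm (Idx m))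
    (a : Idx m → K) (s : Idx m → K)
    (hrelX : ∀ i j, Rt i j → M * bX i j 1 = bX (σ i) (σ j) (a i * (a j)⁻¹ * 1) * M)
    (hrelY : ∀ i, M * bY i 1 = bY (σ i) (s i) * M)
    (hb1 : ∀ i, M i i = 1) :
    (∀ i, σ i = i) ∧ (∀ i j, Rt i j → a i * (a j)⁻¹ = 1) ∧ (∀ i, s i = 1) ∧ M = 1 := by
  have hM : M = Matrix.fromBlocks M.toBlocks₁₁ M.toBlocks₁₂ M.toBlocks₂₁ M.toBlocks₂₂ :=
    (Matrix.fromBlocks_toBlocks M).symm
  have hD := p8_block_D hm M.toBlocks₂₂ σ a (by
    intro i j hij
    have e := hrelX i j hij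
    rw [hM] at e
    unfold bX at e
    rw [Matrix.fromBlocks_multiply, Matrix.fromBlocks_multiply, Matrix.fromBlocks_inj] at e
    obtain ⟨-, -, -, h22⟩ := e
    rw [Matrix.mul_zero, Matrix.zero_mul, zero_add, zero_add] at h22
    exact h22) (fun i => hb1 (Sum.inr i))
  obtain ⟨hσ, hcoef, hD1⟩ := hD
  have hA : M.toBlocks₁₁ = 1 := by
    ext u v
    cases u
    cases v
    show M (Sum.inl ()) (Sum.inl ()) = (1 : Matrix Unit Unit K) () ()
    rw [Matrix.one_apply_eq]
    exact hb1 (Sum.inl ())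
  rw [hA, hD1] at hM
  have hY := p8_block_Y h2 (by omega) M.toBlocks₁₂ M.toBlocks₂₁ s (by
    intro i
    have e := hrelY i
    rw [hσ i] at e
    rw [← hM]
    exact e)
  obtain ⟨hs, hB, hC⟩ := hY
  refine ⟨hσ, hcoef, hs, ?_⟩
  rw [hM, hB, hC, Matrix.fromBlocks_one]

variable {Γ : Type*} [Group Γ] (S : OB m K Γ)

namespace OB

/-- a monomial element with trivial permutation and coefficients is central. -/
theorem MonB.central (hgen : Subgroup.closure S.gensB = ⊤) {w : Γ} {σ : Equiv.Perm (Idx m)}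
    {a : Idx m → K} {ε : K} (hM : S.MonB w σ a ε) (hσ : ∀ i, σ i = i)
    (ha : ∀ i j, Rt i j → a i * (a j)⁻¹ = 1) (hε : ∀ i, ε * a i = 1) (g : Γ) : g * w = w * g := by
  apply S.central_of_commute_gensB hgen
  · intro i j hij t
    have e := hM.mul_x hij t
    rw [hσ i, hσ j, ha i j hij, one_mul] at e
    exact e
  · intro i t
    have e := hM.mul_y i t
    rw [hσ i, hε i, one_mul] at e
    exact e

/-- a monomial element whose matrix has diagonal `1` is central and in the kernel. -/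
theorem monB_ker_of_diag (hm : 3 ≤ m) (h2 : (2 : K) ≠ 0) (hgen : Subgroup.closure S.gensB = ⊤)
    (φ : Γ →* Matrix (IdxB m) (IdxB m) K) (hφ : S.IsMat φ) {w : Γ} {σ : Equiv.Perm (Idx m)}
    {a : Idx m → K} {ε : K} (hM : S.MonB w σ a ε) (hb1 : ∀ i : IdxB m, φ w i i = 1) :
    (∀ g, g * w = w * g) ∧ φ w = 1 ∧ (∀ i, σ i = i) ∧ (∀ i j, Rt i j → a i * (a j)⁻¹ = 1) ∧
      ∀ i, ε * a i = 1 := by
  have hrelX : ∀ i j, Rt i j → φ w * bX i j 1 = bX (σ i) (σ j) (a i * (a j)⁻¹ * 1) * φ w := by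
    intro i j hij
    have e := congrArg φ (hM.mul_x hij 1)
    rw [map_mul, map_mul, hφ.x i j hij, hφ.x _ _ (hM.rt hij)] at e
    exact e
  have hrelY : ∀ i, φ w * bY i 1 = bY (σ i) (ε * a i * 1) * φ w := by
    intro i
    have e := congrArg φ (hM.mul_y i 1)
    rw [map_mul, map_mul, hφ.y, hφ.y] at e
    exact e
  obtain ⟨hσ, hcoef, hs, h1⟩ := p8_mat hm h2 (φ w) σ a (fun i => ε * a i * 1) hrelX hrelY hb1
  have hε : ∀ i, ε * a i = 1 := fun i => by
    have := hs i
    rwa [mul_one] at this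
  exact ⟨hM.central S hgen hσ hcoef hε, h1, hσ, hcoef, hε⟩

/-- **the kernel of the homomorphism to the matrices is central, contained in `W̃` and monomial with trivial permutation**, given the
Bruhat decomposition (P7), the unipotent subgroup (P6) and the monomial action of the Weyl elements (P4). -/
theorem ker_central_B_of (hm : 3 ≤ m) (h2 : (2 : K) ≠ 0) (hgen : Subgroup.closure S.gensB = ⊤)
    (φ : Γ →* Matrix (IdxB m) (IdxB m) K) (hφ : S.IsMat φ) (H : S.P4Hyp)
    (hbruhat : ∀ g : Γ, ∃ u ∈ S.UtB, ∃ w ∈ S.WtB, ∃ u' ∈ S.UtB, g = u * w * u')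
    (hdiag : ∀ g ∈ S.UtB, ∀ i : IdxB m, φ g i i = 1)
    (hinj : ∀ g ∈ S.UtB, φ g = 1 → g = 1) {c : Γ} (hc : φ c = 1) :
    c ∈ S.WtB ∧ (∀ g, g * c = c * g) ∧ ∃ (a : Idx m → K) (ε : K), S.MonB c 1 a ε := by
  obtain ⟨u, hu, wn, hwn, u', hu', rfl⟩ := hbruhat c
  obtain ⟨σ, a, ε, hM⟩ := S.exists_monB_of_mem_WtB_of hm H hwn
  have hv : u⁻¹ * u'⁻¹ ∈ S.UtB := mul_mem (inv_mem hu) (inv_mem hu')
  have hw : φ wn = φ (u⁻¹ * u'⁻¹) := by
    have e : wn = u⁻¹ * (u * wn * u') * u'⁻¹ := by group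
    rw [e, map_mul, map_mul, hc, mul_one, ← map_mul]
  have hb1 : ∀ i : IdxB m, φ wn i i = 1 := by
    intro i
    rw [hw]
    exact hdiag _ hv i
  obtain ⟨hcen, hw1, hσ, _, _⟩ := S.monB_ker_of_diag hm h2 hgen φ hφ hM hb1
  have e1 : u * wn * u' = wn * (u * u') := by
    rw [hcen u, mul_assoc]
  have e2 : φ (u * u') = 1 := by
    rw [e1, map_mul, hw1, one_mul] at hc
    exact hc
  have e3 := hinj _ (mul_mem hu hu') e2
  rw [e1, e3, mul_one]
  exact ⟨hwn, hcen, a, ε, hM.congr (Equiv.ext hσ) (fun _ => rfl) rfl⟩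

end OB

end Cfsg.Agent.CtRecB
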