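import Mathlib
import Cfsg.Agent.CtRecB.Defs
import Cfsg.Agent.Helper8.OmegaSimple
import Cfsg.Agent.Helper8.OmegaCenterMat
import Cfsg.Agent.Helper8.StdForms

set_option autoImplicit false
set_option linter.unusedSectionVars false
set_option linter.unusedVariables false

/-!
# S2094, piece P2 (helper8): `Ω_{2m+1}(K)` is generated by the root elements `bX`, `bY`; its centre is trivial

The matrices `bX a b t`, `bY a t` are the Siegel transformations `ρ_{e_a, t e_b̄}`, `ρ_{e_a, t e_0}` of the quadratic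
form `x₀² + ∑ x_i y_i`; the group generated by all Siegel transformations is `Ω` (`Helper8.OmegaSimple.map_Omega`,
finite fields), and every Siegel transformation is conjugate, by a product of root elements, to one at a basis vector.
-/

namespace Cfsg.Agent.CtRecB

open Matrix Cfsg.Agent.CtRecD
open Cfsg.Agent.Helper8.QuadForm Cfsg.Agent.Helper8.OrthOrder Cfsg.Agent.Helper8.Siegel
  Cfsg.Agent.Helper8.SiegelGroup Cfsg.Agent.Helper8.StdForms Cfsg.Agent.Helper8.ReflMatrix
  Cfsg.Agent.Helper8.WittQuad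

variable {m : ℕ} {K : Type*} [Field K]

/-! ### the standard form on basis vectors -/

theorem p2_polar_inr (x : IdxB m → K) (c : Idx m) (s : K) :
    QuadraticMap.polar (oddForm K m) x (Pi.single (Sum.inr c) s) = s * x (Sum.inr c.swap) := by
  classical
  rw [polar_oddForm]
  rcases c with c | c
  · simp [Pi.single_apply]
  · simp [Pi.single_apply, mul_comm]

theorem p2_polar_inl (x : IdxB m → K) (s : K) :
    QuadraticMap.polar (oddForm K m) x (Pi.single (Sum.inl ()) s) = 2 * s * x (Sum.inl ()) := by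
  classical
  rw [polar_oddForm]
  simp
  ring

theorem p2_Q_inr (c : Idx m) (s : K) : oddForm K m (Pi.single (Sum.inr c) s) = 0 := by
  classical
  rw [oddForm_apply]
  unfold Cfsg.quadFormOdd
  rcases c with c | c <;> simp

theorem p2_Q_inl (s : K) : oddForm K m (Pi.single (Sum.inl ()) s) = s * s := by
  classical
  rw [oddForm_apply]
  unfold Cfsg.quadFormOdd
  simp [sq]

theorem p2_polar_e (a : Idx m) (w : IdxB m → K) :
    QuadraticMap.polar (oddForm K m) (Pi.single (Sum.inr a) 1) w = w (Sum.inr a.swap) := by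
  rw [QuadraticMap.polar_comm, p2_polar_inr, one_mul]

/-! ### the root Siegel transformations generate the Siegel group -/

/-- the Siegel transformations `ρ_{e_a, s e_c}` (`c ≠ a, ā`) and `ρ_{e_a, s e_0}`. -/
def p2_rootSet (m : ℕ) (K : Type*) [Field K] : Set ↥(Isom (oddForm K m)) :=
  {g | (∃ (a c : Idx m) (s : K), c ≠ a ∧ c ≠ a.swap ∧
      g = siegG (oddForm K m) (Pi.single (Sum.inr a) 1) (Pi.single (Sum.inr c) s)) ∨
    ∃ (a : Idx m) (s : K),
      g = siegG (oddForm K m) (Pi.single (Sum.inr a) 1) (Pi.single (Sum.inl ()) s)}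

/-- the parameters `w ⊥ e_a` whose Siegel transformation at `e_a` is a product of root elements. -/
def p2_A (a : Idx m) : AddSubgroup (IdxB m → K) where
  carrier := {w | w (Sum.inr a.swap) = 0 ∧
    siegG (oddForm K m) (Pi.single (Sum.inr a) 1) w ∈ Subgroup.closure (p2_rootSet m K)}
  zero_mem' := ⟨rfl, by rw [siegG_zero]; exact one_mem _⟩
  add_mem' := by
    rintro w w' ⟨h1, h2⟩ ⟨h1', h2'⟩
    refine ⟨by rw [Pi.add_apply, h1, h1', add_zero], ?_⟩
    rw [← siegG_mul _ (p2_Q_inr a 1) (by rw [p2_polar_e, h1]) (by rw [p2_polar_e, h1'])]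
    exact mul_mem h2 h2'
  neg_mem' := by
    rintro w ⟨h1, h2⟩
    refine ⟨by rw [Pi.neg_apply, h1, neg_zero], ?_⟩
    rw [← siegG_inv _ (p2_Q_inr a 1) (by rw [p2_polar_e, h1])]
    exact inv_mem h2

theorem p2_single_mem_A (a : Idx m) (k : IdxB m) (s : K) (hk : k = Sum.inr a.swap → s = 0) :
    (Pi.single k s : IdxB m → K) ∈ p2_A (K := K) a := by
  classical
  rcases k with ⟨⟩ | c
  · refine ⟨by simp, ?_⟩
    exact Subgroup.subset_closure (Or.inr ⟨a, s, rfl⟩)
  · by_cases hca' : c = a.swap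
    · subst hca'
      rw [hk rfl, Pi.single_zero]
      exact (p2_A a).zero_mem
    · refine ⟨by simp [hca'], ?_⟩
      by_cases hca : c = a
      · subst hca
        have h0 := siegE_smul_add (oddForm K m) (u := Pi.single (Sum.inr c) (1 : K)) (w := 0)
          (p2_Q_inr c 1) (QuadraticMap.polar_zero_right _ _) s
        have e : (Pi.single (Sum.inr c) s : IdxB m → K)
            = 0 + s • Pi.single (Sum.inr c) (1 : K) := by
          rw [zero_add, ← Pi.single_smul, smul_eq_mul, mul_one]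
        have : siegG (oddForm K m) (Pi.single (Sum.inr c) 1) (Pi.single (Sum.inr c) s) = 1 := by
          apply Subtype.ext
          rw [siegG_val, e, h0, siegE_zero]
          rfl
        rw [this]
        exact one_mem _
      · exact Subgroup.subset_closure (Or.inl ⟨a, c, s, hca, hca', rfl⟩)

theorem p2_siegG_mem (a : Idx m) (w : IdxB m → K)
    (hw : QuadraticMap.polar (oddForm K m) (Pi.single (Sum.inr a) 1) w = 0) :
    siegG (oddForm K m) (Pi.single (Sum.inr a) 1) w ∈ Subgroup.closure (p2_rootSet m K) := by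
  classical
  rw [p2_polar_e] at hw
  have hsum : w = ∑ k, Pi.single k (w k) := (Finset.univ_sum_single w).symm
  have hmem : w ∈ p2_A (K := K) a := by
    rw [hsum]
    apply AddSubgroup.sum_mem
    intro k _
    apply p2_single_mem_A
    intro hk
    rw [hk, hw]
  exact hmem.2

theorem p2_rootSet_le_SG : Subgroup.closure (p2_rootSet m K) ≤ SG (oddForm K m) := by
  rw [Subgroup.closure_le]
  rintro g (⟨a, c, s, hca, hca', rfl⟩ | ⟨a, s, rfl⟩)
  · apply siegG_mem_SG _ (p2_Q_inr a 1)
    rw [p2_polar_e]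
    classical
    simp [hca']
  · apply siegG_mem_SG _ (p2_Q_inr a 1)
    rw [p2_polar_e]
    classical
    simp

theorem p2_SG_le : SG (oddForm K m) ≤ Subgroup.closure (p2_rootSet m K) := by
  classical
  unfold SG SGW
  rw [Subgroup.closure_le]
  rintro g ⟨c, -, w, -, hc, hcw, rfl⟩
  by_cases hc0 : c = 0
  · subst hc0
    rw [siegG_zero_left]
    exact one_mem _
  obtain ⟨d, hd⟩ : ∃ d : Idx m, c (Sum.inr d) ≠ 0 := by
    by_contra hcon
    push Not at hcon
    apply hc0
    have h0 : c (Sum.inl ()) = 0 := by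
      have h := hc
      rw [oddForm_apply] at h
      unfold Cfsg.quadFormOdd at h
      simpa [hcon] using h
    funext k
    rcases k with ⟨⟩ | k
    · exact h0
    · exact hcon k
  set Q := oddForm K m with hQdef
  set cd : K := c (Sum.inr d) with hcd
  have hmove := sieg_move Q (u := Pi.single (Sum.inr d.swap) (1 : K)) (a := cd⁻¹ • c)
    (a' := Pi.single (Sum.inr d) (1 : K)) (p2_Q_inr d.swap 1)
    (by rw [QuadraticMap.map_smul, hc, smul_zero, p2_Q_inr])
    (by rw [p2_polar_e, Sum.swap_swap, Pi.smul_apply, smul_eq_mul, inv_mul_cancel₀ hd])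
    (by rw [p2_polar_e, Sum.swap_swap, Pi.single_eq_same])
  set h : ↥(Isom Q) := siegG Q (Pi.single (Sum.inr d.swap) 1) (cd⁻¹ • c - Pi.single (Sum.inr d) 1)
    with hh
  have hhmem : h ∈ Subgroup.closure (p2_rootSet m K) := p2_siegG_mem d.swap _ hmove.1
  have hhc : (h : (IdxB m → K) ≃ₗ[K] (IdxB m → K)) c = cd • Pi.single (Sum.inr d) (1 : K) := by
    have e : c = cd • (cd⁻¹ • c) := by rw [smul_smul, mul_inv_cancel₀ hd, one_smul]
    have h1 : (h : (IdxB m → K) ≃ₗ[K] (IdxB m → K)) (cd⁻¹ • c) = Pi.single (Sum.inr d) (1 : K) :=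
      hmove.2
    calc (h : (IdxB m → K) ≃ₗ[K] (IdxB m → K)) c
        = (h : (IdxB m → K) ≃ₗ[K] (IdxB m → K)) (cd • (cd⁻¹ • c)) := by rw [← e]
      _ = cd • Pi.single (Sum.inr d) (1 : K) := by rw [map_smul, h1]
  have hconj := siegG_conj Q h c w
  have hpol : QuadraticMap.polar Q (Pi.single (Sum.inr d) (1 : K))
      ((h : (IdxB m → K) ≃ₗ[K] (IdxB m → K)) w) = 0 := by
    have h1 : QuadraticMap.polar Q ((h : (IdxB m → K) ≃ₗ[K] (IdxB m → K)) c)
        ((h : (IdxB m → K) ≃ₗ[K] (IdxB m → K)) w) = 0 := by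
      rw [polar_isometry Q h h.2, hcw]
    rw [hhc, QuadraticMap.polar_smul_left, smul_eq_mul] at h1
    rcases mul_eq_zero.mp h1 with h1 | h1
    · exact absurd h1 hd
    · exact h1
  have hsm : siegG Q (cd • Pi.single (Sum.inr d) (1 : K))
      ((h : (IdxB m → K) ≃ₗ[K] (IdxB m → K)) w)
      = siegG Q (Pi.single (Sum.inr d) (1 : K))
        (cd • (h : (IdxB m → K) ≃ₗ[K] (IdxB m → K)) w) := by
    apply Subtype.ext
    exact siegE_smul_left Q (p2_Q_inr d 1) hpol cd
  have hfin : siegG Q c w = h⁻¹ * siegG Q (Pi.single (Sum.inr d) (1 : K))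
      (cd • (h : (IdxB m → K) ≃ₗ[K] (IdxB m → K)) w) * h := by
    rw [← hsm, ← hhc, ← hconj]
    group
  rw [hfin]
  refine mul_mem (mul_mem (inv_mem hhmem) (p2_siegG_mem d _ ?_)) hhmem
  rw [QuadraticMap.polar_smul_right, hpol, smul_zero]

theorem p2_SG_eq : SG (oddForm K m) = Subgroup.closure (p2_rootSet m K) :=
  le_antisymm p2_SG_le p2_rootSet_le_SG

/-! ### the matrices `bX`, `bY` are Siegel transformations -/

theorem p2_bX_mulVec (a b : Idx m) (t : K) (v : IdxB m → K) :
    (bX a b t).mulVec v =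
      sieg (oddForm K m) (Pi.single (Sum.inr a) 1) (Pi.single (Sum.inr b.swap) t) v := by
  classical
  rw [sieg_apply, p2_polar_inr, p2_polar_inr, p2_Q_inr, Sum.swap_swap, one_mul, zero_mul,
    zero_smul, sub_zero]
  unfold bX
  rw [Matrix.fromBlocks_mulVec]
  funext k
  rcases k with ⟨⟩ | k
  · simp
  · simp [oX, Matrix.add_mulVec, Matrix.sub_mulVec, Matrix.single_mulVec, Function.update_apply,
      Pi.single_apply, eq_comm]
    split_ifs <;> ring

theorem p2_bY_mulVec (a : Idx m) (t : K) (v : IdxB m → K) :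
    (bY a t).mulVec v =
      sieg (oddForm K m) (Pi.single (Sum.inr a) 1) (Pi.single (Sum.inl ()) t) v := by
  classical
  rw [sieg_apply, p2_polar_inl, p2_polar_inr, p2_Q_inl, one_mul]
  unfold bY
  rw [Matrix.fromBlocks_mulVec]
  funext k
  rcases k with ⟨⟩ | k
  · simp [Matrix.mulVec, dotProduct]
    ring
  · simp [Matrix.sub_mulVec, Matrix.single_mulVec, Function.update_apply,
      Pi.single_apply, eq_comm, Matrix.mulVec, dotProduct]
    split_ifs <;> ring

/-- the composite `Isom Q ≃ O(Q) ≤ GL`. -/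
noncomputable def p2_psi (m : ℕ) (K : Type*) [Field K] :
    ↥(Isom (oddForm K m)) →* GL (IdxB m) K :=
  (Cfsg.isometryGroup K ⇑(oddForm K m)).subtype.comp (isomEquiv (oddForm K m)).symm.toMonoidHom

theorem p2_psi_mulVec (k : ↥(Isom (oddForm K m))) (v : IdxB m → K) :
    ((p2_psi m K k : GL (IdxB m) K) : Matrix (IdxB m) (IdxB m) K).mulVec v = k.1 v := by
  have h := isomEquiv_apply (oddForm K m) ((isomEquiv (oddForm K m)).symm k) v
  rw [MulEquiv.apply_symm_apply] at h
  exact h.symm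

theorem p2_psi_isomEquiv (g : ↥(Cfsg.isometryGroup K ⇑(oddForm K m))) :
    p2_psi m K (isomEquiv (oddForm K m) g) = g.1 := by
  show ((isomEquiv (oddForm K m)).symm (isomEquiv (oddForm K m) g)).1 = g.1
  rw [MulEquiv.symm_apply_apply]

theorem p2_psi_X {a b : Idx m} (hab : Rt a b) (t : K) :
    ((p2_psi m K (siegG (oddForm K m) (Pi.single (Sum.inr a) 1)
      (Pi.single (Sum.inr b.swap) t)) : GL (IdxB m) K) : Matrix (IdxB m) (IdxB m) K)
      = bX a b t := by
  classical
  apply matrix_ext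
  intro v
  have hne : a.swap ≠ b.swap := fun e => hab.1 (Sum.swap_leftInverse.injective e)
  rw [p2_psi_mulVec, p2_bX_mulVec, siegG_val, siegE_apply _ (p2_Q_inr a 1)
    (by rw [p2_polar_e]; simp [hne])]

theorem p2_psi_Y (a : Idx m) (t : K) :
    ((p2_psi m K (siegG (oddForm K m) (Pi.single (Sum.inr a) 1)
      (Pi.single (Sum.inl ()) t)) : GL (IdxB m) K) : Matrix (IdxB m) (IdxB m) K)
      = bY a t := by
  classical
  apply matrix_ext
  intro v
  rw [p2_psi_mulVec, p2_bY_mulVec, siegG_val, siegE_apply _ (p2_Q_inr a 1)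
    (by rw [p2_polar_e]; simp)]

/-! ### the two theorems of the piece -/

theorem p2_card_IdxB (m : ℕ) : Fintype.card (IdxB m) = 2 * m + 1 := by
  rw [Fintype.card_sum, Fintype.card_sum, Fintype.card_fin, Fintype.card_unit]
  omega

/-- **`Ω_{2m+1}(K)` is generated by the root elements `bX a b t`, `bY a t`** (finite `K`, `2 ≠ 0`). -/
theorem omegaOdd_eq_closure [Fintype K] (hm : 3 ≤ m) (h2 : (2 : K) ≠ 0) :
    (Cfsg.Omega K (Cfsg.quadFormOdd m K)).map
        (Cfsg.isometryGroup K (Cfsg.quadFormOdd m K)).subtype =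
      Subgroup.closure {g : GL (IdxB m) K |
        (∃ (a b : Idx m) (t : K), Rt a b ∧ (g : Matrix (IdxB m) (IdxB m) K) = bX a b t) ∨
          ∃ (a : Idx m) (t : K), (g : Matrix (IdxB m) (IdxB m) K) = bY a t} := by
  have hQeq : Cfsg.quadFormOdd m K = ⇑(oddForm K m) :=
    funext (fun v => (oddForm_apply K m v).symm)
  rw [hQeq]
  have hmap := Cfsg.Agent.Helper8.OmegaSimple.map_Omega (oddForm K m) (oddForm_nondeg K m h2)
    (by rw [p2_card_IdxB]; omega)
  have h1 : (Cfsg.Omega K ⇑(oddForm K m)).map (Cfsg.isometryGroup K ⇑(oddForm K m)).subtype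
      = ((Cfsg.Omega K ⇑(oddForm K m)).map (isomEquiv (oddForm K m)).toMonoidHom).map
        (p2_psi m K) := by
    rw [Subgroup.map_map]
    congr 1
    refine MonoidHom.ext fun g => ?_
    exact (p2_psi_isomEquiv g).symm
  rw [h1, hmap, p2_SG_eq, MonoidHom.map_closure]
  congr 1
  ext g
  constructor
  · rintro ⟨k, (⟨a, c, s, hca, hca', rfl⟩ | ⟨a, s, rfl⟩), rfl⟩
    · left
      have hab : Rt a c.swap := by
        refine ⟨fun e => hca' ?_, fun e => hca ?_⟩
        · rw [e, Sum.swap_swap]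
        · rw [e, Sum.swap_swap]
      have h := p2_psi_X hab s
      rw [Sum.swap_swap] at h
      exact ⟨a, c.swap, s, hab, h⟩
    · right
      exact ⟨a, s, p2_psi_Y a s⟩
  · rintro (⟨a, b, t, hab, hg⟩ | ⟨a, t, hg⟩)
    · refine ⟨siegG (oddForm K m) (Pi.single (Sum.inr a) 1) (Pi.single (Sum.inr b.swap) t),
        Or.inl ⟨a, b.swap, t, fun e => hab.2 e.symm, fun e => hab.1 ?_, rfl⟩, ?_⟩
      · exact (Sum.swap_leftInverse.injective e).symm
      · apply Units.ext
        rw [hg]
        exact p2_psi_X hab t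
    · refine ⟨siegG (oddForm K m) (Pi.single (Sum.inr a) 1) (Pi.single (Sum.inl ()) t),
        Or.inr ⟨a, t, rfl⟩, ?_⟩
      apply Units.ext
      rw [hg]
      exact p2_psi_Y a t

/-- **the centre of `Ω_{2m+1}(K)` is trivial** (finite `K`, `2 ≠ 0`). -/
theorem omegaOdd_center [Fintype K] (hm : 3 ≤ m) (h2 : (2 : K) ≠ 0) :
    Subgroup.center ↥(Cfsg.Omega K (Cfsg.quadFormOdd m K)) = ⊥ := by
  have hQeq : Cfsg.quadFormOdd m K = ⇑(oddForm K m) :=
    funext (fun v => (oddForm_apply K m v).symm)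
  rw [hQeq]
  exact Cfsg.Agent.Helper8.OmegaCenter.center_omega_eq_bot (oddForm K m) h2
    (oddForm_nondeg K m h2) (by rw [p2_card_IdxB]; omega) (by rw [p2_card_IdxB]; exact ⟨m, rfl⟩)

/-- `omegaOdd_eq_closure` for `[Finite K]`. -/
theorem omegaOdd_eq_closure_of_finite [Finite K] (hm : 3 ≤ m) (h2 : (2 : K) ≠ 0) :
    (Cfsg.Omega K (Cfsg.quadFormOdd m K)).map
        (Cfsg.isometryGroup K (Cfsg.quadFormOdd m K)).subtype =
      Subgroup.closure {g : GL (IdxB m) K |
        (∃ (a b : Idx m) (t : K), Rt a b ∧ (g : Matrix (IdxB m) (IdxB m) K) = bX a b t) ∨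
          ∃ (a : Idx m) (t : K), (g : Matrix (IdxB m) (IdxB m) K) = bY a t} := by
  have := Fintype.ofFinite K
  exact omegaOdd_eq_closure hm h2

/-- `omegaOdd_center` for `[Finite K]`. -/
theorem omegaOdd_center_of_finite [Finite K] (hm : 3 ≤ m) (h2 : (2 : K) ≠ 0) :
    Subgroup.center ↥(Cfsg.Omega K (Cfsg.quadFormOdd m K)) = ⊥ := by
  have := Fintype.ofFinite K
  exact omegaOdd_center hm h2

end Cfsg.Agent.CtRecB
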