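import Mathlib
import Cfsg.Agent.CtRecB.Defs2
import Cfsg.Agent.CtRecD.SchCliff

set_option autoImplicit false
set_option linter.unusedSectionVars false
set_option linter.unusedVariables false
set_option linter.unusedSimpArgs false

/-!
# S2094, piece P13 (helper9): a system of type `B_m` in which `h_a(-1) ≠ 1` (the spin model)

In a ring with elements `γ x` (`x : Idx m`) with the canonical anticommutation relations and a further element `γ₀` with `γ₀² = 1`
anticommuting with all `γ x`, the units `1 + t • γ a γ b̄` and `1 + t • γ a γ₀` satisfy the Steinberg relations of type `B_m`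
(`CARB.toOB`), and `h_a(-1) = -1` (`CARB.toOB_hs`).  The Clifford algebra of the hyperbolic form of rank `m + 1` carries such elements
(`γ₀ = γ_{m} + γ_{m̄}`): `exists_OB_z_ne_one`.
-/

namespace Cfsg.Agent.CtRecB

open Matrix Cfsg.Agent.CtRecD

universe u

section ring

variable {R : Type*} [Ring R] {K : Type*} [Field K] [Algebra K R]

/-- the relation `xy`: `A = γ_a`, `B = γ_b`, `B' = γ_b̄`, `G = γ₀`. -/
theorem clb_xy (A B B' G : R)
    (hA : A * A = 0) (hB : B * B = 0) (hB' : B' * B' = 0) (hG : G * G = 1)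
    (hBB : B' * B = 1 - B * B')
    (hBA : B * A = -(A * B)) (hB'A : B' * A = -(A * B'))
    (hGA : G * A = -(A * G)) (hGB : G * B = -(B * G)) (hGB' : G * B' = -(B' * G)) (t u : K) :
    (1 + t • (A * B')) * (1 + u • (B * G)) =
      (1 + (t * u) • (A * G)) * ((1 + (t * u * u) • (A * B)) * ((1 + u • (B * G)) * (1 + t • (A * B')))) := by
  have hAz : ∀ z, A * (A * z) = 0 := fun z => by rw [← mul_assoc, hA, zero_mul]
  have hBz : ∀ z, B * (B * z) = 0 := fun z => by rw [← mul_assoc, hB, zero_mul]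
  have hB'z : ∀ z, B' * (B' * z) = 0 := fun z => by rw [← mul_assoc, hB', zero_mul]
  have hGz : ∀ z, G * (G * z) = z := fun z => by rw [← mul_assoc, hG, one_mul]
  have hBBz : ∀ z, B' * (B * z) = z - B * (B' * z) := fun z => by
    rw [← mul_assoc, hBB, sub_mul, one_mul, mul_assoc]
  have hBAz : ∀ z, B * (A * z) = -(A * (B * z)) := fun z => by
    rw [← mul_assoc, hBA, neg_mul, mul_assoc]
  have hB'Az : ∀ z, B' * (A * z) = -(A * (B' * z)) := fun z => by
    rw [← mul_assoc, hB'A, neg_mul, mul_assoc]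
  have hGAz : ∀ z, G * (A * z) = -(A * (G * z)) := fun z => by
    rw [← mul_assoc, hGA, neg_mul, mul_assoc]
  have hGBz : ∀ z, G * (B * z) = -(B * (G * z)) := fun z => by
    rw [← mul_assoc, hGB, neg_mul, mul_assoc]
  have hGB'z : ∀ z, G * (B' * z) = -(B' * (G * z)) := fun z => by
    rw [← mul_assoc, hGB', neg_mul, mul_assoc]
  simp only [mul_add, add_mul, mul_sub, sub_mul, mul_neg, neg_mul, mul_one, one_mul, mul_zero,
    zero_mul, mul_assoc, smul_mul_assoc, mul_smul_comm, smul_add, smul_sub, smul_neg, smul_zero,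
    hA, hB, hB', hG, hBB, hBA, hB'A, hGA, hGB, hGB', hAz, hBz, hB'z, hGz,
    hBBz, hBAz, hB'Az, hGAz, hGBz, hGB'z, neg_neg, sub_zero, add_zero, zero_add, neg_zero,
    zero_sub, sub_neg_eq_add]
  module

/-- the relation `yy`: `A = γ_a`, `B = γ_b`, `G = γ₀`. -/
theorem clb_yy (A B G : R) (hA : A * A = 0) (hB : B * B = 0) (hG : G * G = 1)
    (hBA : B * A = -(A * B)) (hGA : G * A = -(A * G)) (hGB : G * B = -(B * G)) (t u : K) :
    (1 + t • (A * G)) * (1 + u • (B * G)) =
      (1 + (-(2 * t * u)) • (A * B)) * ((1 + u • (B * G)) * (1 + t • (A * G))) := by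
  have hAz : ∀ z, A * (A * z) = 0 := fun z => by rw [← mul_assoc, hA, zero_mul]
  have hBz : ∀ z, B * (B * z) = 0 := fun z => by rw [← mul_assoc, hB, zero_mul]
  have hGz : ∀ z, G * (G * z) = z := fun z => by rw [← mul_assoc, hG, one_mul]
  have hBAz : ∀ z, B * (A * z) = -(A * (B * z)) := fun z => by
    rw [← mul_assoc, hBA, neg_mul, mul_assoc]
  have hGAz : ∀ z, G * (A * z) = -(A * (G * z)) := fun z => by
    rw [← mul_assoc, hGA, neg_mul, mul_assoc]
  have hGBz : ∀ z, G * (B * z) = -(B * (G * z)) := fun z => by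
    rw [← mul_assoc, hGB, neg_mul, mul_assoc]
  simp only [mul_add, add_mul, mul_sub, sub_mul, mul_neg, neg_mul, mul_one, one_mul, mul_zero,
    zero_mul, mul_assoc, smul_mul_assoc, mul_smul_comm, smul_add, smul_sub, smul_neg, smul_zero,
    hA, hB, hG, hBA, hGA, hGB, hAz, hBz, hGz, hBAz, hGAz, hGBz, neg_neg, sub_zero, add_zero,
    zero_add, neg_zero, zero_sub, sub_neg_eq_add]
  module

/-- `w_a(-1)² = -1`: `A = γ_a`, `A' = γ_ā`, `G = γ₀`. -/
theorem clb_hs (A A' G : R) (hA : A * A = 0) (hA' : A' * A' = 0) (hG : G * G = 1)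
    (hAA : A' * A = 1 - A * A') (hGA : G * A = -(A * G)) (hGA' : G * A' = -(A' * G)) :
    ((1 - A * G) * (1 - A' * G) * (1 - A * G)) * ((1 - A * G) * (1 - A' * G) * (1 - A * G)) = -1 := by
  have hAz : ∀ z, A * (A * z) = 0 := fun z => by rw [← mul_assoc, hA, zero_mul]
  have hA'z : ∀ z, A' * (A' * z) = 0 := fun z => by rw [← mul_assoc, hA', zero_mul]
  have hGz : ∀ z, G * (G * z) = z := fun z => by rw [← mul_assoc, hG, one_mul]
  have hAAz : ∀ z, A' * (A * z) = z - A * (A' * z) := fun z => by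
    rw [← mul_assoc, hAA, sub_mul, one_mul, mul_assoc]
  have hGAz : ∀ z, G * (A * z) = -(A * (G * z)) := fun z => by
    rw [← mul_assoc, hGA, neg_mul, mul_assoc]
  have hGA'z : ∀ z, G * (A' * z) = -(A' * (G * z)) := fun z => by
    rw [← mul_assoc, hGA', neg_mul, mul_assoc]
  simp only [mul_add, add_mul, mul_sub, sub_mul, mul_neg, neg_mul, mul_one, one_mul, mul_zero,
    zero_mul, mul_assoc, hA, hA', hG, hAA, hGA, hGA', hAz, hA'z, hGz, hAAz, hGAz, hGA'z, neg_neg,
    sub_zero, add_zero, zero_add, neg_zero, zero_sub, sub_neg_eq_add]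
  abel

end ring

/-- canonical anticommutation relations of type `B`: `γ x` (`x : Idx m`) and `γ₀`. -/
structure CARB (m : ℕ) (R : Type*) [Ring R] extends CAR m R where
  /-- the anisotropic generator -/
  γ0 : R
  sq0 : γ0 * γ0 = 1
  anti0 : ∀ x, γ0 * γ x = -(γ x * γ0)

namespace CARB

variable {m : ℕ} {R : Type*} [Ring R] (C : CARB m R)

/-- the nilpotent element of the root `e_a`. -/
def sY (a : Idx m) : R := C.γ a * C.γ0

theorem anti0_l (x : Idx m) (z : R) : C.γ0 * (C.γ x * z) = -(C.γ x * (C.γ0 * z)) := by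
  rw [← mul_assoc, C.anti0, neg_mul, mul_assoc]

theorem sY_sq (a : Idx m) : C.sY a * C.sY a = 0 := by
  unfold sY
  rw [mul_assoc, ← mul_assoc C.γ0, C.anti0, neg_mul, mul_neg, mul_assoc, C.sq0, mul_one, C.sq,
    neg_zero]

section toOB

variable {K : Type*} [Field K] [Algebra K R]

/-- the short root elements `1 + t • γ a γ₀`. -/
def cly (a : Idx m) (t : K) : Rˣ := clU (t • C.sY a) (cl_smul_sq (C.sY_sq a) t)

theorem cly_val (a : Idx m) (t : K) : ((C.cly a t : Rˣ) : R) = 1 + t • C.sY a := rfl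

theorem sY_comm {a b c : Idx m} (hcb : c ≠ b) (hca : c ≠ a.swap) :
    C.sN a b * C.sY c = C.sY c * C.sN a b := by
  have e1 : c ≠ b.swap.swap := by rw [Sum.swap_swap]; exact hcb
  unfold CAR.sN sY
  rw [mul_assoc, mul_assoc (C.γ c), C.anti0_l, C.anti0, mul_neg, mul_neg, mul_neg, neg_neg,
    C.toCAR.anti_l hca, C.toCAR.anti_l e1, mul_neg, neg_neg]

/-- the Steinberg relations of type `B_m` for the units `1 + t • γ a γ b̄`, `1 + t • γ a γ₀`. -/
noncomputable def toOB (K : Type*) [Field K] [Algebra K R] : OB m K Rˣ where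
  toOD := C.toCAR.toOD K
  y := C.cly
  yadd := by
    intro a t u
    apply Units.ext
    rw [Units.val_mul, C.cly_val, C.cly_val, C.cly_val, cl_add (C.sY_sq a)]
  yy := by
    intro a b hab t u
    have hba : b ≠ a.swap := fun e => hab.2 (swap_eq_iff.mp e.symm)
    have h : C.cly a t * C.cly b u =
        (C.toCAR.toOD K).x a b.swap (-(2 * t * u)) * (C.cly b u * C.cly a t) := by
      apply Units.ext
      rw [Units.val_mul, Units.val_mul, Units.val_mul, C.cly_val, C.cly_val, CAR.toOD_x,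
        C.toCAR.clx_val hab.swap_right]
      unfold sY CAR.sN
      rw [Sum.swap_swap]
      exact clb_yy (C.γ a) (C.γ b) C.γ0 (C.sq a) (C.sq b) C.sq0 (C.toCAR.anti hba) (C.anti0 a)
        (C.anti0 b) t u
    rw [h]
    group
  xy := by
    intro a b hab t u
    have hba : b ≠ a.swap := fun e => hab.2 (swap_eq_iff.mp e.symm)
    have hb'a : b.swap ≠ a.swap := fun e => hab.1 (swap_inj.mp e).symm
    have h : (C.toCAR.toOD K).x a b t * C.cly b u =
        C.cly a (t * u) * ((C.toCAR.toOD K).x a b.swap (t * u * u) *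
          (C.cly b u * (C.toCAR.toOD K).x a b t)) := by
      apply Units.ext
      rw [Units.val_mul, Units.val_mul, Units.val_mul, Units.val_mul, C.cly_val, C.cly_val,
        CAR.toOD_x, CAR.toOD_x, C.toCAR.clx_val hab.swap_right, C.toCAR.clx_val hab]
      unfold sY CAR.sN
      rw [Sum.swap_swap]
      exact clb_xy (C.γ a) (C.γ b) (C.γ b.swap) C.γ0 (C.sq a) (C.sq b) (C.sq b.swap) C.sq0
        (C.toCAR.pair rfl) (C.toCAR.anti hba) (C.toCAR.anti hb'a) (C.anti0 a) (C.anti0 b)
        (C.anti0 b.swap) t u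
    rw [h]
    group
  xy_comm := by
    intro a b c hab hcb hca t u
    apply Units.ext
    rw [Units.val_mul, Units.val_mul, C.cly_val, CAR.toOD_x, C.toCAR.clx_val hab,
      cl_comm (C.sY_comm hcb hca)]

theorem toOB_y (a : Idx m) (t : K) : (C.toOB K).y a t = C.cly a t := rfl

/-- `h_a(-1) = -1`. -/
theorem toOB_hs (a : Idx m) : (C.toOB K).hs a (-1) = -1 := by
  have k1 : (-1 : K)⁻¹ = -1 := by rw [inv_neg, inv_one]
  apply Units.ext
  unfold OB.hs OB.ws
  simp only [toOB_y, Units.val_mul, C.cly_val, k1, neg_smul, one_smul, Units.val_neg, Units.val_one,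
    sY, ← sub_eq_add_neg]
  exact clb_hs (C.γ a) (C.γ a.swap) C.γ0 (C.sq a) (C.sq a.swap) C.sq0 (C.toCAR.pair rfl) (C.anti0 a)
    (C.anti0 a.swap)

end toOB

end CARB

/-! ### the model in the Clifford algebra of the hyperbolic form of rank `m + 1` -/

/-- the embedding of the indices of rank `m` into those of rank `m + 1`. -/
def idxUp (m : ℕ) : Idx m → Idx (m + 1) := Sum.map Fin.castSucc Fin.castSucc

theorem idxUp_swap (m : ℕ) (x : Idx m) : idxUp m x.swap = (idxUp m x).swap := by
  cases x <;> rfl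

theorem idxUp_injective (m : ℕ) : Function.Injective (idxUp m) :=
  Sum.map_injective.mpr ⟨Fin.castSucc_injective m, Fin.castSucc_injective m⟩

theorem idxUp_ne_last (m : ℕ) (x : Idx m) :
    idxUp m x ≠ Sum.inl (Fin.last m) ∧ idxUp m x ≠ Sum.inr (Fin.last m) := by
  cases x with
  | inl i =>
    refine ⟨fun e => ?_, fun e => by simp [idxUp] at e⟩
    have := Sum.inl.inj e
    exact (Fin.castSucc_lt_last i).ne this
  | inr i =>
    refine ⟨fun e => by simp [idxUp] at e, fun e => ?_⟩
    have := Sum.inr.inj e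
    exact (Fin.castSucc_lt_last i).ne this

/-- the canonical anticommutation relations of type `B_m` from those of type `D_{m+1}`. -/
def carUp {m : ℕ} {R : Type*} [Ring R] (C : CAR (m + 1) R) : CARB m R where
  γ x := C.γ (idxUp m x)
  sq x := C.sq _
  car x y := by
    rw [C.car, ← idxUp_swap]
    by_cases h : y = x.swap
    · rw [if_pos h, if_pos (by rw [h])]
    · rw [if_neg h, if_neg (fun e => h (idxUp_injective m e))]
  γ0 := C.γ (Sum.inl (Fin.last m)) + C.γ (Sum.inr (Fin.last m))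
  sq0 := by
    have h := C.car (Sum.inl (Fin.last m)) (Sum.inr (Fin.last m))
    rw [if_pos (show Sum.inr (Fin.last m) = (Sum.inl (Fin.last m) : Idx (m + 1)).swap from rfl)] at h
    rw [mul_add, add_mul, add_mul, C.sq, C.sq, zero_add, add_zero, add_comm]
    exact h
  anti0 x := by
    obtain ⟨h1, h2⟩ := idxUp_ne_last m x
    have a1 : (Sum.inl (Fin.last m) : Idx (m + 1)) ≠ (idxUp m x).swap :=
      fun e => h2 (by rw [← Sum.swap_swap (idxUp m x), ← e]; rfl)
    have a2 : (Sum.inr (Fin.last m) : Idx (m + 1)) ≠ (idxUp m x).swap :=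
      fun e => h1 (by rw [← Sum.swap_swap (idxUp m x), ← e]; rfl)
    rw [add_mul, mul_add, C.anti a1, C.anti a2, neg_add]

/-- **P13**: a system of type `B_m` with `h_a(-1) ≠ 1`, if `2 ≠ 0`. -/
theorem exists_OB_z_ne_one {m : ℕ} {K : Type u} [Field K] (h2 : (2 : K) ≠ 0) :
    ∃ (M : Type u) (_ : Group M) (S : OB m K M), ∀ a : Idx m, S.hs a (-1) ≠ 1 := by
  have : Invertible (2 : K) := invertibleOfNonzero h2
  refine ⟨(CliffordAlgebra (Cfsg.Agent.Helper8.StdForms.plusForm K (m + 1)))ˣ, inferInstance,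
    (carUp (cliffCAR (m + 1) K)).toOB K, ?_⟩
  intro a
  rw [CARB.toOB_hs]
  intro e
  have e1 : (-1 : CliffordAlgebra (Cfsg.Agent.Helper8.StdForms.plusForm K (m + 1))) = 1 := by
    have := congrArg Units.val e
    simpa using this
  have e2 : (algebraMap K (CliffordAlgebra (Cfsg.Agent.Helper8.StdForms.plusForm K (m + 1)))) 2 = 0 := by
    rw [map_ofNat]
    calc (2 : CliffordAlgebra (Cfsg.Agent.Helper8.StdForms.plusForm K (m + 1))) = 1 + 1 := by norm_num
      _ = 1 + -1 := by rw [e1]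
      _ = 0 := by rw [add_neg_cancel]
  exact h2 ((map_eq_zero_iff _ (RingHom.injective _)).mp e2)

end Cfsg.Agent.CtRecB
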