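import Mathlib
import Cfsg.Agent.CtRecB.Defs2
import Cfsg.Agent.CtRecD.MatB1

set_option autoImplicit false
set_option linter.unusedSectionVars false
set_option linter.unusedVariables false
set_option linter.unusedSimpArgs false
set_option linter.unreachableTactic false
set_option linter.unusedTactic false

/-!
# S2094, piece P1 (helper9): the matrices `bX a b t`, `bY a t` satisfy the Steinberg relations of type `B_m`

`obGL m K : OB m K (GL (IdxB m) K)`, `obGO m K` (in the isometry group of `quadFormOdd m K`), `obOmega hm K` (in `Ω`, `m ≥ 3`),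
`OB.restrTo` (restriction of a system to a subgroup containing its root elements), the actions `bX_mulVec`, `bY_mulVec` on vectors and the entry
formulas `bX_mul_apply`, `mul_bX_apply`, `bY_mul_apply`, `mul_bY_apply`.
-/

namespace Cfsg.Agent.CtRecB

open Matrix Cfsg.Agent.CtRecD

variable {m : ℕ} {K : Type*} [Field K]

theorem bX_eq (a b : Idx m) (t : K) :
    bX a b t = 1 + Matrix.single (Sum.inr a : IdxB m) (Sum.inr b) t
      - Matrix.single (Sum.inr b.swap : IdxB m) (Sum.inr a.swap) t := by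
  unfold bX oX
  ext i j
  rcases i with ⟨⟩ | i <;> rcases j with ⟨⟩ | j <;>
    simp [Matrix.fromBlocks_apply₁₁, Matrix.fromBlocks_apply₁₂, Matrix.fromBlocks_apply₂₁,
      Matrix.fromBlocks_apply₂₂, Matrix.single_apply, Matrix.one_apply]

theorem bY_eq (a : Idx m) (t : K) :
    bY a t = 1 + Matrix.single (Sum.inr a : IdxB m) (Sum.inl ()) (2 * t)
      - Matrix.single (Sum.inl () : IdxB m) (Sum.inr a.swap) t
      - Matrix.single (Sum.inr a : IdxB m) (Sum.inr a.swap) (t * t) := by
  unfold bY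
  ext i j
  rcases i with ⟨⟩ | i <;> rcases j with ⟨⟩ | j <;>
    simp [Matrix.fromBlocks_apply₁₁, Matrix.fromBlocks_apply₁₂, Matrix.fromBlocks_apply₂₁,
      Matrix.fromBlocks_apply₂₂, Matrix.single_apply, Matrix.one_apply, eq_comm]
  split_ifs <;> simp

/-! ### entry formulas -/

theorem ob_single_mul_apply (i j : IdxB m) (c : K) (M : Matrix (IdxB m) (IdxB m) K) (r s : IdxB m) :
    (Matrix.single i j c * M) r s = if r = i then c * M j s else 0 := by
  by_cases h : r = i
  · subst h
    rw [if_pos rfl, Matrix.single_mul_apply_same]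
  · rw [if_neg h, Matrix.single_mul_apply_of_ne _ _ _ _ _ h]

theorem ob_mul_single_apply (i j : IdxB m) (c : K) (M : Matrix (IdxB m) (IdxB m) K) (r s : IdxB m) :
    (M * Matrix.single i j c) r s = if s = j then M r i * c else 0 := by
  by_cases h : s = j
  · subst h
    rw [if_pos rfl, Matrix.mul_single_apply_same]
  · rw [if_neg h, Matrix.mul_single_apply_of_ne _ _ _ _ _ h]

theorem bX_mul_apply (a b : Idx m) (t : K) (M : Matrix (IdxB m) (IdxB m) K) (r s : IdxB m) :
    (bX a b t * M) r s = M r s + (if r = Sum.inr a then t * M (Sum.inr b) s else 0) -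
      (if r = Sum.inr b.swap then t * M (Sum.inr a.swap) s else 0) := by
  rw [bX_eq, sub_mul, add_mul, one_mul, Matrix.sub_apply, Matrix.add_apply, ob_single_mul_apply,
    ob_single_mul_apply]

theorem mul_bX_apply (a b : Idx m) (t : K) (M : Matrix (IdxB m) (IdxB m) K) (r s : IdxB m) :
    (M * bX a b t) r s = M r s + (if s = Sum.inr b then M r (Sum.inr a) * t else 0) -
      (if s = Sum.inr a.swap then M r (Sum.inr b.swap) * t else 0) := by
  rw [bX_eq, mul_sub, mul_add, mul_one, Matrix.sub_apply, Matrix.add_apply, ob_mul_single_apply,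
    ob_mul_single_apply]

theorem bY_mul_apply (a : Idx m) (t : K) (M : Matrix (IdxB m) (IdxB m) K) (r s : IdxB m) :
    (bY a t * M) r s = M r s + (if r = Sum.inr a then 2 * t * M (Sum.inl ()) s else 0) -
      (if r = Sum.inl () then t * M (Sum.inr a.swap) s else 0) -
      (if r = Sum.inr a then t * t * M (Sum.inr a.swap) s else 0) := by
  rw [bY_eq, sub_mul, sub_mul, add_mul, one_mul, Matrix.sub_apply, Matrix.sub_apply, Matrix.add_apply,
    ob_single_mul_apply, ob_single_mul_apply, ob_single_mul_apply]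

theorem mul_bY_apply (a : Idx m) (t : K) (M : Matrix (IdxB m) (IdxB m) K) (r s : IdxB m) :
    (M * bY a t) r s = M r s + (if s = Sum.inl () then M r (Sum.inr a) * (2 * t) else 0) -
      (if s = Sum.inr a.swap then M r (Sum.inl ()) * t else 0) -
      (if s = Sum.inr a.swap then M r (Sum.inr a) * (t * t) else 0) := by
  rw [bY_eq, mul_sub, mul_sub, mul_add, mul_one, Matrix.sub_apply, Matrix.sub_apply, Matrix.add_apply,
    ob_mul_single_apply, ob_mul_single_apply, ob_mul_single_apply]

/-! ### the action on vectors -/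

theorem bX_mulVec (a b : Idx m) (t : K) (v : IdxB m → K) :
    bX a b t *ᵥ v = v + Pi.single (Sum.inr a) (t * v (Sum.inr b))
      + Pi.single (Sum.inr b.swap) (-(t * v (Sum.inr a.swap))) := by
  rw [bX_eq, sub_mulVec, add_mulVec, one_mulVec, single_mulVec, single_mulVec, sub_eq_add_neg,
    Pi.single_neg]
  rfl

theorem bY_mulVec (a : Idx m) (t : K) (v : IdxB m → K) :
    bY a t *ᵥ v = v + Pi.single (Sum.inr a) (2 * t * v (Sum.inl ()))
      + Pi.single (Sum.inl ()) (-(t * v (Sum.inr a.swap)))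
      + Pi.single (Sum.inr a) (-(t * t * v (Sum.inr a.swap))) := by
  rw [bY_eq, sub_mulVec, sub_mulVec, add_mulVec, one_mulVec, single_mulVec, single_mulVec,
    single_mulVec, sub_eq_add_neg, sub_eq_add_neg, Pi.single_neg, Pi.single_neg]
  rfl

theorem ob_ext {A B : Matrix (IdxB m) (IdxB m) K} (h : ∀ v : IdxB m → K, A *ᵥ v = B *ᵥ v) : A = B := by
  ext i j
  have := congrFun (h (Pi.single j 1)) i
  simpa using this

/-! ### the relations on the matrices -/

theorem bX_mul_bX (a b c d : Idx m) (t u : K) :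
    bX a b t * bX c d u = Matrix.fromBlocks 1 0 0 (oX a b t * oX c d u) := by
  unfold bX
  rw [Matrix.fromBlocks_multiply]
  simp

theorem bX_zero (a b : Idx m) : bX a b (0 : K) = 1 := by
  unfold bX
  rw [oX_zero, Matrix.fromBlocks_one]

theorem bX_xbar (a b : Idx m) (t : K) : bX a b t = bX b.swap a.swap (-t) := by
  unfold bX
  rw [← oX_xbar]

theorem bX_add {a b : Idx m} (hab : a ≠ b) (t u : K) : bX a b t * bX a b u = bX a b (t + u) := by
  rw [bX_mul_bX, oX_add hab]
  rfl

theorem bX_mul_neg {a b : Idx m} (hab : a ≠ b) (t : K) : bX a b t * bX a b (-t) = 1 := by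
  rw [bX_add hab, add_neg_cancel, bX_zero]

theorem bX_neg_mul {a b : Idx m} (hab : a ≠ b) (t : K) : bX a b (-t) * bX a b t = 1 := by
  rw [bX_add hab, neg_add_cancel, bX_zero]

theorem bX_comm {a b c d : Idx m} (hbc : b ≠ c) (had : a ≠ d) (hca : c ≠ a.swap)
    (hdb : d ≠ b.swap) (t u : K) : bX a b t * bX c d u = bX c d u * bX a b t := by
  rw [bX_mul_bX, bX_mul_bX, oX_comm hbc had hca hdb]

theorem bX_comm_row {a b : Idx m} (hab : a ≠ b) (hab' : a ≠ b.swap) (t u : K) :
    bX a b t * bX a b.swap u = bX a b.swap u * bX a b t := by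
  rw [bX_mul_bX, bX_mul_bX, oX_comm_row hab hab']

theorem bX_comm3_mul {a b c : Idx m} (hab : Rt a b) (hbc : Rt b c) (hac : Rt a c) (t u : K) :
    bX a b t * bX b c u = bX a c (t * u) * bX b c u * bX a b t := by
  rw [bX_mul_bX, bX_mul_bX, oX_comm3_mul hab hbc hac]
  unfold bX
  rw [Matrix.fromBlocks_multiply]
  simp

theorem bY_zero (a : Idx m) : bY a (0 : K) = 1 := by
  rw [bY_eq]
  simp

theorem bY_add (a : Idx m) (t u : K) : bY a t * bY a u = bY a (t + u) := by
  have h9 := ne_swap a
  have h11 : a.swap ≠ a := fun e => h9 e.symm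
  apply ob_ext
  intro v
  simp only [← Matrix.mulVec_mulVec, bY_mulVec, Pi.add_apply, Pi.single_apply,
    Sum.swap_swap, Sum.inr.injEq, Sum.inl.injEq, reduceCtorEq, if_false, if_true, h9, h11,
    mul_zero, mul_one, add_zero, sub_zero, zero_add, zero_sub]
  ext r
  simp only [Pi.add_apply, Pi.single_apply]
  split_ifs <;> simp_all <;> ring

theorem bY_mul_neg (a : Idx m) (t : K) : bY a t * bY a (-t) = 1 := by
  rw [bY_add, add_neg_cancel, bY_zero]

theorem bY_neg_mul (a : Idx m) (t : K) : bY a (-t) * bY a t = 1 := by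
  rw [bY_add, neg_add_cancel, bY_zero]

/-- the relation `yy` on the matrices. -/
theorem bYY_mul {a b : Idx m} (hab : Rt a b) (t u : K) :
    bY a t * bY b u = bX a b.swap (-(2 * t * u)) * (bY b u * bY a t) := by
  have h1 := hab.1
  have h2 := hab.2
  have h3 : b ≠ a := hab.1.symm
  have h4 : b.swap ≠ a := fun e => hab.2 e.symm
  have h5 : a.swap ≠ b := fun e => hab.2 (swap_eq_iff.mp e)
  have h6 : b ≠ a.swap := fun e => h5 e.symm
  have h7 : a.swap ≠ b.swap := fun e => hab.1 (swap_inj.mp e)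
  have h8 : b.swap ≠ a.swap := fun e => h7 e.symm
  have h9 := ne_swap a
  have h10 := ne_swap b
  have h11 : a.swap ≠ a := fun e => h9 e.symm
  have h12 : b.swap ≠ b := fun e => h10 e.symm
  apply ob_ext
  intro v
  simp only [← Matrix.mulVec_mulVec, bX_mulVec, bY_mulVec, Pi.add_apply, Pi.single_apply,
    Sum.swap_swap, Sum.inr.injEq, Sum.inl.injEq, reduceCtorEq, if_false, if_true, h1, h2, h3, h4, h5,
    h6, h7, h8, h9, h10, h11, h12, mul_zero, mul_one, add_zero, sub_zero, zero_add, zero_sub]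
  ext r
  simp only [Pi.add_apply, Pi.single_apply]
  split_ifs <;> simp_all <;> ring

/-- the relation `xy` on the matrices. -/
theorem bXY_mul {a b : Idx m} (hab : Rt a b) (t u : K) :
    bX a b t * bY b u = bY a (t * u) * (bX a b.swap (t * u * u) * (bY b u * bX a b t)) := by
  have h1 := hab.1
  have h2 := hab.2
  have h3 : b ≠ a := hab.1.symm
  have h4 : b.swap ≠ a := fun e => hab.2 e.symm
  have h5 : a.swap ≠ b := fun e => hab.2 (swap_eq_iff.mp e)
  have h6 : b ≠ a.swap := fun e => h5 e.symm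
  have h7 : a.swap ≠ b.swap := fun e => hab.1 (swap_inj.mp e)
  have h8 : b.swap ≠ a.swap := fun e => h7 e.symm
  have h9 := ne_swap a
  have h10 := ne_swap b
  have h11 : a.swap ≠ a := fun e => h9 e.symm
  have h12 : b.swap ≠ b := fun e => h10 e.symm
  apply ob_ext
  intro v
  simp only [← Matrix.mulVec_mulVec, bX_mulVec, bY_mulVec, Pi.add_apply, Pi.single_apply,
    Sum.swap_swap, Sum.inr.injEq, Sum.inl.injEq, reduceCtorEq, if_false, if_true, h1, h2, h3, h4, h5,
    h6, h7, h8, h9, h10, h11, h12, mul_zero, mul_one, add_zero, sub_zero, zero_add, zero_sub]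
  ext r
  simp only [Pi.add_apply, Pi.single_apply]
  split_ifs <;> simp_all <;> ring

/-- the relation `xy_comm` on the matrices. -/
theorem bXY_comm {a b c : Idx m} (hab : Rt a b) (hcb : c ≠ b) (hca : c ≠ a.swap) (t u : K) :
    bX a b t * bY c u = bY c u * bX a b t := by
  have h1 := hab.1
  have h2 := hab.2
  have h3 : b ≠ a := hab.1.symm
  have h4 : b.swap ≠ a := fun e => hab.2 e.symm
  have h5 : a.swap ≠ b := fun e => hab.2 (swap_eq_iff.mp e)
  have h6 : b ≠ a.swap := fun e => h5 e.symm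
  have h7 : a.swap ≠ b.swap := fun e => hab.1 (swap_inj.mp e)
  have h8 : b.swap ≠ a.swap := fun e => h7 e.symm
  have h9 := ne_swap a
  have h10 := ne_swap b
  have h11 : a.swap ≠ a := fun e => h9 e.symm
  have h12 : b.swap ≠ b := fun e => h10 e.symm
  have h13 : b ≠ c := hcb.symm
  have h14 : a.swap ≠ c := hca.symm
  have h15 : c.swap ≠ b.swap := fun e => hcb (swap_inj.mp e)
  have h16 : b.swap ≠ c.swap := fun e => h15 e.symm
  have h17 : c.swap ≠ a := fun e => hca (swap_eq_iff.mp e)
  have h18 : a ≠ c.swap := fun e => h17 e.symm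
  have h19 := ne_swap c
  have h20 : c.swap ≠ c := fun e => h19 e.symm
  apply ob_ext
  intro v
  simp only [← Matrix.mulVec_mulVec, bX_mulVec, bY_mulVec, Pi.add_apply, Pi.single_apply,
    Sum.swap_swap, Sum.inr.injEq, Sum.inl.injEq, reduceCtorEq, if_false, if_true, h1, h2, h3, h4, h5,
    h6, h7, h8, h9, h10, h11, h12, h13, h14, h15, h16, h17, h18, h19, h20, hcb, hca,
    mul_zero, mul_one, add_zero, sub_zero, zero_add, zero_sub]
  ext r
  simp only [Pi.add_apply, Pi.single_apply]
  split_ifs <;> simp_all <;> ring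

/-! ### the root elements in `GL` -/

open Classical in
/-- the long root element as a unit of the matrix ring (`1` if `(a, b)` is not a root pair). -/
noncomputable def bXu (a b : Idx m) (t : K) : Matrix.GeneralLinearGroup (IdxB m) K :=
  if h : Rt a b then ⟨bX a b t, bX a b (-t), bX_mul_neg h.1 t, bX_neg_mul h.1 t⟩ else 1

/-- the short root element as a unit of the matrix ring. -/
noncomputable def bYu (a : Idx m) (t : K) : Matrix.GeneralLinearGroup (IdxB m) K :=
  ⟨bY a t, bY a (-t), bY_mul_neg a t, bY_neg_mul a t⟩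

theorem bXu_val {a b : Idx m} (hab : Rt a b) (t : K) :
    ((bXu a b t : Matrix.GeneralLinearGroup (IdxB m) K) : Matrix (IdxB m) (IdxB m) K) = bX a b t := by
  unfold bXu
  rw [dif_pos hab]

theorem bYu_val (a : Idx m) (t : K) :
    ((bYu a t : Matrix.GeneralLinearGroup (IdxB m) K) : Matrix (IdxB m) (IdxB m) K) = bY a t := rfl

theorem bXu_inv {a b : Idx m} (hab : Rt a b) (t : K) : (bXu a b t)⁻¹ = bXu a b (-t) := by
  apply Units.ext
  rw [bXu_val hab]
  unfold bXu
  rw [dif_pos hab]
  rfl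

theorem bYu_inv (a : Idx m) (t : K) : (bYu a t)⁻¹ = bYu a (-t) := by
  apply Units.ext
  rfl

/-- the matrices `bX a b t`, `bY a t` satisfy the relations of `OB` in `GL`. -/
noncomputable def obGL (m : ℕ) (K : Type*) [Field K] : OB m K (Matrix.GeneralLinearGroup (IdxB m) K) where
  x := bXu
  xbar := fun a b h t => Units.ext (by rw [bXu_val h, bXu_val h.bar, ← bX_xbar])
  add := fun a b h t u => Units.ext (by
    rw [Units.val_mul, bXu_val h, bXu_val h, bXu_val h, bX_add h.1])
  comm := fun a b c d hab hcd hbc had hca hdb t u => Units.ext (by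
    rw [Units.val_mul, Units.val_mul, bXu_val hab, bXu_val hcd, bX_comm hbc had hca hdb])
  comm_row := fun a b h t u => Units.ext (by
    rw [Units.val_mul, Units.val_mul, bXu_val h, bXu_val h.swap_right, bX_comm_row h.1 h.2])
  comm3 := fun a b c hab hbc hac t u => by
    have e : bXu a b t * bXu b c u = bXu a c (t * u) * bXu b c u * bXu a b t := Units.ext (by
      rw [Units.val_mul, Units.val_mul, Units.val_mul, bXu_val hab, bXu_val hbc, bXu_val hac,
        bX_comm3_mul hab hbc hac])
    rw [e]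
    group
  y := bYu
  yadd := fun a t u => Units.ext (by rw [Units.val_mul, bYu_val, bYu_val, bYu_val, bY_add])
  yy := fun a b hab t u => by
    have e : bYu a t * bYu b u = bXu a b.swap (-(2 * t * u)) * (bYu b u * bYu a t) := Units.ext (by
      rw [Units.val_mul, Units.val_mul, Units.val_mul, bYu_val, bYu_val, bXu_val hab.swap_right,
        bYY_mul hab])
    rw [e]
    group
  xy := fun a b hab t u => by
    have e : bXu a b t * bYu b u =
        bYu a (t * u) * (bXu a b.swap (t * u * u) * (bYu b u * bXu a b t)) := Units.ext (by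
      rw [Units.val_mul, Units.val_mul, Units.val_mul, Units.val_mul, bYu_val, bYu_val,
        bXu_val hab.swap_right, bXu_val hab, bXY_mul hab])
    rw [e]
    group
  xy_comm := fun a b c hab hcb hca t u => Units.ext (by
    rw [Units.val_mul, Units.val_mul, bXu_val hab, bYu_val, bXY_comm hab hcb hca])

theorem obGL_x_val {a b : Idx m} (hab : Rt a b) (t : K) :
    (((obGL m K).x a b t : Matrix.GeneralLinearGroup (IdxB m) K) : Matrix (IdxB m) (IdxB m) K) =
      bX a b t := bXu_val hab t

theorem obGL_y_val (a : Idx m) (t : K) :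
    (((obGL m K).y a t : Matrix.GeneralLinearGroup (IdxB m) K) : Matrix (IdxB m) (IdxB m) K) =
      bY a t := rfl

/-! ### restriction of a system to a subgroup -/

open Classical in
/-- the restriction of a system to a subgroup which contains its root elements. -/
noncomputable def OB.restrTo {Γ : Type*} [Group Γ] (S : OB m K Γ) (H : Subgroup Γ)
    (hx : ∀ a b, Rt a b → ∀ t : K, S.x a b t ∈ H) (hy : ∀ (a : Idx m) (t : K), S.y a t ∈ H) :
    OB m K ↥H where
  x a b t := if h : Rt a b then ⟨S.x a b t, hx a b h t⟩ else 1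
  xbar a b h t := by
    rw [dif_pos h, dif_pos h.bar]
    exact Subtype.ext (S.xbar a b h t)
  add a b h t u := by
    rw [dif_pos h, dif_pos h, dif_pos h]
    exact Subtype.ext (S.add a b h t u)
  comm a b c d h1 h2 h3 h4 h5 h6 t u := by
    rw [dif_pos h1, dif_pos h2]
    exact Subtype.ext (S.comm a b c d h1 h2 h3 h4 h5 h6 t u)
  comm_row a b h t u := by
    rw [dif_pos h, dif_pos h.swap_right]
    exact Subtype.ext (S.comm_row a b h t u)
  comm3 a b c h1 h2 h3 t u := by
    rw [dif_pos h1, dif_pos h2, dif_pos h3]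
    exact Subtype.ext (S.comm3 a b c h1 h2 h3 t u)
  y a t := ⟨S.y a t, hy a t⟩
  yadd a t u := Subtype.ext (S.yadd a t u)
  yy a b h t u := by
    rw [dif_pos h.swap_right]
    exact Subtype.ext (S.yy a b h t u)
  xy a b h t u := by
    rw [dif_pos h, dif_pos h.swap_right]
    exact Subtype.ext (S.xy a b h t u)
  xy_comm a b c h h1 h2 t u := by
    rw [dif_pos h]
    exact Subtype.ext (S.xy_comm a b c h h1 h2 t u)

theorem OB.restrTo_x {Γ : Type*} [Group Γ] (S : OB m K Γ) (H : Subgroup Γ)
    (hx : ∀ a b, Rt a b → ∀ t : K, S.x a b t ∈ H) (hy : ∀ (a : Idx m) (t : K), S.y a t ∈ H)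
    {a b : Idx m} (h : Rt a b) (t : K) : (((S.restrTo H hx hy).x a b t : ↥H) : Γ) = S.x a b t := by
  unfold OB.restrTo
  simp only
  rw [dif_pos h]

theorem OB.restrTo_y {Γ : Type*} [Group Γ] (S : OB m K Γ) (H : Subgroup Γ)
    (hx : ∀ a b, Rt a b → ∀ t : K, S.x a b t ∈ H) (hy : ∀ (a : Idx m) (t : K), S.y a t ∈ H)
    (a : Idx m) (t : K) : (((S.restrTo H hx hy).y a t : ↥H) : Γ) = S.y a t := rfl

/-! ### the root elements are isometries of `quadFormOdd` -/

theorem ob_Q_add_single_inr (v : IdxB m → K) (a : Idx m) (x : K) :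
    Cfsg.quadFormOdd m K (v + Pi.single (Sum.inr a) x) =
      Cfsg.quadFormOdd m K v + x * v (Sum.inr a.swap) := by
  unfold Cfsg.quadFormOdd
  rcases a with j | j
  · simp only [Pi.add_apply, Pi.single_apply, Sum.inr.injEq, Sum.inl.injEq, reduceCtorEq, if_false,
      add_zero, Sum.swap_inl, add_mul, ite_mul, zero_mul, Finset.sum_add_distrib,
      Finset.sum_ite_eq', Finset.mem_univ, if_true]
    ring
  · simp only [Pi.add_apply, Pi.single_apply, Sum.inr.injEq, Sum.inl.injEq, reduceCtorEq, if_false,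
      add_zero, Sum.swap_inr, mul_add, mul_ite, mul_zero, Finset.sum_add_distrib,
      Finset.sum_ite_eq', Finset.mem_univ, if_true, mul_comm x]
    ring

theorem ob_Q_add_single_inl (v : IdxB m → K) (x : K) :
    Cfsg.quadFormOdd m K (v + Pi.single (Sum.inl ()) x) =
      Cfsg.quadFormOdd m K v + 2 * x * v (Sum.inl ()) + x * x := by
  unfold Cfsg.quadFormOdd
  simp only [Pi.add_apply, Pi.single_apply, reduceCtorEq, if_false, add_zero, if_true]
  ring

theorem bX_Q {a b : Idx m} (hab : a ≠ b) (t : K) (v : IdxB m → K) :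
    Cfsg.quadFormOdd m K (bX a b t *ᵥ v) = Cfsg.quadFormOdd m K v := by
  have h : (Sum.inr a : IdxB m) ≠ Sum.inr b := fun e => hab (Sum.inr.inj e)
  rw [bX_mulVec, ob_Q_add_single_inr, ob_Q_add_single_inr, Sum.swap_swap, Pi.add_apply,
    Pi.single_eq_of_ne h.symm]
  ring

theorem bY_Q (a : Idx m) (t : K) (v : IdxB m → K) :
    Cfsg.quadFormOdd m K (bY a t *ᵥ v) = Cfsg.quadFormOdd m K v := by
  have h1 : (Sum.inr a.swap : IdxB m) ≠ Sum.inr a := fun e => ne_swap a (Sum.inr.inj e).symm
  have h2 : (Sum.inr a.swap : IdxB m) ≠ Sum.inl () := fun e => by simp at e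
  have h3 : (Sum.inl () : IdxB m) ≠ Sum.inr a := fun e => by simp at e
  rw [bY_mulVec, ob_Q_add_single_inr, ob_Q_add_single_inl, ob_Q_add_single_inr]
  simp only [Pi.add_apply, Pi.single_eq_of_ne h1, Pi.single_eq_of_ne h2, Pi.single_eq_of_ne h3,
    add_zero]
  ring

theorem bXu_mem (a b : Idx m) (t : K) :
    bXu a b t ∈ Cfsg.isometryGroup K (Cfsg.quadFormOdd m K) := by
  by_cases hab : Rt a b
  · intro u v
    show Cfsg.quadFormOdd m K
      (((bXu a b t : Matrix.GeneralLinearGroup (IdxB m) K) : Matrix (IdxB m) (IdxB m) K) *ᵥ u) = _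
    rw [bXu_val hab, bX_Q hab.1]
  · unfold bXu
    rw [dif_neg hab]
    exact Subgroup.one_mem _

theorem bYu_mem (a : Idx m) (t : K) :
    bYu a t ∈ Cfsg.isometryGroup K (Cfsg.quadFormOdd m K) := by
  intro u v
  show Cfsg.quadFormOdd m K
    (((bYu a t : Matrix.GeneralLinearGroup (IdxB m) K) : Matrix (IdxB m) (IdxB m) K) *ᵥ u) = _
  rw [bYu_val, bY_Q]

/-- the matrices `bX a b t`, `bY a t` satisfy the relations of `OB` in the isometry group. -/
noncomputable def obGO (m : ℕ) (K : Type*) [Field K] :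
    OB m K ↥(Cfsg.isometryGroup K (Cfsg.quadFormOdd m K)) :=
  (obGL m K).restrTo (Cfsg.isometryGroup K (Cfsg.quadFormOdd m K)) (fun a b _ t => bXu_mem a b t)
    (fun a t => bYu_mem a t)

theorem obGO_x_coe {a b : Idx m} (hab : Rt a b) (t : K) :
    (((obGO m K).x a b t : ↥(Cfsg.isometryGroup K (Cfsg.quadFormOdd m K))) :
      Matrix.GeneralLinearGroup (IdxB m) K) = (obGL m K).x a b t :=
  OB.restrTo_x (obGL m K) (Cfsg.isometryGroup K (Cfsg.quadFormOdd m K))
    (fun a b _ t => bXu_mem a b t) (fun a t => bYu_mem a t) hab t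

theorem obGO_x_val {a b : Idx m} (hab : Rt a b) (t : K) :
    ((((obGO m K).x a b t : ↥(Cfsg.isometryGroup K (Cfsg.quadFormOdd m K))) :
      Matrix.GeneralLinearGroup (IdxB m) K) : Matrix (IdxB m) (IdxB m) K) = bX a b t := by
  rw [obGO_x_coe hab, obGL_x_val hab]

theorem obGO_y_val (a : Idx m) (t : K) :
    ((((obGO m K).y a t : ↥(Cfsg.isometryGroup K (Cfsg.quadFormOdd m K))) :
      Matrix.GeneralLinearGroup (IdxB m) K) : Matrix (IdxB m) (IdxB m) K) = bY a t := rfl

/-! ### the root elements lie in `Ω` -/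

theorem obGO_x_mem_Omega (hm : 3 ≤ m) {a c : Idx m} (hac : Rt a c) (t : K) :
    (obGO m K).x a c t ∈ Cfsg.Omega K (Cfsg.quadFormOdd m K) := by
  obtain ⟨b, hab, hbc⟩ := b1_exists_mid hm a c
  have h := (obGO m K).comm3 a b c hab hbc hac t 1
  rw [mul_one] at h
  rw [← h]
  exact Subgroup.commutator_mem_commutator (Subgroup.mem_top _) (Subgroup.mem_top _)

theorem ob_exists_rt (hm : 3 ≤ m) (a : Idx m) : ∃ b : Idx m, Rt a b := by
  obtain ⟨b, hab, _⟩ := b1_exists_mid hm a a
  exact ⟨b, hab⟩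

theorem obGO_y_mem_Omega (hm : 3 ≤ m) (a : Idx m) (t : K) :
    (obGO m K).y a t ∈ Cfsg.Omega K (Cfsg.quadFormOdd m K) := by
  obtain ⟨b, hab⟩ := ob_exists_rt hm a
  have h := (obGO m K).xy a b hab t 1
  rw [mul_one, mul_one] at h
  have e : (obGO m K).y a t = ((obGO m K).x a b t * (obGO m K).y b 1 * ((obGO m K).x a b t)⁻¹ *
      ((obGO m K).y b 1)⁻¹) * ((obGO m K).x a b.swap t)⁻¹ := by
    rw [h]
    group
  rw [e]
  exact Subgroup.mul_mem _
    (Subgroup.commutator_mem_commutator (Subgroup.mem_top _) (Subgroup.mem_top _))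
    (Subgroup.inv_mem _ (obGO_x_mem_Omega hm hab.swap_right t))

/-- the matrices `bX a b t`, `bY a t` satisfy the relations of `OB` in `Ω_{2m+1}(K)` (`m ≥ 3`). -/
noncomputable def obOmega {m : ℕ} (hm : 3 ≤ m) (K : Type*) [Field K] :
    OB m K ↥(Cfsg.Omega K (Cfsg.quadFormOdd m K)) :=
  (obGO m K).restrTo (Cfsg.Omega K (Cfsg.quadFormOdd m K)) (fun a b h t => obGO_x_mem_Omega hm h t)
    (fun a t => obGO_y_mem_Omega hm a t)

theorem obOmega_x_val {m : ℕ} (hm : 3 ≤ m) (K : Type*) [Field K] {a b : Idx m} (h : Rt a b) (t : K) :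
    (((((obOmega hm K).x a b t : ↥(Cfsg.Omega K (Cfsg.quadFormOdd m K))) :
      ↥(Cfsg.isometryGroup K (Cfsg.quadFormOdd m K))) :
        Matrix.GeneralLinearGroup (IdxB m) K) : Matrix (IdxB m) (IdxB m) K) = bX a b t := by
  have e : (((obOmega hm K).x a b t : ↥(Cfsg.Omega K (Cfsg.quadFormOdd m K))) :
      ↥(Cfsg.isometryGroup K (Cfsg.quadFormOdd m K))) = (obGO m K).x a b t :=
    OB.restrTo_x (obGO m K) (Cfsg.Omega K (Cfsg.quadFormOdd m K))
      (fun a b h t => obGO_x_mem_Omega hm h t) (fun a t => obGO_y_mem_Omega hm a t) h t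
  rw [e, obGO_x_val h]

theorem obOmega_y_val {m : ℕ} (hm : 3 ≤ m) (K : Type*) [Field K] (a : Idx m) (t : K) :
    (((((obOmega hm K).y a t : ↥(Cfsg.Omega K (Cfsg.quadFormOdd m K))) :
      ↥(Cfsg.isometryGroup K (Cfsg.quadFormOdd m K))) :
        Matrix.GeneralLinearGroup (IdxB m) K) : Matrix (IdxB m) (IdxB m) K) = bY a t := rfl

end Cfsg.Agent.CtRecB
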