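import Mathlib
import Cfsg.Agent.CtRecB.Defs2
import Cfsg.Agent.CtRecB.ObMat
import Cfsg.Agent.CtRecB.ObGen
import Cfsg.Agent.CtRecD.SchSt

set_option autoImplicit false
set_option linter.unusedSectionVars false
set_option linter.unusedVariables false

/-!
# S2094, piece P9 (helper8): the Steinberg group of type `B_m`

`StB m K` is the group presented by the relations of an `OB`-system: the relators of `StD m K` on the long root
generators (`Sum.inl`) and the four relations `yadd`, `yy`, `xy`, `xy_comm` involving the short root generators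
(`Sum.inr`).  It carries the universal `OB`-system `stOB`, is perfect (`m ≥ 3`), maps onto `Ω_{2m+1}(K)`
(finite `K`, `2 ≠ 0`, by piece P2) and every central extension in which the `OB`-system lifts splits.
-/

namespace Cfsg.Agent.CtRecB

open Matrix Cfsg.Agent.CtRecD

open scoped commutatorElement

section pres

variable (m : ℕ) (K : Type*) [Field K]

/-- the generators: long root elements `(a, b, t)` with `Rt a b`, and short root elements `(a, t)`. -/
abbrev GenB (m : ℕ) (K : Type*) : Type _ := (RtIdx m × K) ⊕ (Idx m × K)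

/-- the long root generator in the free group. -/
def fgX {m : ℕ} {K : Type*} {a b : Idx m} (h : Rt a b) (t : K) : FreeGroup (GenB m K) :=
  FreeGroup.of (Sum.inl ((⟨(a, b), h⟩ : RtIdx m), t))

/-- the short root generator in the free group. -/
def fgY {m : ℕ} {K : Type*} (a : Idx m) (t : K) : FreeGroup (GenB m K) :=
  FreeGroup.of (Sum.inr (a, t))

/-- the Steinberg relators of type `B_m`. -/
def stRelsB : Set (FreeGroup (GenB m K)) :=
  (FreeGroup.map Sum.inl '' stRelsD m K) ∪
  {g | ∃ (a : Idx m) (t u : K), g = fgY a t * fgY a u * (fgY a (t + u))⁻¹} ∪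
  {g | ∃ (a b : Idx m) (h : Rt a b) (t u : K),
      g = fgY a t * fgY b u * (fgY a t)⁻¹ * (fgY b u)⁻¹ * (fgX h.swap_right (-(2 * t * u)))⁻¹} ∪
  {g | ∃ (a b : Idx m) (h : Rt a b) (t u : K),
      g = fgX h t * fgY b u * (fgX h t)⁻¹ * (fgY b u)⁻¹ *
        (fgY a (t * u) * fgX h.swap_right (t * u * u))⁻¹} ∪
  {g | ∃ (a b c : Idx m) (h : Rt a b) (t u : K), c ≠ b ∧ c ≠ a.swap ∧
      g = fgX h t * fgY c u * (fgY c u * fgX h t)⁻¹}

/-- **the Steinberg group of type `B_m` over `K`.** -/
abbrev StB : Type _ := PresentedGroup (stRelsB m K)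

/-- the homomorphism from the Steinberg group of type `D_m` (long roots). -/
noncomputable def stDtoB : StD m K →* StB m K :=
  PresentedGroup.map (FreeGroup.map Sum.inl) (s := stRelsD m K) (t := stRelsB m K)
    (fun r hr => Or.inl (Or.inl (Or.inl (Or.inl ⟨r, hr, rfl⟩))))

theorem stDtoB_of (p : RtIdx m × K) :
    stDtoB m K (PresentedGroup.of p) = (PresentedGroup.of (Sum.inl p) : StB m K) := by
  show PresentedGroup.mk (stRelsB m K) (FreeGroup.map Sum.inl (FreeGroup.of p)) = _
  rw [FreeGroup.map.of]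
  rfl

/-- the short root elements of the Steinberg group. -/
noncomputable def styB (a : Idx m) (t : K) : StB m K := PresentedGroup.of (Sum.inr (a, t))

theorem mk_fgX {a b : Idx m} (h : Rt a b) (t : K) :
    PresentedGroup.mk (stRelsB m K) (fgX h t) = stDtoB m K ((stOD m K).x a b t) := by
  rw [stOD_x_of m K h, stDtoB_of]
  rfl

theorem mk_fgY (a : Idx m) (t : K) :
    PresentedGroup.mk (stRelsB m K) (fgY a t) = styB m K a t := rfl

/-- the Steinberg group carries the universal `OB`-system. -/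
noncomputable def stOB : OB m K (StB m K) where
  toOD := (stOD m K).map (stDtoB m K)
  y := styB m K
  yadd := by
    intro a t u
    have hm : fgY a t * fgY a u * (fgY a (t + u))⁻¹ ∈ stRelsB m K :=
      Or.inl (Or.inl (Or.inl (Or.inr ⟨a, t, u, rfl⟩)))
    have e := PresentedGroup.one_of_mem hm
    rw [map_mul, map_mul, map_inv, mul_inv_eq_one, mk_fgY, mk_fgY, mk_fgY] at e
    exact e
  yy := by
    intro a b h t u
    have hm : fgY a t * fgY b u * (fgY a t)⁻¹ * (fgY b u)⁻¹ *
        (fgX h.swap_right (-(2 * t * u)))⁻¹ ∈ stRelsB m K :=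
      Or.inl (Or.inl (Or.inr ⟨a, b, h, t, u, rfl⟩))
    have e := PresentedGroup.one_of_mem hm
    rw [map_mul, map_mul, map_mul, map_mul, map_inv, map_inv, map_inv, mul_inv_eq_one, mk_fgY,
      mk_fgY, mk_fgX] at e
    exact e
  xy := by
    intro a b h t u
    have hm : fgX h t * fgY b u * (fgX h t)⁻¹ * (fgY b u)⁻¹ *
        (fgY a (t * u) * fgX h.swap_right (t * u * u))⁻¹ ∈ stRelsB m K :=
      Or.inl (Or.inr ⟨a, b, h, t, u, rfl⟩)
    have e := PresentedGroup.one_of_mem hm
    rw [map_mul, map_mul, map_mul, map_mul, map_inv, map_inv, map_inv, map_mul, mul_inv_eq_one,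
      mk_fgY, mk_fgY, mk_fgX, mk_fgX] at e
    exact e
  xy_comm := by
    intro a b c h hcb hca t u
    have hm : fgX h t * fgY c u * (fgY c u * fgX h t)⁻¹ ∈ stRelsB m K :=
      Or.inr ⟨a, b, c, h, t, u, hcb, hca, rfl⟩
    have e := PresentedGroup.one_of_mem hm
    rw [map_mul, map_mul, map_inv, map_mul, mul_inv_eq_one, mk_fgY, mk_fgX] at e
    exact e

theorem stOB_x (a b : Idx m) (t : K) :
    (stOB m K).x a b t = stDtoB m K ((stOD m K).x a b t) := rfl

theorem stOB_y (a : Idx m) (t : K) : (stOB m K).y a t = styB m K a t := rfl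

theorem stOB_x_of {a b : Idx m} (h : Rt a b) (t : K) :
    (stOB m K).x a b t = (PresentedGroup.of (Sum.inl ((⟨(a, b), h⟩ : RtIdx m), t)) : StB m K) := by
  rw [stOB_x, stOD_x_of m K h, stDtoB_of]

theorem stOB_y_of (a : Idx m) (t : K) :
    (stOB m K).y a t = (PresentedGroup.of (Sum.inr (a, t)) : StB m K) := rfl

/-- the root elements generate the Steinberg group. -/
theorem stOB_gens : Subgroup.closure (stOB m K).gensB = ⊤ := by
  rw [eq_top_iff, ← PresentedGroup.closure_range_of, Subgroup.closure_le]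
  rintro _ ⟨(⟨⟨⟨a, b⟩, h⟩, t⟩ | ⟨a, t⟩), rfl⟩
  · apply Subgroup.subset_closure
    exact Or.inl ⟨a, b, t, h, (stOB_x_of m K h t).symm⟩
  · apply Subgroup.subset_closure
    exact Or.inr ⟨a, t, rfl⟩

variable {m K}

/-- the images of the generators under the lift of an `OB`-system. -/
def stGenMap {E : Type*} [Group E] (S : OB m K E) : GenB m K → E :=
  Sum.elim (fun p : RtIdx m × K => S.x p.1.1.1 p.1.1.2 p.2) (fun q : Idx m × K => S.y q.1 q.2)

theorem stGenMap_fgX {E : Type*} [Group E] (S : OB m K E) {a b : Idx m} (h : Rt a b) (t : K) :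
    FreeGroup.lift (stGenMap S) (fgX h t) = S.x a b t := by
  unfold fgX
  rw [FreeGroup.lift_apply_of]
  rfl

theorem stGenMap_fgY {E : Type*} [Group E] (S : OB m K E) (a : Idx m) (t : K) :
    FreeGroup.lift (stGenMap S) (fgY a t) = S.y a t := by
  unfold fgY
  rw [FreeGroup.lift_apply_of]
  rfl

theorem stLiftB_rels {E : Type*} [Group E] (S : OB m K E) : ∀ r ∈ stRelsB m K,
    FreeGroup.lift (stGenMap S) r = 1 := by
  intro r hr
  rcases hr with (((⟨r0, hr0, rfl⟩ | ⟨a, t, u, rfl⟩) | ⟨a, b, h, t, u, rfl⟩) |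
    ⟨a, b, h, t, u, rfl⟩) | ⟨a, b, c, h, t, u, hcb, hca, rfl⟩
  · have e : (FreeGroup.lift (stGenMap S)).comp (FreeGroup.map Sum.inl)
        = FreeGroup.lift (fun p : RtIdx m × K => S.toOD.x p.1.1.1 p.1.1.2 p.2) := by
      apply FreeGroup.ext_hom
      intro p
      rw [MonoidHom.comp_apply, FreeGroup.map.of, FreeGroup.lift_apply_of, FreeGroup.lift_apply_of]
      rfl
    have e2 := stLift_rels S.toOD r0 hr0
    rw [← e] at e2
    exact e2
  · rw [map_mul, map_mul, map_inv, stGenMap_fgY, stGenMap_fgY, stGenMap_fgY, mul_inv_eq_one]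
    exact S.yadd a t u
  · rw [map_mul, map_mul, map_mul, map_mul, map_inv, map_inv, map_inv, stGenMap_fgY, stGenMap_fgY,
      stGenMap_fgX, mul_inv_eq_one]
    exact S.yy a b h t u
  · rw [map_mul, map_mul, map_mul, map_mul, map_inv, map_inv, map_inv, map_mul, stGenMap_fgY,
      stGenMap_fgY, stGenMap_fgX, stGenMap_fgX, mul_inv_eq_one]
    exact S.xy a b h t u
  · rw [map_mul, map_mul, map_inv, map_mul, stGenMap_fgY, stGenMap_fgX, mul_inv_eq_one]
    exact S.xy_comm a b c h hcb hca t u

/-- **the universal property of the Steinberg group of type `B_m`.** -/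
noncomputable def stLiftB {E : Type*} [Group E] (S : OB m K E) : StB m K →* E :=
  PresentedGroup.toGroup (stLiftB_rels S)

theorem stLiftB_of {E : Type*} [Group E] (S : OB m K E) (p : GenB m K) :
    stLiftB S (PresentedGroup.of p) = stGenMap S p :=
  PresentedGroup.toGroup.of (stLiftB_rels S)

theorem stLiftB_x {E : Type*} [Group E] (S : OB m K E) {a b : Idx m} (h : Rt a b) (t : K) :
    stLiftB S ((stOB m K).x a b t) = S.x a b t := by
  rw [stOB_x_of m K h, stLiftB_of]
  rfl

theorem stLiftB_y {E : Type*} [Group E] (S : OB m K E) (a : Idx m) (t : K) :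
    stLiftB S ((stOB m K).y a t) = S.y a t := by
  rw [stOB_y_of m K, stLiftB_of]
  rfl

/-- two homomorphisms from the Steinberg group agreeing on the root elements are equal. -/
theorem stB_hom_ext {E : Type*} [Group E] {f g : StB m K →* E}
    (hx : ∀ a b, Rt a b → ∀ t, f ((stOB m K).x a b t) = g ((stOB m K).x a b t))
    (hy : ∀ a t, f ((stOB m K).y a t) = g ((stOB m K).y a t)) : f = g := by
  apply PresentedGroup.ext
  rintro (⟨⟨⟨a, b⟩, hab⟩, t⟩ | ⟨a, t⟩)
  · have := hx a b hab t
    rw [stOB_x_of m K hab] at this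
    exact this
  · exact hy a t

end pres

variable {m : ℕ} {K : Type*} [Field K]

/-- a group generated by an `OB`-system (`m ≥ 3`) is perfect. -/
theorem OB.perfect_of_gensB {Γ : Type*} [Group Γ] (S : OB m K Γ) (hm : 3 ≤ m)
    (hgen : Subgroup.closure S.gensB = ⊤) : commutator Γ = ⊤ := by
  have hx : ∀ (a c : Idx m) (t : K), Rt a c → S.x a c t ∈ commutator Γ := by
    intro a c t hac
    obtain ⟨k, hk1, hk2, hk3, hk4⟩ := OD.exists_oth hm a c
    have hak : Rt a k := ⟨hk1.symm, fun e => hk3 (by rw [e, Sum.swap_swap])⟩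
    have hkc : Rt k c := ⟨hk2, hk4⟩
    have e := S.comm3 a k c hak hkc hac t 1
    rw [mul_one] at e
    rw [← e, commutator_def, ← commutatorElement_def]
    exact Subgroup.commutator_mem_commutator (Subgroup.mem_top _) (Subgroup.mem_top _)
  rw [eq_top_iff, ← hgen, Subgroup.closure_le]
  rintro _ (⟨a, c, t, hac, rfl⟩ | ⟨a, t, rfl⟩)
  · exact hx a c t hac
  · obtain ⟨b, hab⟩ := ob_exists_rt hm a
    have e := S.xy a b hab t 1
    rw [mul_one, mul_one] at e
    have e2 : S.y a t = (S.x a b t * S.y b 1 * (S.x a b t)⁻¹ * (S.y b 1)⁻¹) *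
        (S.x a b.swap t)⁻¹ := by
      rw [e, mul_assoc, mul_inv_cancel, mul_one]
    rw [SetLike.mem_coe, e2]
    refine mul_mem ?_ (inv_mem (hx a b.swap t hab.swap_right))
    rw [commutator_def, ← commutatorElement_def]
    exact Subgroup.commutator_mem_commutator (Subgroup.mem_top _) (Subgroup.mem_top _)

/-- the Steinberg group of type `B_m` is perfect (`m ≥ 3`). -/
theorem stB_perfect (hm : 3 ≤ m) : commutator (StB m K) = ⊤ :=
  (stOB m K).perfect_of_gensB hm (stOB_gens m K)

/-- the homomorphism from the Steinberg group to `GL`. -/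
noncomputable def stToGLB (m : ℕ) (K : Type*) [Field K] :
    StB m K →* Matrix.GeneralLinearGroup (IdxB m) K :=
  stLiftB (obGL m K)

/-- the homomorphism from the Steinberg group to the matrices. -/
noncomputable def stToMatB (m : ℕ) (K : Type*) [Field K] :
    StB m K →* Matrix (IdxB m) (IdxB m) K :=
  (Units.coeHom (Matrix (IdxB m) (IdxB m) K)).comp (stToGLB m K)

theorem stToMatB_apply (g : StB m K) :
    stToMatB m K g = ((stToGLB m K g : Matrix.GeneralLinearGroup (IdxB m) K) :
      Matrix (IdxB m) (IdxB m) K) := rfl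

theorem stToMatB_x {a b : Idx m} (h : Rt a b) (t : K) :
    stToMatB m K ((stOB m K).x a b t) = bX a b t := by
  rw [stToMatB_apply]
  unfold stToGLB
  rw [stLiftB_x _ h, obGL_x_val h]

theorem stToMatB_y (a : Idx m) (t : K) :
    stToMatB m K ((stOB m K).y a t) = bY a t := by
  rw [stToMatB_apply]
  unfold stToGLB
  rw [stLiftB_y, obGL_y_val]

theorem stToMatB_isMat : (stOB m K).IsMat (stToMatB m K) :=
  ⟨fun a b h t => stToMatB_x h t, fun a t => stToMatB_y a t⟩

/-- the homomorphism from the Steinberg group to `Ω_{2m+1}(K)`. -/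
noncomputable def stToOmegaB (hm : 3 ≤ m) : StB m K →* ↥(Cfsg.Omega K (Cfsg.quadFormOdd m K)) :=
  stLiftB (obOmega hm K)

theorem stToOmegaB_x (hm : 3 ≤ m) {a b : Idx m} (h : Rt a b) (t : K) :
    stToOmegaB hm ((stOB m K).x a b t) = (obOmega hm K).x a b t := stLiftB_x _ h t

theorem stToOmegaB_y (hm : 3 ≤ m) (a : Idx m) (t : K) :
    stToOmegaB hm ((stOB m K).y a t) = (obOmega hm K).y a t := stLiftB_y _ a t

theorem stToOmegaB_GL (hm : 3 ≤ m) :
    (Cfsg.isometryGroup K (Cfsg.quadFormOdd m K)).subtype.comp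
      ((Cfsg.Omega K (Cfsg.quadFormOdd m K)).subtype.comp (stToOmegaB hm)) = stToGLB m K := by
  apply stB_hom_ext
  · intro a b h t
    apply Units.ext
    have e1 : (((Cfsg.isometryGroup K (Cfsg.quadFormOdd m K)).subtype.comp
        ((Cfsg.Omega K (Cfsg.quadFormOdd m K)).subtype.comp (stToOmegaB hm)))
          ((stOB m K).x a b t) : Matrix.GeneralLinearGroup (IdxB m) K) =
        ((((stToOmegaB hm ((stOB m K).x a b t) : ↥(Cfsg.Omega K (Cfsg.quadFormOdd m K))) :
          ↥(Cfsg.isometryGroup K (Cfsg.quadFormOdd m K))) :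
            Matrix.GeneralLinearGroup (IdxB m) K)) := rfl
    rw [e1, stToOmegaB_x hm h, obOmega_x_val hm K h]
    have e2 := stToMatB_x (K := K) h t
    rw [stToMatB_apply] at e2
    exact e2.symm
  · intro a t
    apply Units.ext
    have e1 : (((Cfsg.isometryGroup K (Cfsg.quadFormOdd m K)).subtype.comp
        ((Cfsg.Omega K (Cfsg.quadFormOdd m K)).subtype.comp (stToOmegaB hm)))
          ((stOB m K).y a t) : Matrix.GeneralLinearGroup (IdxB m) K) =
        ((((stToOmegaB hm ((stOB m K).y a t) : ↥(Cfsg.Omega K (Cfsg.quadFormOdd m K))) :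
          ↥(Cfsg.isometryGroup K (Cfsg.quadFormOdd m K))) :
            Matrix.GeneralLinearGroup (IdxB m) K)) := rfl
    rw [e1, stToOmegaB_y hm, obOmega_y_val hm K]
    have e2 := stToMatB_y (K := K) a t
    rw [stToMatB_apply] at e2
    exact e2.symm

/-- the matrix of the image in `Ω_{2m+1}(K)`. -/
theorem stToOmegaB_val (hm : 3 ≤ m) (c : StB m K) :
    ((((stToOmegaB hm c : ↥(Cfsg.Omega K (Cfsg.quadFormOdd m K))) :
      ↥(Cfsg.isometryGroup K (Cfsg.quadFormOdd m K))) :
        Matrix.GeneralLinearGroup (IdxB m) K) : Matrix (IdxB m) (IdxB m) K) = stToMatB m K c := by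
  rw [stToMatB_apply, ← stToOmegaB_GL hm]
  rfl

theorem stToMatB_eq_one_iff (hm : 3 ≤ m) (g : StB m K) :
    stToMatB m K g = 1 ↔ stToOmegaB hm g = 1 := by
  rw [← stToOmegaB_val hm]
  constructor
  · intro h
    apply Subtype.ext
    apply Subtype.ext
    apply Units.ext
    exact h
  · intro h
    rw [h]
    rfl

/-- **`St(B_m, K) → Ω_{2m+1}(K)` is surjective** (finite `K`, `2 ≠ 0`; from piece P2). -/
theorem stToOmegaB_surjective [Finite K] (hm : 3 ≤ m) (h2 : (2 : K) ≠ 0) :
    Function.Surjective (stToOmegaB (K := K) hm) := by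
  have hP2 := omegaOdd_eq_closure_of_finite (K := K) hm h2
  -- the image of the range in `GL`
  have hle : (Cfsg.Omega K (Cfsg.quadFormOdd m K)).map
      (Cfsg.isometryGroup K (Cfsg.quadFormOdd m K)).subtype ≤ (stToGLB m K).range := by
    rw [hP2, Subgroup.closure_le]
    rintro g (⟨a, b, t, hab, hg⟩ | ⟨a, t, hg⟩)
    · refine ⟨(stOB m K).x a b t, ?_⟩
      apply Units.ext
      rw [hg, ← stToMatB_x hab t, stToMatB_apply]
    · refine ⟨(stOB m K).y a t, ?_⟩
      apply Units.ext
      rw [hg, ← stToMatB_y a t, stToMatB_apply]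
  intro ω
  have h1 : ((ω : ↥(Cfsg.isometryGroup K (Cfsg.quadFormOdd m K))) :
      Matrix.GeneralLinearGroup (IdxB m) K) ∈ (stToGLB m K).range :=
    hle ⟨ω.1, ω.2, rfl⟩
  obtain ⟨c, hc⟩ := h1
  refine ⟨c, ?_⟩
  apply Subtype.ext
  apply Subtype.ext
  rw [← hc, ← stToOmegaB_GL hm]
  rfl

/-- **a central extension of the Steinberg group in which the root elements lift to an `OB`-system
splits.** -/
theorem stB_split_of_lift {E : Type*} [Group E] (ψ : E →* StB m K) (SE : OB m K E)
    (hx : ∀ a b, Rt a b → ∀ t, ψ (SE.x a b t) = (stOB m K).x a b t)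
    (hy : ∀ a t, ψ (SE.y a t) = (stOB m K).y a t) :
    ∃ τ : StB m K →* E, ψ.comp τ = MonoidHom.id _ := by
  refine ⟨stLiftB SE, ?_⟩
  apply stB_hom_ext
  · intro a b h t
    rw [MonoidHom.comp_apply, stLiftB_x SE h, hx a b h, MonoidHom.id_apply]
  · intro a t
    rw [MonoidHom.comp_apply, stLiftB_y SE, hy a t, MonoidHom.id_apply]

/-- the Steinberg group over a finite field is finite, given that the kernel of the map to `Ω` is
central (`m ≥ 3`). -/
theorem stB_finite_of [Finite K] (hm : 3 ≤ m)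
    (hcen : (stToOmegaB (K := K) hm).ker ≤ Subgroup.center (StB m K)) : Finite (StB m K) := by
  have : Fintype K := Fintype.ofFinite K
  have hfin : Finite ↥(Cfsg.Omega K (Cfsg.quadFormOdd m K)) := inferInstance
  exact finite_of_central_of_perfect (stToOmegaB hm) hcen (stB_perfect hm)

end Cfsg.Agent.CtRecB
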