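import Mathlib
import Cfsg.Agent.CtRecB.ObH
import Cfsg.Agent.CtRecB.ObG
import Cfsg.Agent.CtRecD.SchTg

set_option autoImplicit false
set_option linter.unusedSectionVars false
set_option linter.unusedVariables false

/-!
# S2094, piece P12: the kernel of the homomorphism to the matrices, type `B_m` (helper3)

An element with matrix `1` is central and lies in `W̃_B` (piece P8), hence in `H̃_B` (piece P11), which is the torus
of the long-root subsystem (piece P10); there `CtRecD/SchTg.lean` applies: the element is `1` or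
`h_{e_p - e_q}(-1) h_{e_p + e_q}(-1) = h_a(-1)`.  Pieces P4, P8, P11 enter as hypotheses.
-/

namespace Cfsg.Agent.CtRecB

open Matrix Cfsg.Agent.CtRecD

variable {m : ℕ} {K : Type*} [Field K] {Γ : Type*} [Group Γ] (S : OB m K Γ)

/-- the diagonal matrices `1 ⊕ diag(d)`. -/
def p12_D : (Idx m → K) →* Matrix (IdxB m) (IdxB m) K where
  toFun d := Matrix.diagonal (Sum.elim (fun _ => (1 : K)) d)
  map_one' := by
    rw [← Matrix.diagonal_one]
    congr 1
    funext i
    rcases i with i | i <;> rfl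
  map_mul' d e := by
    rw [Matrix.diagonal_mul_diagonal]
    congr 1
    funext i
    rcases i with i | i
    · simp
    · rfl

theorem p12_D_apply (d : Idx m → K) :
    p12_D d = Matrix.diagonal (Sum.elim (fun _ => (1 : K)) d) := rfl

theorem p12_D_inj : Function.Injective (p12_D : (Idx m → K) →* Matrix (IdxB m) (IdxB m) K) := by
  intro d e h
  rw [p12_D_apply, p12_D_apply] at h
  have h2 := Matrix.diagonal_injective h
  funext i
  exact congrFun h2 (Sum.inr i)

namespace OB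

/-- the `MonB`-property only depends on the conjugation. -/
theorem MonB.of_conj_eq {g g' : Γ} {σ : Equiv.Perm (Idx m)} {a : Idx m → K} {ε : K}
    (h : S.MonB g σ a ε) (hc : ∀ x : Γ, MulAut.conj g' x = MulAut.conj g x) : S.MonB g' σ a ε :=
  ⟨h.1, h.2.1, h.2.2.1, h.2.2.2.1, fun i j hij c => by rw [hc]; exact h.2.2.2.2.1 i j hij c,
    fun i c => by rw [hc]; exact h.2.2.2.2.2 i c⟩

/-- `h_ā(-1) = h_a(-1)` (given piece P4). -/
theorem hs_swap_neg_one_of (H : S.P4Hyp) (a : Idx m) : S.hs a.swap (-1) = S.hs a (-1) := by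
  have hm1 : (-1 : K) ≠ 0 := neg_ne_zero.mpr one_ne_zero
  unfold hs
  rw [S.ws_swap_of H a hm1, inv_neg, inv_one]

section ker

variable [Finite K] (hm : 3 ≤ m) (h2 : (2 : K) ≠ 0) (hgen : Subgroup.closure S.gensB = ⊤)
  (φ : Γ →* Matrix (IdxB m) (IdxB m) K) (hφ : S.IsMat φ) (H : S.P4Hyp)

include hm hφ H in
/-- the matrix of `h_a(-1)` is `1`. -/
theorem phi_hs_neg_one_of (a : Idx m) : φ (S.hs a (-1)) = 1 := by
  have hm1 : (-1 : K) ≠ 0 := neg_ne_zero.mpr one_ne_zero
  rw [S.phi_hs_of hm H φ hφ a hm1, ← Matrix.diagonal_one]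
  congr 1
  funext i
  rcases i with i | i
  · rfl
  · show hDs a (-1) i = 1
    unfold hDs
    split_ifs
    · rw [neg_mul_neg, one_mul]
    · rw [inv_neg, inv_one, neg_mul_neg, one_mul]
    · rfl

include hm hφ H in
/-- the element `zD p q` of the long-root subsystem is `h_a(-1)`, `a = inl p`. -/
theorem zD_eq_hs_of {p q : Fin m} (hpq : p ≠ q) :
    S.toOD.zD p q = S.hs (Sum.inl p) (-1) := by
  have hm1 : (-1 : K) ≠ 0 := neg_ne_zero.mpr one_ne_zero
  rw [S.hs_eq_of hm H (OD.s5_rt_ll hpq) hm1]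
  rfl

include hm h2 hgen hφ H in
/-- **the elements with matrix `1` are `1` and `h_a(-1)`** (given pieces P4, P8, P11). -/
theorem ker_cases_B_of
    (hP8 : ∀ c : Γ, φ c = 1 → c ∈ S.WtB ∧ ∀ g, g * c = c * g)
    (hP11 : ∀ g : Γ, g ∈ S.WtB → ∃ (σ : Equiv.Perm (Idx m)) (a : Idx m → K) (ε : K),
      S.MonB g σ a ε ∧ (σ = 1 → g ∈ S.HtB))
    (a : Idx m) {c : Γ} (hc : φ c = 1) : c = 1 ∨ c = S.hs a (-1) := by
  obtain ⟨hcW, hcen⟩ := hP8 c hc
  obtain ⟨σ, a', ε, hM, hσ⟩ := hP11 c hcW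
  have hc' : ∀ y, c * y * c⁻¹ = y := fun y => by rw [← hcen y, mul_inv_cancel_right]
  have hM1 : S.MonB 1 σ a' ε := by
    refine hM.of_conj_eq S ?_
    intro x
    rw [map_one, MulAut.one_apply, MulAut.conj_apply, hc']
  obtain ⟨_, _, hσ1, _, _⟩ := S.monB_ker_of_diag hm h2 hgen φ hφ hM1
    (fun i => by rw [map_one, Matrix.one_apply_eq])
  have hcH : c ∈ S.HtB := hσ (Equiv.ext hσ1)
  rw [S.HtB_eq_of hm H] at hcH
  have hC : ∀ k l : Idx m, Rt k l → ∀ t u : K, t ≠ 0 → u ≠ 0 →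
      S.h k l t * S.h k l u = S.h k l (t * u) :=
    fun k l hkl t u ht hu => S.toOD.h_mul_of_finite hm hkl ht hu
  -- the index `p` of `a`, and another index `q`
  have key : ∀ p : Fin m, c = 1 ∨ c = S.hs (Sum.inl p) (-1) := by
    intro p
    obtain ⟨q, hpq⟩ : ∃ q : Fin m, p ≠ q := by
      by_cases h0 : p.val = 0
      · exact ⟨⟨1, by omega⟩, fun e => by rw [e] at h0; simp at h0⟩
      · exact ⟨⟨0, by omega⟩, fun e => h0 (by rw [e])⟩
    have h := S.toOD.Ht_ker_cases' hC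
      (fun a b k l hab hkl t u ht hu => S.toOD.h_comm hm hC hab hkl ht hu)
      (fun k l hkl t ht => S.toOD.h_swap hm hC hkl ht)
      (fun k l hkl t ht => S.toOD.h_bar hC hkl ht)
      (fun k ν l h1 h2 h3 t ht => S.toOD.h_split hm hC h1 h2 h3 ht)
      φ p12_D (fun k l hkl t ht => S.phi_h_B hm φ hφ hkl ht) p12_D_inj hpq hcH hc
    rw [S.zD_eq_hs_of hm φ hφ H hpq] at h
    exact h
  rcases a with p | p
  · exact key p
  · have e := S.hs_swap_neg_one_of H (Sum.inl p)
    rw [Sum.swap_inl] at e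
    rw [e]
    exact key p

include hm h2 hgen hφ H in
/-- `h_a(-1)` does not depend on `a` (given pieces P4, P8, P11). -/
theorem hs_neg_one_eq_of
    (hP8 : ∀ c : Γ, φ c = 1 → c ∈ S.WtB ∧ ∀ g, g * c = c * g)
    (hP11 : ∀ g : Γ, g ∈ S.WtB → ∃ (σ : Equiv.Perm (Idx m)) (a : Idx m → K) (ε : K),
      S.MonB g σ a ε ∧ (σ = 1 → g ∈ S.HtB))
    (a b : Idx m) : S.hs a (-1) = S.hs b (-1) := by
  have h1 := S.ker_cases_B_of hm h2 hgen φ hφ H hP8 hP11 a (S.phi_hs_neg_one_of hm φ hφ H b)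
  have h2' := S.ker_cases_B_of hm h2 hgen φ hφ H hP8 hP11 b (S.phi_hs_neg_one_of hm φ hφ H a)
  rcases h1 with h1 | h1
  · rcases h2' with h2' | h2'
    · rw [h1, h2']
    · exact h2'
  · exact h1.symm

end ker

end OB

end Cfsg.Agent.CtRecB
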