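import Mathlib
import Cfsg.Agent.CtRecD.SchWa
import Cfsg.Agent.CtRecD.SchH
import Cfsg.Agent.CtRecB.ObC

set_option autoImplicit false
set_option linter.unusedSectionVars false
set_option linter.unusedVariables false

/-!
# S2094, piece P11 (helper1): coset enumeration in a group generated by reflections of type `B`

Abstract part: a group `Q` with reflections `r a b` (`Rt a b`, the long roots) as in `WDRel` of `CtRecD/SchWa.lean` and
reflections `t a` (the short roots), with the relations of the Weyl group of type `B_m` (all signed permutations).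
The chain of subgroups `wbQ r t k` has the coset representatives `wbRho`: `1`, `t p`, `r p x`.
Concrete part: `W̃_B / H̃_B` of a system `S : OB m K Γ`, with the two facts `monB_w`, `monB_ws` as hypotheses.
-/

namespace Cfsg.Agent.CtRecB

open Cfsg.Agent.CtRecD

variable {n : ℕ}

theorem p11_sB_self (a : Idx n) : OB.sB a a = a.swap := Equiv.swap_apply_left a a.swap

theorem p11_sB_bar (a : Idx n) : OB.sB a a.swap = a := Equiv.swap_apply_right a a.swap

theorem p11_sB_of_ne {a x : Idx n} (h1 : x ≠ a) (h2 : x ≠ a.swap) : OB.sB a x = x :=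
  Equiv.swap_apply_of_ne_of_ne h1 h2

theorem p11_sB_of_wdC {a x : Idx n} (h : wdC x ≠ wdC a) : OB.sB a x = x :=
  p11_sB_of_ne (fun e => h (by rw [e])) (fun e => h (by rw [e, wdC_swap]))

theorem p11_wdC_sB (a x : Idx n) : wdC (OB.sB a x) = wdC x := by
  by_cases h1 : x = a
  · rw [h1, p11_sB_self, wdC_swap]
  by_cases h2 : x = a.swap
  · rw [h2, p11_sB_bar, wdC_swap]
  rw [p11_sB_of_ne h1 h2]

theorem p11_sB_swap (a x : Idx n) : OB.sB a x.swap = (OB.sB a x).swap := by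
  by_cases h1 : x = a
  · rw [h1, p11_sB_self, p11_sB_bar, Sum.swap_swap]
  by_cases h2 : x = a.swap
  · rw [h2, p11_sB_bar, Sum.swap_swap, p11_sB_self]
  rw [p11_sB_of_ne h1 h2, p11_sB_of_ne]
  · intro e
    exact h2 (by rw [← e, Sum.swap_swap])
  · intro e
    exact h1 (Cfsg.Agent.CtRecD.swap_inj.mp e)

section abstract

variable {Q : Type*} [Group Q] (r : Idx n → Idx n → Q) (t : Idx n → Q)

/-- the subgroup generated by the reflections whose coordinates are at least `k`. -/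
def wbQ (k : ℕ) : Subgroup Q :=
  Subgroup.closure ({q | ∃ a b : Idx n, Rt a b ∧ k ≤ wdC a ∧ k ≤ wdC b ∧ q = r a b} ∪
    {q | ∃ a : Idx n, k ≤ wdC a ∧ q = t a})

theorem wbQ_mem_r {k : ℕ} {a b : Idx n} (hab : Rt a b) (ha : k ≤ wdC a) (hb : k ≤ wdC b) :
    r a b ∈ wbQ r t k :=
  Subgroup.subset_closure (Or.inl ⟨a, b, hab, ha, hb, rfl⟩)

theorem wbQ_mem_t {k : ℕ} {a : Idx n} (ha : k ≤ wdC a) : t a ∈ wbQ r t k :=
  Subgroup.subset_closure (Or.inr ⟨a, ha, rfl⟩)

theorem wbQ_eq_bot {k : ℕ} (hk : n ≤ k) : wbQ r t k = ⊥ := by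
  rw [eq_bot_iff]
  unfold wbQ
  rw [Subgroup.closure_le]
  rintro _ (⟨a, b, hab, ha, hb, rfl⟩ | ⟨a, ha, rfl⟩)
  · exfalso
    have h1 := wdC_lt a
    omega
  · exfalso
    have h1 := wdC_lt a
    omega

/-- the relations among the reflections of type `B`. -/
structure WBRel : Prop where
  toD : WDRel r
  tsq : ∀ a, t a * t a = 1
  tbar : ∀ a, t a.swap = t a
  rt : ∀ a b c, Rt a b → r a b * t c * r a b = t (sD a b c)
  tr : ∀ a c d, Rt c d → t a * r c d * t a = r (OB.sB a c) (OB.sB a d)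
  tt : ∀ a c, t a * t c * t a = t (OB.sB a c)

/-- the coset representatives of `wbQ r t (k+1)` in `wbQ r t k`; `p` is an index with the coordinate `k`. -/
def wbRho (p x : Idx n) : Q :=
  if x = p then 1 else if x = p.swap then t p else r p x

theorem wbRho_p (p : Idx n) : wbRho r t p p = 1 := by
  unfold wbRho
  rw [if_pos rfl]

theorem wbRho_pbar (p : Idx n) : wbRho r t p p.swap = t p := by
  unfold wbRho
  rw [if_neg (Cfsg.Agent.CtRecD.ne_swap p).symm, if_pos rfl]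

theorem wbRho_of_lt {p x : Idx n} (h : wdC p < wdC x) : wbRho r t p x = r p x := by
  unfold wbRho
  rw [if_neg, if_neg]
  · intro e
    rw [e, wdC_swap] at h
    exact lt_irrefl _ h
  · intro e
    rw [e] at h
    exact lt_irrefl _ h

variable {r t}

theorem WBRel.tinv (H : WBRel r t) (a : Idx n) : (t a)⁻¹ = t a :=
  inv_eq_of_mul_eq_one_right (H.tsq a)

/-- `r p y * r p ȳ = t p * t y`. -/
theorem WBRel.double (H : WBRel r t) {p y : Idx n} (hpy : Rt p y) :
    r p y * r p y.swap = t p * t y := by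
  have hyp : y ≠ p := fun e => hpy.1 e.symm
  have hyp' : p ≠ y.swap := hpy.2
  have e1 : t y * r p y * t y = r p y.swap := by
    rw [H.tr y p y hpy, p11_sB_self, p11_sB_of_ne hpy.1 hpy.2]
  have e2 : r p y * t y * r p y = t p := by
    rw [H.rt p y y hpy, sD_l hpy]
  calc r p y * r p y.swap = r p y * (t y * r p y * t y) := by rw [e1]
    _ = (r p y * t y * r p y) * t y := by simp only [mul_assoc]
    _ = t p * t y := by rw [e2]

theorem WBRel.tcomm (H : WBRel r t) {a c : Idx n} (h1 : c ≠ a) (h2 : c ≠ a.swap) :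
    t a * t c = t c * t a := by
  have e := H.tt a c
  rw [p11_sB_of_ne h1 h2] at e
  calc t a * t c = t a * t c * (t a * t a) := by rw [H.tsq a, mul_one]
    _ = (t a * t c * t a) * t a := by simp only [mul_assoc]
    _ = t c * t a := by rw [e]

/-- the Schreier generators for a long reflection. -/
theorem WBRel.schreier_r (H : WBRel r t) {k : ℕ} {p : Idx n} (hp : wdC p = k)
    {a b : Idx n} (hab : Rt a b) (ha : k ≤ wdC a) (hb : k ≤ wdC b) {x : Idx n} (hx : k ≤ wdC x) :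
    ∃ x' : Idx n, k ≤ wdC x' ∧
      (wbRho r t p x')⁻¹ * (r a b * wbRho r t p x) ∈ wbQ r t (k + 1) := by
  have HD := H.toD
  have hxcase : x ≠ p → x ≠ p.swap → k + 1 ≤ wdC x := by
    intro hx1 hx2
    by_contra hcon
    have : wdC x = wdC p := by omega
    rcases wdC_eq this with e | e
    · exact hx1 e
    · exact hx2 e
  by_cases hin : k + 1 ≤ wdC a ∧ k + 1 ≤ wdC b
  · obtain ⟨ha', hb'⟩ := hin
    have hs : r a b ∈ wbQ r t (k + 1) := wbQ_mem_r r t hab ha' hb'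
    have hpOth : Oth a b p := wd_oth_of_ne (by omega) (by omega)
    by_cases hx1 : x = p
    · refine ⟨p, by omega, ?_⟩
      rw [hx1, wbRho_p, inv_one, one_mul, mul_one]
      exact hs
    by_cases hx2 : x = p.swap
    · refine ⟨p.swap, by rw [wdC_swap]; omega, ?_⟩
      rw [hx2, wbRho_pbar, H.tinv p, ← mul_assoc, H.tr p a b hab,
        p11_sB_of_wdC (by omega), p11_sB_of_wdC (by omega)]
      exact hs
    · have hxc := hxcase hx1 hx2
      have hx'c := wdC_sD_ge hab ha' hb' hxc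
      refine ⟨sD a b x, by omega, ?_⟩
      rw [wbRho_of_lt r t (by omega), wbRho_of_lt r t (by omega)]
      have hpx : Rt p x := wd_rt_of_ne (by omega)
      have e1 : r a b * r p x * (r a b)⁻¹ = r p (sD a b x) := by
        rw [HD.inv_eq hab, HD.conj a b p x hab hpx, sD_oth hpOth]
      have e3 : (r p (sD a b x))⁻¹ * (r a b * r p x) = r a b := by
        rw [← e1]
        group
      rw [e3]
      exact hs
  · obtain ⟨y, hyc, hy⟩ := HD.normalize hp hab ha hb hin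
    rw [hy]
    have hpy : Rt p y := wd_rt_of_ne (by omega)
    have hpyb : Rt p y.swap := hpy.swap_right
    have hty : t y ∈ wbQ r t (k + 1) := wbQ_mem_t r t hyc
    by_cases hx1 : x = p
    · refine ⟨y, by omega, ?_⟩
      rw [hx1, wbRho_p, mul_one, wbRho_of_lt r t (by omega), inv_mul_cancel]
      exact one_mem _
    by_cases hx2 : x = p.swap
    · refine ⟨y.swap, by rw [wdC_swap]; omega, ?_⟩
      rw [hx2, wbRho_pbar, wbRho_of_lt r t (by rw [wdC_swap]; omega)]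
      have e : (r p y.swap)⁻¹ * (r p y * t p) = t y := by
        have h1 : (r p y.swap)⁻¹ * r p y = (r p y * r p y.swap)⁻¹ := by
          rw [mul_inv_rev, HD.inv_eq hpy]
        calc (r p y.swap)⁻¹ * (r p y * t p) = ((r p y.swap)⁻¹ * r p y) * t p := by
              simp only [mul_assoc]
          _ = (t p * t y)⁻¹ * t p := by rw [h1, H.double hpy]
          _ = t y * (t p * t p) := by rw [mul_inv_rev, H.tinv, H.tinv]; simp only [mul_assoc]
          _ = t y := by rw [H.tsq, mul_one]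
      rw [e]
      exact hty
    by_cases hx3 : x = y
    · refine ⟨p, by omega, ?_⟩
      rw [hx3, wbRho_p, wbRho_of_lt r t (by omega), inv_one, one_mul, HD.sq p y hpy]
      exact one_mem _
    by_cases hx4 : x = y.swap
    · refine ⟨p.swap, by rw [wdC_swap]; omega, ?_⟩
      rw [hx4, wbRho_pbar, wbRho_of_lt r t (by rw [wdC_swap]; omega), H.double hpy, H.tinv,
        ← mul_assoc, H.tsq, one_mul]
      exact hty
    · have hxc := hxcase hx1 hx2
      refine ⟨x, hx, ?_⟩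
      rw [wbRho_of_lt r t (by omega)]
      have hpx : Rt p x := wd_rt_of_ne (by omega)
      have hxy : Rt x y := ⟨hx3, hx4⟩
      have hyp : wdC y ≠ wdC p := by omega
      have hyOth : Oth p x y :=
        ⟨fun e => hyp (by rw [e]), fun e => hx3 e.symm, fun e => hyp (by rw [e, wdC_swap]),
          fun e => hx4 (by rw [e, Sum.swap_swap])⟩
      have e : (r p x)⁻¹ * (r p y * r p x) = r x y := by
        rw [HD.inv_eq hpx, ← mul_assoc, HD.conj p x p y hpx hpy, sD_k hpx, sD_oth hyOth]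
      rw [e]
      exact wbQ_mem_r r t hxy hxc hyc

/-- the Schreier generators for a short reflection. -/
theorem WBRel.schreier_t (H : WBRel r t) {k : ℕ} {p : Idx n} (hp : wdC p = k)
    {a : Idx n} (ha : k ≤ wdC a) {x : Idx n} (hx : k ≤ wdC x) :
    ∃ x' : Idx n, k ≤ wdC x' ∧
      (wbRho r t p x')⁻¹ * (t a * wbRho r t p x) ∈ wbQ r t (k + 1) := by
  have HD := H.toD
  have hxcase : x ≠ p → x ≠ p.swap → k + 1 ≤ wdC x := by
    intro hx1 hx2
    by_contra hcon
    have : wdC x = wdC p := by omega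
    rcases wdC_eq this with e | e
    · exact hx1 e
    · exact hx2 e
  by_cases hin : k + 1 ≤ wdC a
  · have hta : t a ∈ wbQ r t (k + 1) := wbQ_mem_t r t hin
    by_cases hx1 : x = p
    · refine ⟨p, by omega, ?_⟩
      rw [hx1, wbRho_p, inv_one, one_mul, mul_one]
      exact hta
    by_cases hx2 : x = p.swap
    · refine ⟨p.swap, by rw [wdC_swap]; omega, ?_⟩
      rw [hx2, wbRho_pbar, H.tinv p, ← mul_assoc, H.tt p a, p11_sB_of_wdC (by omega)]
      exact hta
    · have hxc := hxcase hx1 hx2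
      refine ⟨OB.sB a x, by rw [p11_wdC_sB]; exact hx, ?_⟩
      rw [wbRho_of_lt r t (x := OB.sB a x) (by rw [p11_wdC_sB]; omega), wbRho_of_lt r t (x := x) (by omega)]
      have hpx : Rt p x := wd_rt_of_ne (by omega)
      have e1 : t a * r p x * (t a)⁻¹ = r p (OB.sB a x) := by
        rw [H.tinv, H.tr a p x hpx, p11_sB_of_wdC (by omega)]
      have e3 : (r p (OB.sB a x))⁻¹ * (t a * r p x) = t a := by
        rw [← e1]
        group
      rw [e3]
      exact hta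
  · have hca : wdC a = wdC p := by omega
    have hta : t a = t p := by
      rcases wdC_eq hca with e | e
      · rw [e]
      · rw [e, H.tbar]
    rw [hta]
    by_cases hx1 : x = p
    · refine ⟨p.swap, by rw [wdC_swap]; omega, ?_⟩
      rw [hx1, wbRho_p, mul_one, wbRho_pbar, inv_mul_cancel]
      exact one_mem _
    by_cases hx2 : x = p.swap
    · refine ⟨p, by omega, ?_⟩
      rw [hx2, wbRho_p, wbRho_pbar, inv_one, one_mul, H.tsq]
      exact one_mem _
    · have hxc := hxcase hx1 hx2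
      refine ⟨x, hx, ?_⟩
      rw [wbRho_of_lt r t (by omega)]
      have hpx : Rt p x := wd_rt_of_ne (by omega)
      have e : (r p x)⁻¹ * (t p * r p x) = t x := by
        rw [HD.inv_eq hpx, ← mul_assoc, H.rt p x p hpx, sD_k hpx]
      rw [e]
      exact wbQ_mem_t r t hxc

/-- **the coset representatives.** -/
theorem WBRel.step (H : WBRel r t) {k : ℕ} {p : Idx n} (hp : wdC p = k) {q : Q}
    (hq : q ∈ wbQ r t k) : ∃ x : Idx n, k ≤ wdC x ∧ (wbRho r t p x)⁻¹ * q ∈ wbQ r t (k + 1) := by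
  unfold wbQ at hq
  induction hq using Subgroup.closure_induction_left with
  | one =>
    refine ⟨p, by omega, ?_⟩
    rw [wbRho_p, inv_one, one_mul]
    exact one_mem _
  | mul_left s hs y hy ih =>
    obtain ⟨x, hx, hxm⟩ := ih
    have key : ∃ x' : Idx n, k ≤ wdC x' ∧
        (wbRho r t p x')⁻¹ * (s * wbRho r t p x) ∈ wbQ r t (k + 1) := by
      rcases hs with ⟨a, b, hab, ha, hb, rfl⟩ | ⟨a, ha, rfl⟩
      · exact H.schreier_r hp hab ha hb hx
      · exact H.schreier_t hp ha hx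
    obtain ⟨x', hx', hm⟩ := key
    refine ⟨x', hx', ?_⟩
    have e : (wbRho r t p x')⁻¹ * (s * y) =
        ((wbRho r t p x')⁻¹ * (s * wbRho r t p x)) * ((wbRho r t p x)⁻¹ * y) := by group
    rw [e]
    exact mul_mem hm hxm
  | inv_mul_cancel s hs y hy ih =>
    obtain ⟨x, hx, hxm⟩ := ih
    have hsi : s⁻¹ = s := by
      rcases hs with ⟨a, b, hab, ha, hb, rfl⟩ | ⟨a, ha, rfl⟩
      · exact H.toD.inv_eq hab
      · exact H.tinv a
    have key : ∃ x' : Idx n, k ≤ wdC x' ∧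
        (wbRho r t p x')⁻¹ * (s * wbRho r t p x) ∈ wbQ r t (k + 1) := by
      rcases hs with ⟨a, b, hab, ha, hb, rfl⟩ | ⟨a, ha, rfl⟩
      · exact H.schreier_r hp hab ha hb hx
      · exact H.schreier_t hp ha hx
    obtain ⟨x', hx', hm⟩ := key
    refine ⟨x', hx', ?_⟩
    have e : (wbRho r t p x')⁻¹ * (s⁻¹ * y) =
        ((wbRho r t p x')⁻¹ * (s * wbRho r t p x)) * ((wbRho r t p x)⁻¹ * y) := by
      rw [hsi]
      group
    rw [e]
    exact mul_mem hm hxm

end abstract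

section concrete

variable {K : Type*} [Field K] {Γ : Type*} [Group Γ] (S : OB n K Γ)

namespace OB

/-! ### `H̃_B` -/

theorem p11_HtB_le_WtB : S.HtB ≤ S.WtB := by
  unfold HtB
  rw [Subgroup.closure_le]
  rintro _ (⟨k, l, u, hkl, hu, rfl⟩ | ⟨a, u, hu, rfl⟩)
  · unfold OD.h
    exact mul_mem (S.w_mem_WtB hkl hu) (S.w_mem_WtB hkl (neg_ne_zero.mpr one_ne_zero))
  · unfold hs
    exact mul_mem (S.ws_mem_WtB a hu) (S.ws_mem_WtB a (neg_ne_zero.mpr one_ne_zero))

/-- the elements of `H̃_B` act monomially with trivial permutation. -/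
theorem p11_exists_monB_of_mem_HtB (hn : 3 ≤ n) (H : S.P4Hyp) {g : Γ} (hg : g ∈ S.HtB) :
    ∃ (a : Idx n → K) (ε : K), S.MonB g 1 a ε := by
  have hm1 : (-1 : K) ≠ 0 := neg_ne_zero.mpr one_ne_zero
  unfold HtB at hg
  induction hg using Subgroup.closure_induction with
  | mem x hx =>
    rcases hx with ⟨k, l, u, hkl, hu, rfl⟩ | ⟨a, u, hu, rfl⟩
    · have h1 := (S.monB_w_of hn H hkl hu).mul (S.monB_w_of hn H hkl hm1)
      exact ⟨_, _, h1.congr (s3_sD_sq hkl) (fun _ => rfl) rfl⟩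
    · have h1 := (S.monB_ws_of H a hu).mul (S.monB_ws_of H a hm1)
      exact ⟨_, _, h1.congr (Equiv.swap_mul_self _ _) (fun _ => rfl) rfl⟩
  | one => exact ⟨_, _, S.monB_one⟩
  | mul x y _ _ ihx ihy =>
    obtain ⟨a, ε, ha⟩ := ihx
    obtain ⟨b, ε', hb⟩ := ihy
    exact ⟨_, _, (ha.mul hb).congr (mul_one 1) (fun _ => rfl) rfl⟩
  | inv x _ ih =>
    obtain ⟨a, ε, ha⟩ := ih
    exact ⟨_, _, ha.inv.congr inv_one (fun _ => rfl) rfl⟩

/-- `w_b(v) w_b(-c) = h_b(v) h_b(c)⁻¹`. -/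
theorem p11_ws_mul_ws (b : Idx n) (v c : K) :
    S.ws b v * S.ws b (-c) = S.hs b v * (S.hs b c)⁻¹ := by
  rw [← S.ws_inv b c, S.ws_eq_hs_mul b v, S.ws_eq_hs_mul b c, mul_inv_rev]
  group

/-- `W̃_B` normalises `H̃_B`. -/
theorem p11_HtB_conj_mem (hn : 3 ≤ n) (H : S.P4Hyp) {g h : Γ} (hg : g ∈ S.WtB) (hh : h ∈ S.HtB) :
    g * h * g⁻¹ ∈ S.HtB := by
  obtain ⟨σ, a, ε, hM⟩ := S.exists_monB_of_mem_WtB_of hn H hg
  unfold HtB at hh
  induction hh using Subgroup.closure_induction with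
  | mem x hx =>
    rcases hx with ⟨k, l, u, hkl, hu, rfl⟩ | ⟨b, u, hu, rfl⟩
    · have e := (OB.MonB.toMon S hM).conj_h S.toOD hkl hu
      rw [MulAut.conj_apply] at e
      rw [e]
      have hr := hM.rt hkl
      have hc : a k * (a l)⁻¹ ≠ 0 := mul_ne_zero (hM.1 k) (inv_ne_zero (hM.1 l))
      exact mul_mem (S.h_mem_HtB hr (mul_ne_zero hc hu)) (inv_mem (S.h_mem_HtB hr hc))
    · have e := hM.conj_hs b hu
      rw [MulAut.conj_apply] at e
      rw [e, S.p11_ws_mul_ws]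
      have hc : ε * a b ≠ 0 := mul_ne_zero hM.eps_ne_zero (hM.1 b)
      exact mul_mem (S.hs_mem_HtB _ (mul_ne_zero hc hu)) (inv_mem (S.hs_mem_HtB _ hc))
  | one =>
    rw [mul_one, mul_inv_cancel]
    exact one_mem _
  | mul x y _ _ ihx ihy =>
    have : g * (x * y) * g⁻¹ = (g * x * g⁻¹) * (g * y * g⁻¹) := by group
    rw [this]
    exact mul_mem ihx ihy
  | inv x _ ih =>
    have : g * x⁻¹ * g⁻¹ = (g * x * g⁻¹)⁻¹ := by group
    rw [this]
    exact inv_mem ih

/-! ### the quotient `W̃_B / H̃_B` -/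

/-- the subgroup of `W̃_B` corresponding to `H̃_B`. -/
def wbHtW : Subgroup S.WtB := S.HtB.subgroupOf S.WtB

theorem wbHtW_normal (hconj : ∀ g ∈ S.WtB, ∀ h ∈ S.HtB, g * h * g⁻¹ ∈ S.HtB) : (S.wbHtW).Normal := by
  constructor
  intro h hh g
  unfold wbHtW at hh ⊢
  rw [Subgroup.mem_subgroupOf] at hh ⊢
  have := hconj g.1 g.2 h.1 hh
  simpa using this

variable [hN : (S.wbHtW).Normal]

open Classical in
/-- the class of an element of `W̃_B` modulo `H̃_B` (and `1` outside `W̃_B`). -/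
noncomputable def wbMk (g : Γ) : S.WtB ⧸ S.wbHtW :=
  if h : g ∈ S.WtB then QuotientGroup.mk ⟨g, h⟩ else 1

theorem wbMk_of_mem {g : Γ} (hg : g ∈ S.WtB) :
    S.wbMk g = (QuotientGroup.mk (⟨g, hg⟩ : S.WtB) : S.WtB ⧸ S.wbHtW) := by
  unfold wbMk
  rw [dif_pos hg]

theorem wbMk_one : S.wbMk 1 = 1 := by
  rw [S.wbMk_of_mem (one_mem _)]
  rfl

theorem wbMk_mul {g g' : Γ} (hg : g ∈ S.WtB) (hg' : g' ∈ S.WtB) :
    S.wbMk (g * g') = S.wbMk g * S.wbMk g' := by
  rw [S.wbMk_of_mem hg, S.wbMk_of_mem hg', S.wbMk_of_mem (mul_mem hg hg'), ← QuotientGroup.mk_mul]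
  rfl

theorem wbMk_inv {g : Γ} (hg : g ∈ S.WtB) : S.wbMk g⁻¹ = (S.wbMk g)⁻¹ := by
  rw [S.wbMk_of_mem hg, S.wbMk_of_mem (inv_mem hg), ← QuotientGroup.mk_inv]
  rfl

theorem wbMk_eq_one_iff {g : Γ} (hg : g ∈ S.WtB) : S.wbMk g = 1 ↔ g ∈ S.HtB := by
  rw [S.wbMk_of_mem hg, QuotientGroup.eq_one_iff]
  unfold wbHtW
  rw [Subgroup.mem_subgroupOf]

theorem wbMk_conj {g g' : Γ} (hg : g ∈ S.WtB) (hg' : g' ∈ S.WtB) :
    S.wbMk (g * g' * g⁻¹) = S.wbMk g * S.wbMk g' * (S.wbMk g)⁻¹ := by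
  rw [S.wbMk_mul (mul_mem hg hg') (inv_mem hg), S.wbMk_mul hg hg', S.wbMk_inv hg]

/-- the classes of the reflections in the long roots. -/
noncomputable def wbR (a b : Idx n) : S.WtB ⧸ S.wbHtW := S.wbMk (S.w a b 1)

/-- the classes of the reflections in the short roots. -/
noncomputable def wbT (a : Idx n) : S.WtB ⧸ S.wbHtW := S.wbMk (S.ws a 1)

theorem wbMk_w {a b : Idx n} (hab : Rt a b) {u : K} (hu : u ≠ 0) : S.wbMk (S.w a b u) = S.wbR a b := by
  unfold wbR
  have hh := S.h_mem_HtB hab hu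
  rw [S.toOD.w_eq_h_mul hab u, S.wbMk_mul (S.p11_HtB_le_WtB hh) (S.w_mem_WtB hab one_ne_zero),
    (S.wbMk_eq_one_iff (S.p11_HtB_le_WtB hh)).mpr hh, one_mul]

theorem wbMk_ws (a : Idx n) {u : K} (hu : u ≠ 0) : S.wbMk (S.ws a u) = S.wbT a := by
  unfold wbT
  have hh := S.hs_mem_HtB a hu
  rw [S.ws_eq_hs_mul a u, S.wbMk_mul (S.p11_HtB_le_WtB hh) (S.ws_mem_WtB a one_ne_zero),
    (S.wbMk_eq_one_iff (S.p11_HtB_le_WtB hh)).mpr hh, one_mul]

theorem wbR_sq {a b : Idx n} (hab : Rt a b) : S.wbR a b * S.wbR a b = 1 := by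
  have hw := S.w_mem_WtB hab (one_ne_zero (α := K))
  have hh := S.h_mem_HtB hab (neg_ne_zero.mpr (one_ne_zero (α := K)))
  unfold wbR
  rw [← S.wbMk_mul hw hw]
  have e : S.w a b 1 * S.w a b 1 = (S.h a b (-1))⁻¹ := by
    unfold OD.h
    rw [mul_inv_rev, S.toOD.w_inv hab, neg_neg]
  rw [e, S.wbMk_eq_one_iff (inv_mem (S.p11_HtB_le_WtB hh))]
  exact inv_mem hh

theorem wbT_sq (a : Idx n) : S.wbT a * S.wbT a = 1 := by
  have hw := S.ws_mem_WtB a (one_ne_zero (α := K))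
  have hh := S.hs_mem_HtB a (neg_ne_zero.mpr (one_ne_zero (α := K)))
  unfold wbT
  rw [← S.wbMk_mul hw hw]
  have e : S.ws a 1 * S.ws a 1 = (S.hs a (-1))⁻¹ := by
    unfold hs
    rw [mul_inv_rev, S.ws_inv, neg_neg]
  rw [e, S.wbMk_eq_one_iff (inv_mem (S.p11_HtB_le_WtB hh))]
  exact inv_mem hh

theorem wbR_inv {a b : Idx n} (hab : Rt a b) : (S.wbR a b)⁻¹ = S.wbR a b :=
  inv_eq_of_mul_eq_one_right (S.wbR_sq hab)

theorem wbT_inv (a : Idx n) : (S.wbT a)⁻¹ = S.wbT a :=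
  inv_eq_of_mul_eq_one_right (S.wbT_sq a)

theorem wbRT_rel (hn : 3 ≤ n) (H : S.P4Hyp) : WBRel S.wbR S.wbT := by
  have h1 : (1 : K) ≠ 0 := one_ne_zero
  refine ⟨⟨fun a b hab => S.wbR_sq hab, ?_, ?_, ?_⟩, fun a => S.wbT_sq a, ?_, ?_, ?_, ?_⟩
  · intro a b hab
    have e := S.toOD.w_swap hn hab h1
    change S.wbMk (S.w b a 1) = S.wbR a b
    rw [e]
    exact S.wbMk_w hab (neg_ne_zero.mpr (inv_ne_zero one_ne_zero))
  · intro a b hab
    have e := S.toOD.w_bar hab (-1 : K)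
    rw [neg_neg] at e
    change S.wbMk (S.w b.swap a.swap 1) = S.wbR a b
    rw [← e]
    exact S.wbMk_w hab (neg_ne_zero.mpr one_ne_zero)
  · intro a b c d hab hcd
    have hw := S.w_mem_WtB hab h1
    have hw' := S.w_mem_WtB hcd h1
    have hM := S.monB_w_of hn H hab h1
    have e := hM.conj_w hcd h1
    rw [MulAut.conj_apply] at e
    have hrt : Rt (sD a b c) (sD a b d) := hM.rt hcd
    have hne : cD a b (1 : K) c * (cD a b (1 : K) d)⁻¹ * 1 ≠ 0 :=
      mul_ne_zero (mul_ne_zero (hM.1 c) (inv_ne_zero (hM.1 d))) one_ne_zero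
    have e2 := S.wbMk_w hrt hne
    rw [← e, S.wbMk_conj hw hw'] at e2
    change S.wbR a b * S.wbR c d * (S.wbR a b)⁻¹ = _ at e2
    rw [S.wbR_inv hab] at e2
    exact e2
  · intro a
    have e := S.ws_swap_of H a h1
    rw [inv_one] at e
    change S.wbMk (S.ws a.swap 1) = S.wbMk (S.ws a 1)
    rw [e]
  · intro a b c hab
    have hw := S.w_mem_WtB hab h1
    have hw' := S.ws_mem_WtB c h1
    have hM := S.monB_w_of hn H hab h1
    have e := hM.conj_ws c h1
    rw [MulAut.conj_apply] at e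
    have hne : (1 : K) * cD a b (1 : K) c * 1 ≠ 0 :=
      mul_ne_zero (mul_ne_zero one_ne_zero (hM.1 c)) one_ne_zero
    have e2 := S.wbMk_ws (sD a b c) hne
    rw [← e, S.wbMk_conj hw hw'] at e2
    change S.wbR a b * S.wbT c * (S.wbR a b)⁻¹ = _ at e2
    rw [S.wbR_inv hab] at e2
    exact e2
  · intro a c d hcd
    have hw := S.ws_mem_WtB a h1
    have hw' := S.w_mem_WtB hcd h1
    have hM := S.monB_ws_of H a h1
    have e := hM.conj_w hcd h1
    rw [MulAut.conj_apply] at e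
    have hrt : Rt (sB a c) (sB a d) := hM.rt hcd
    have hne : cB a (1 : K) c * (cB a (1 : K) d)⁻¹ * 1 ≠ 0 :=
      mul_ne_zero (mul_ne_zero (hM.1 c) (inv_ne_zero (hM.1 d))) one_ne_zero
    have e2 := S.wbMk_w hrt hne
    rw [← e, S.wbMk_conj hw hw'] at e2
    change S.wbT a * S.wbR c d * (S.wbT a)⁻¹ = _ at e2
    rw [S.wbT_inv a] at e2
    exact e2
  · intro a c
    have hw := S.ws_mem_WtB a h1
    have hw' := S.ws_mem_WtB c h1
    have hM := S.monB_ws_of H a h1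
    have e := hM.conj_ws c h1
    rw [MulAut.conj_apply] at e
    have hne : (-1 : K) * cB a (1 : K) c * 1 ≠ 0 :=
      mul_ne_zero (mul_ne_zero (neg_ne_zero.mpr one_ne_zero) (hM.1 c)) one_ne_zero
    have e2 := S.wbMk_ws (sB a c) hne
    rw [← e, S.wbMk_conj hw hw'] at e2
    change S.wbT a * S.wbT c * (S.wbT a)⁻¹ = _ at e2
    rw [S.wbT_inv a] at e2
    exact e2

theorem wbMk_mem_wbQ_zero {g : Γ} (hg : g ∈ S.WtB) : S.wbMk g ∈ wbQ S.wbR S.wbT 0 := by
  have key : g ∈ S.WtB ∧ S.wbMk g ∈ wbQ S.wbR S.wbT 0 := by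
    unfold WtB at hg
    induction hg using Subgroup.closure_induction with
    | mem g hg =>
      rcases hg with ⟨k, l, u, hkl, hu, rfl⟩ | ⟨a, u, hu, rfl⟩
      · refine ⟨S.w_mem_WtB hkl hu, ?_⟩
        rw [S.wbMk_w hkl hu]
        exact wbQ_mem_r _ _ hkl (Nat.zero_le _) (Nat.zero_le _)
      · refine ⟨S.ws_mem_WtB a hu, ?_⟩
        rw [S.wbMk_ws a hu]
        exact wbQ_mem_t _ _ (Nat.zero_le _)
    | one =>
      refine ⟨one_mem _, ?_⟩
      rw [S.wbMk_one]
      exact one_mem _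
    | mul a b _ _ iha ihb =>
      refine ⟨mul_mem iha.1 ihb.1, ?_⟩
      rw [S.wbMk_mul iha.1 ihb.1]
      exact mul_mem iha.2 ihb.2
    | inv a _ ih =>
      refine ⟨inv_mem ih.1, ?_⟩
      rw [S.wbMk_inv ih.1]
      exact inv_mem ih.2
  exact key.2

/-- lifts of the coset representatives. -/
theorem wb_lift (hn : 3 ≤ n) (H : S.P4Hyp) {k : ℕ} (hk : k < n) {x : Idx n} (hx : k ≤ wdC x) :
    ∃ (g : Γ) (τ : Equiv.Perm (Idx n)) (b : Idx n → K) (ε : K), g ∈ S.WtB ∧
      S.wbMk g = wbRho S.wbR S.wbT (Sum.inl ⟨k, hk⟩) x ∧ S.MonB g τ b ε ∧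
      (∀ i : Fin n, i.val < k → τ (Sum.inl i) = Sum.inl i) ∧ τ (Sum.inl ⟨k, hk⟩) = x ∧
      (x = Sum.inl ⟨k, hk⟩ → g = 1 ∧ τ = 1) := by
  set p : Idx n := Sum.inl ⟨k, hk⟩ with hpdef
  have hp : wdC p = k := rfl
  by_cases h1 : x = p
  · refine ⟨1, 1, fun _ => 1, 1, one_mem _, ?_, S.monB_one, fun i _ => rfl, ?_, fun _ => ⟨rfl, rfl⟩⟩
    · rw [h1, wbRho_p, S.wbMk_one]
    · rw [h1]
      rfl
  by_cases h2 : x = p.swap
  · refine ⟨S.ws p 1, sB p, _, _, S.ws_mem_WtB p one_ne_zero, ?_, S.monB_ws_of H p one_ne_zero, ?_, ?_,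
      fun e => absurd e h1⟩
    · rw [h2, wbRho_pbar]
      rfl
    · intro i hi
      have hc : wdC (Sum.inl i : Idx n) = i.val := rfl
      exact p11_sB_of_wdC (by omega)
    · rw [h2]
      exact p11_sB_self p
  · have hxc : k + 1 ≤ wdC x := by
      by_contra hcon
      have : wdC x = wdC p := by omega
      rcases wdC_eq this with e | e
      · exact h1 e
      · exact h2 e
    have hpx : Rt p x := wd_rt_of_ne (by omega)
    refine ⟨S.w p x 1, sD p x, _, _, S.w_mem_WtB hpx one_ne_zero, ?_, S.monB_w_of hn H hpx one_ne_zero, ?_,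
      sD_k hpx, fun e => absurd e h1⟩
    · rw [wbRho_of_lt _ _ (by omega)]
      rfl
    · intro i hi
      have hc : wdC (Sum.inl i : Idx n) = i.val := rfl
      exact sD_oth (wd_oth_of_ne (by omega) (by omega))

theorem wb_main (hn : 3 ≤ n) (H : S.P4Hyp)
    (hmonH : ∀ g ∈ S.HtB, ∃ (a : Idx n → K) (ε : K), S.MonB g 1 a ε) :
    ∀ (j k : ℕ), k + j = n → ∀ (g : Γ) (hg : g ∈ S.WtB), S.wbMk g ∈ wbQ S.wbR S.wbT k →
      ∃ (σ : Equiv.Perm (Idx n)) (a : Idx n → K) (ε : K), S.MonB g σ a ε ∧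
        (∀ i : Fin n, i.val < k → σ (Sum.inl i) = Sum.inl i) ∧ (σ = 1 → g ∈ S.HtB) := by
  intro j
  induction j with
  | zero =>
    intro k hk g hg hq
    rw [wbQ_eq_bot _ _ (by omega), Subgroup.mem_bot, S.wbMk_eq_one_iff hg] at hq
    obtain ⟨a, ε, ha⟩ := hmonH g hq
    exact ⟨1, a, ε, ha, fun _ _ => rfl, fun _ => hq⟩
  | succ j ih =>
    intro k hk g hg hq
    have hkn : k < n := by omega
    obtain ⟨x, hx, hm⟩ := (S.wbRT_rel hn H).step (p := Sum.inl ⟨k, hkn⟩) rfl hq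
    obtain ⟨nx, τ, b, ε, hnx, hmk, hMon, hfix, hτp, hone⟩ := S.wb_lift hn H hkn hx
    have hg' : nx⁻¹ * g ∈ S.WtB := mul_mem (inv_mem hnx) hg
    have hq' : S.wbMk (nx⁻¹ * g) ∈ wbQ S.wbR S.wbT (k + 1) := by
      rw [S.wbMk_mul (inv_mem hnx) hg, S.wbMk_inv hnx, hmk]
      exact hm
    obtain ⟨σ', a', ε', hM', hfix', hone'⟩ := ih (k + 1) (by omega) _ hg' hq'
    have hM := hMon.mul hM'
    rw [mul_inv_cancel_left] at hM
    refine ⟨τ * σ', _, _, hM, ?_, ?_⟩
    · intro i hi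
      rw [Equiv.Perm.mul_apply, hfix' i (by omega), hfix i hi]
    · intro hσ
      have h1 : (τ * σ') (Sum.inl ⟨k, hkn⟩) = Sum.inl ⟨k, hkn⟩ := by
        rw [hσ]
        rfl
      rw [Equiv.Perm.mul_apply, hfix' ⟨k, hkn⟩ (Nat.lt_succ_self k), hτp] at h1
      obtain ⟨e1, e2⟩ := hone h1
      rw [e2, one_mul] at hσ
      have := hone' hσ
      rw [e1, inv_one, one_mul] at this
      exact this

end OB

/-- **P11, with the statements of piece P4 as a hypothesis**: an element of `W̃_B` acts monomially, and lies in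
`H̃_B` if its permutation is trivial. -/
theorem OB.mem_HtB_of_perm_one_of (hn : 3 ≤ n) (H : S.P4Hyp) {g : Γ} (hg : g ∈ S.WtB) :
    ∃ (σ : Equiv.Perm (Idx n)) (a : Idx n → K) (ε : K), S.MonB g σ a ε ∧ (σ = 1 → g ∈ S.HtB) := by
  have := S.wbHtW_normal (fun g hg h hh => S.p11_HtB_conj_mem hn H hg hh)
  obtain ⟨σ, a, ε, hM, _, h1⟩ := S.wb_main hn H (fun g hg => S.p11_exists_monB_of_mem_HtB hn H hg) n 0
    (by omega) g hg (S.wbMk_mem_wbQ_zero hg)
  exact ⟨σ, a, ε, hM, h1⟩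

end concrete

end Cfsg.Agent.CtRecB
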