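import Mathlib
import Cfsg.Agent.CtRecB.ObSt
import Cfsg.Agent.CtRecB.ObT
import Cfsg.Agent.CtRecB.ObG
import Cfsg.Agent.CtRecB.ObWa
import Cfsg.Agent.CtRecB.ObD
import Cfsg.Agent.CtRecB.ObSpin
import Cfsg.Agent.CtRecD.SchMain
import Cfsg.Agent.Helper7.SlR

set_option autoImplicit false
set_option linter.unusedSectionVars false
set_option linter.unusedVariables false

/-!
# S2094 (Schur multiplier of `PΩ_{2m+1}(q)`, `q` odd): the assembly (piece P15, helper9)

`stThetaB : St(B_m, K) → PΩ_{2m+1}(K)`; its kernel is `{1, h_a(-1)}`, of order `2`;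
`schur_pomega_B_of`: the Schur multiplier of `PΩ_{2m+1}(q)` is cyclic of order `2`, given the statements of pieces
P4 (`P4Hyp` for the Steinberg group), P7 (Bruhat decomposition) and P14 (central extensions of the Steinberg group
split).
-/

namespace Cfsg.Agent.CtRecB

open Cfsg.Agent.CtRecD

universe u

section general

variable {m : ℕ} {K : Type*} [Field K]

/-- homomorphisms of `OB`-systems respect `w_a(u)`. -/
theorem OB.map_ws {Γ Γ' : Type*} [Group Γ] [Group Γ'] (S : OB m K Γ) (S' : OB m K Γ') (f : Γ →* Γ')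
    (hf : ∀ a (t : K), f (S.y a t) = S'.y a t) (a : Idx m) (u : K) : f (S.ws a u) = S'.ws a u := by
  unfold OB.ws
  rw [map_mul, map_mul, hf, hf]

/-- homomorphisms of `OB`-systems respect `h_a(u)`. -/
theorem OB.map_hs {Γ Γ' : Type*} [Group Γ] [Group Γ'] (S : OB m K Γ) (S' : OB m K Γ') (f : Γ →* Γ')
    (hf : ∀ a (t : K), f (S.y a t) = S'.y a t) (a : Idx m) (u : K) : f (S.hs a u) = S'.hs a u := by
  unfold OB.hs
  rw [map_mul, OB.map_ws S S' f hf, OB.map_ws S S' f hf]

/-- **the homomorphism `St(B_m, K) → PΩ_{2m+1}(K)`.** -/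
noncomputable def stThetaB (hm : 3 ≤ m) : StB m K →* Cfsg.POmega K (Cfsg.quadFormOdd m K) :=
  (QuotientGroup.mk' (Subgroup.center ↥(Cfsg.Omega K (Cfsg.quadFormOdd m K)))).comp (stToOmegaB hm)

theorem stThetaB_surjective [Finite K] (hm : 3 ≤ m) (h2 : (2 : K) ≠ 0) :
    Function.Surjective (stThetaB (K := K) hm) :=
  (QuotientGroup.mk'_surjective _).comp (stToOmegaB_surjective hm h2)

/-- the centre of `Ω_{2m+1}(K)` is trivial: the kernel of `θ` is the kernel of the map to the matrices. -/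
theorem stThetaB_ker_iff [Finite K] (hm : 3 ≤ m) (h2 : (2 : K) ≠ 0) (c : StB m K) :
    c ∈ (stThetaB hm).ker ↔ stToMatB m K c = 1 := by
  rw [MonoidHom.mem_ker]
  show (QuotientGroup.mk' _) (stToOmegaB hm c) = 1 ↔ _
  rw [← MonoidHom.mem_ker, QuotientGroup.ker_mk', omegaOdd_center_of_finite hm h2, Subgroup.mem_bot,
    stToMatB_eq_one_iff hm]

end general

/-- **the Schur multiplier of `PΩ_{2m+1}(q)`, `q` odd, `m ≥ 3`, is cyclic of order `2`**, given the statements of piece P4
for the Steinberg group, its Bruhat decomposition (P7) and the splitting of its central extensions (P14). -/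
theorem schur_pomega_B_of {F : Type u} [Field F] [Fintype F] {m : ℕ} (hm : 3 ≤ m) (h2 : (2 : F) ≠ 0)
    (H : (stOB m F).P4Hyp)
    (hbruhat : ∀ g : StB m F, ∃ u ∈ (stOB m F).UtB, ∃ w ∈ (stOB m F).WtB, ∃ u' ∈ (stOB m F).UtB,
      g = u * w * u')
    (hsplit : ∀ (E : Type u) [Group E] (ψ : E →* StB m F), Function.Surjective ψ →
      ψ.ker ≤ Subgroup.center E → ∃ τ : StB m F →* E, ψ.comp τ = MonoidHom.id (StB m F)) :
    Cfsg.HasCyclicSchurMultiplier (Cfsg.POmega F (Cfsg.quadFormOdd m F)) 2 := by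
  set S := stOB m F with hS
  set φ := stToMatB m F with hφdef
  have hφ : S.IsMat φ := stToMatB_isMat
  have hgen : Subgroup.closure S.gensB = ⊤ := stOB_gens m F
  have hP8 : ∀ c : StB m F, φ c = 1 → c ∈ S.WtB ∧ ∀ g, g * c = c * g := by
    intro c hc
    have r := S.ker_central_B_of hm h2 hgen φ hφ H hbruhat
      (fun g hg i => (S.UtB_shape φ hφ hg).1 i) (fun g hg h => S.UtB_inj φ hφ h2 hg h) hc
    exact ⟨r.1, r.2.1⟩
  have hP11 : ∀ g : StB m F, g ∈ S.WtB → ∃ (σ : Equiv.Perm (Idx m)) (a : Idx m → F) (ε : F),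
      S.MonB g σ a ε ∧ (σ = 1 → g ∈ S.HtB) := fun g hg => S.mem_HtB_of_perm_one_of hm H hg
  let a0 : Idx m := Sum.inl ⟨0, by omega⟩
  set z : StB m F := S.hs a0 (-1) with hzdef
  have hz : φ z = 1 := S.phi_hs_neg_one_of hm φ hφ H a0
  have hcases : ∀ c, φ c = 1 → c = 1 ∨ c = z :=
    fun c hc => S.ker_cases_B_of hm h2 hgen φ hφ H hP8 hP11 a0 hc
  have hz1 : z ≠ 1 := by
    intro h
    obtain ⟨M, _, S', hS'⟩ := exists_OB_z_ne_one (m := m) (K := F) h2
    have e := OB.map_hs S S' (stLiftB S') (fun a t => stLiftB_y S' a t) a0 (-1)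
    rw [← hzdef, h, map_one] at e
    exact hS' a0 e.symm
  have hθs := stThetaB_surjective (K := F) hm h2
  have hθc : (stThetaB (K := F) hm).ker ≤ Subgroup.center (StB m F) := by
    intro c hc
    rw [stThetaB_ker_iff hm h2] at hc
    rw [Subgroup.mem_center_iff]
    exact (hP8 c hc).2
  haveI : Finite (StB m F) := by
    apply stB_finite_of hm
    intro c hc
    rw [MonoidHom.mem_ker, ← stToMatB_eq_one_iff hm] at hc
    rw [Subgroup.mem_center_iff]
    exact (hP8 c hc).2
  have hzz : z * z = 1 := by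
    have : φ (z * z) = 1 := by rw [map_mul, hz, one_mul]
    rcases hcases _ this with h | h
    · exact h
    · exfalso
      apply hz1
      have := congrArg (fun x => z⁻¹ * x) h
      simpa using this
  have hord : orderOf z = 2 := orderOf_eq_prime (by rw [pow_two]; exact hzz) hz1
  have hker : (stThetaB (K := F) hm).ker = Subgroup.zpowers z := by
    apply le_antisymm
    · intro c hc
      rw [stThetaB_ker_iff hm h2] at hc
      rcases hcases c hc with h | h
      · rw [h]
        exact one_mem _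
      · rw [h]
        exact Subgroup.mem_zpowers _
    · rw [Subgroup.zpowers_le, stThetaB_ker_iff hm h2]
      exact hz
  obtain ⟨e⟩ := zmod_equiv_of_zpowers (stThetaB (K := F) hm).ker z hker 2 hord
  refine Cfsg.Agent.Helper7.Sl.schur_of_universal_fin (stThetaB hm) hθs hθc (stB_perfect hm) ?_ e
  intro Γ _ _ σ hσs hσc
  refine Cfsg.Agent.Helper7.Sl.exists_lift_central σ hσs hσc (stThetaB hm) ?_
  intro P ψ hψs hψc
  exact hsplit ↥P ψ hψs hψc

end Cfsg.Agent.CtRecB
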