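import Mathlib
import Cfsg.Agent.CtRecB.ObE
import Cfsg.Agent.CtRecB.ObG
import Cfsg.Agent.CtRecB.ObSt

set_option autoImplicit false
set_option linter.unusedSectionVars false
set_option linter.unusedVariables false

/-!
# S2094 (helper8): the wrapper `OB.ker_central_B` (pieces P4, P6, P7, P8 plugged together) and its
consequences for the Steinberg group of type `B_m`: the kernel of `St(B_m, K) → Ω_{2m+1}(K)` is central, and
the Steinberg group over a finite field is finite.
-/

namespace Cfsg.Agent.CtRecB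

open Matrix Cfsg.Agent.CtRecD

variable {m : ℕ} {K : Type*} [Field K] {Γ : Type*} [Group Γ] (S : OB m K Γ)

/-- **the kernel of the homomorphism to the matrices is central, contained in `W̃` and monomial with
trivial permutation** (`m ≥ 3`, `2 ≠ 0`): the plan's `ker_central_B`. -/
theorem OB.ker_central_B (hm : 3 ≤ m) (h2 : (2 : K) ≠ 0) (hgen : Subgroup.closure S.gensB = ⊤)
    (φ : Γ →* Matrix (IdxB m) (IdxB m) K) (hφ : S.IsMat φ) {c : Γ} (hc : φ c = 1) :
    c ∈ S.WtB ∧ (∀ g, g * c = c * g) ∧ ∃ (a : Idx m → K) (ε : K), S.MonB c 1 a ε :=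
  S.ker_central_B_of hm h2 hgen φ hφ (S.p4Hyp hm) (S.bruhatB hm hgen)
    (fun g hg => (S.UtB_shape φ hφ hg).1) (fun g hg h => S.UtB_inj φ hφ h2 hg h) hc

/-- **the kernel of `St(B_m, K) → Ω_{2m+1}(K)` is central and contained in `W̃`** (`m ≥ 3`, `2 ≠ 0`). -/
theorem stB_ker_central (hm : 3 ≤ m) (h2 : (2 : K) ≠ 0) {c : StB m K}
    (hc : stToMatB m K c = 1) : c ∈ (stOB m K).WtB ∧ ∀ g, g * c = c * g := by
  have h := (stOB m K).ker_central_B hm h2 (stOB_gens m K) (stToMatB m K) stToMatB_isMat hc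
  exact ⟨h.1, h.2.1⟩

theorem stToOmegaB_ker_le_center (hm : 3 ≤ m) (h2 : (2 : K) ≠ 0) :
    (stToOmegaB (K := K) hm).ker ≤ Subgroup.center (StB m K) := by
  intro c hc
  rw [MonoidHom.mem_ker] at hc
  rw [Subgroup.mem_center_iff]
  exact (stB_ker_central hm h2 ((stToMatB_eq_one_iff hm c).mpr hc)).2

/-- the Steinberg group of type `B_m` over a finite field of odd characteristic is finite (`m ≥ 3`). -/
theorem stB_finite [Finite K] (hm : 3 ≤ m) (h2 : (2 : K) ≠ 0) : Finite (StB m K) :=
  stB_finite_of hm (stToOmegaB_ker_le_center hm h2)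

end Cfsg.Agent.CtRecB
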